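import Cfsg.Agent.MK.Y.CoreI_m3
import Cfsg.Agent.MK.T.D_m3
import Cfsg.Agent.TAB.Sm2.M11_m3
import Cfsg.Agent.TAB.Sm2.M24_m3
import Cfsg.Agent.S2060
import Cfsg.Agent.S2061
import Cfsg.Agent.S2062
import Cfsg.Agent.S2063
import Cfsg.Agent.S2064
import Cfsg.Agent.QTNorm.Main
import Cfsg.Agent.QTNorm.SporM12
import Cfsg.Agent.QTNorm.SporM22S
import Cfsg.Agent.QTNorm.SporJ4
import Cfsg.Agent.H868.SelfN23
import Cfsg.Agent.H916.RG.D12in
import Cfsg.Agent.H882.Del.M11Grp
import Cfsg.Agent.Omega.TwoF.RowM12_m3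
import Cfsg.Agent.UGT.A7.Mu_m3
import Cfsg.Agent.H399.Gen.RowM24
import Cfsg.Agent.H729.M24Deg
import Cfsg.Agent.H729.TransFast
import Cfsg.Agent.MK.Sp2.Wey_m3
import Cfsg.Agent.MK.A.Six_m3
import Cfsg.Agent.H65.Ore.Split_m3
import Cfsg.Agent.TAB.J4.Main_m3
import Cfsg.Agent.TAB.F23C.Main
import Cfsg.Agent.H799.RowsTwoB_m3
import Cfsg.Agent.KFacts.MulFi24.Double
import Cfsg.Agent.S1697
import Cfsg.Agent.S2080
import Cfsg.Agent.MK.S7.Cov
import Cfsg.Agent.TAB.F24C.Main
import Cfsg.Agent.MK.T.A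
import Cfsg.Agent.TAB.F24.Use_m3
import Cfsg.Agent.Lib.ListFast
import Cfsg.Agent.Prune
set_option linter.all false

-- part: MK/S1/Rows
section
set_option linter.all false
open scoped Cfsg.Agent.FastGrp

/-!
# MK, the rows of the Mathieu groups (helper44)

`m11`, `m12`, `m22`, `m23`, `m24`.
-/

set_option autoImplicit false
set_option maxRecDepth 100000
set_option synthInstance.maxSize 2000

namespace Cfsg.Agent.MK.S1

open Cfsg Subgroup Cfsg.Agent.MK.T Cfsg.Agent.MK.S Cfsg.Agent.TAB Cfsg.Agent.TAB.Sm2 Cfsg.Agent.TAB.Use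
open Cfsg.Agent.TAB.Eng
open Cfsg.Agent.SporadicA.GolayBase Cfsg.Agent.SporadicA.GolayPerm Cfsg.Agent.SporadicStructure.M24El
open scoped Pointwise

theorem fin24 : Finite M24 := Nat.finite_of_card_ne_zero (by rw [Sm2.M24.card_eq]; decide)

theorem center_of_simple {G : Type} [Group G] (h : IsSimpleGroup G) {n : ℕ} (hn : Nat.card G = n) (hp : ¬ n.Prime) :
    center G = ⊥ := by
  refine ((inferInstance : (center G).Normal).eq_bot_or_eq_top).resolve_right fun e => hp ?_
  have : Finite G := Nat.finite_of_card_ne_zero fun h0 => by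
    let _ : CommGroup G := Group.commGroupOfCenterEqTop e
    exact Nat.not_prime_zero (h0 ▸ IsSimpleGroup.prime_card)
  let _ : CommGroup G := Group.commGroupOfCenterEqTop e
  exact hn ▸ IsSimpleGroup.prime_card

/-- the value of a character on a row of norm one -/
theorem rel_row {G : Type} [Group G] {D : Dat} {T : TD G D} {A B : List (List ℤ)} {χ : ℕ → G → ℂ}
    (h : Rel T (mkRows A B) χ) {j : ℕ} (hj : j < A.length) (g : G) : χ j g = ((rw' A B j).getD (T.ty g) 0 : ℤ) := by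
  have h1 := h ([(j, 1)], rw' A B j) (List.mem_append_left _ (List.mem_map.2 ⟨j, List.mem_range.2 hj, rfl⟩)) g
  simpa using h1

/-- the sum of the two characters of a row of norm two -/
theorem rel_two {G : Type} [Group G] {D : Dat} {T : TD G D} {A B : List (List ℤ)} {χ : ℕ → G → ℂ}
    (h : Rel T (mkRows A B) χ) {j : ℕ} (hj : j < B.length) (g : G) :
    χ (A.length + 2 * j) g + χ (A.length + 2 * j + 1) g = ((rw' A B (A.length + j)).getD (T.ty g) 0 : ℤ) := by
  have h1 := h (_, rw' A B (A.length + j)) (List.mem_append_right _ (List.mem_map.2 ⟨j, List.mem_range.2 hj, rfl⟩)) g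
  simpa using h1

/-! ### `M11`, `M23`, `M24` -/

theorem m11 : SmS Spor.M11 := fun _ => by
  have := fin24
  have := Finite.of_injective _ M11.inc_inj
  refine sm_of_one (center_of_simple H882.Grp.simple11 M11.card_eq (by show ¬ Nat.Prime 7920; norm_num)) S2060.result
    ((m0_iff (QTNorm.selfN_m11 ⟨MulEquiv.refl _⟩)).2 ?_)
  rw [k0_of_degList M11.deg, a2_of_gl M11.inc M11.inc_inj k11 (k := 495) ?_ (by decide) M11.card_eq]
  · rfl
  · have h : ∀ P ∈ g11, ∀ S ∈ [340831, 1], pimg P S = S := by (rewrite [Cfsg.Agent.GolayF.pimg_eq]; decide +kernel)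
    exact fun P hP ho => M11.hmem _ fun S hS => by rw [el_smul_fin ho, h P hP S hS]

theorem fix22 : ∀ P ∈ g22, papp P 23 = 23 ∧ papp P 0 = 0 := by (rewrite [Cfsg.Agent.GolayF.papp_eq]; decide +kernel)

theorem m23 : SmS Spor.M23 := fun _ => by
  have := fin24
  have := Finite.of_injective _ H334.Ore.M23.inc23_injective
  refine sm_of_one UGT.MTwentyThree.LB.center_bot S2063.result ((m0_iff H868.selfN_M23).2 ?_)
  rw [k0_of_degList M23.deg, a2_of_gl _ H334.Ore.M23.inc23_injective k22 (k := 79695) ?_ (by decide) M23.card_eq]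
  · rfl
  · exact fun P hP ho => ⟨⟨el P, (el P).2, (el_smul_pt ho none).trans (congrArg pt (fix22 P hP).1)⟩, rfl⟩

theorem m24 : SmS M24 := fun _ => by
  have := fin24
  refine sm_of_one H399.Gen.RowM24.center24 S2064.result ((m0_iff (QTNorm.selfN_m24 ⟨MulEquiv.refl _⟩)).2 ?_)
  rw [k0_of_degList Sm2.M24.deg, a2_of_gl (MonoidHom.id _) Function.injective_id k24 (k := 239085)
    (fun P _ _ => ⟨_, rfl⟩) (by decide) Sm2.M24.card_eq]
  rfl

/-! ### `M22` -/

section

open Cfsg.Agent.KFacts.MM.OutAut Cfsg.Agent.J4Type.Aut22 Cfsg.Agent.H729.M22Deg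

theorem fin22 : Finite Spor.M22 := have := fin24; Finite.of_injective _ inc_injective

theorem center22 : center Spor.M22 = ⊥ :=
  center_of_simple SporadicA.MathieuRecog.simple_M22 card_M22 (by norm_num)

theorem a2_22 : a2 Spor.M22 = 8 := by
  have := fin24
  exact a2_of_gl inc inc_injective k22 (k := 3465) (fun P hP ho => exists_el ho (fix22 P hP).1 (fix22 P hP).2)
    (by decide) card_M22

theorem k0_22 : k0 Spor.M22 = 8 := k0_of_degList M22.deg

theorem mem22 {P : ℕ} (ho : ok P = true) (h : (papp P 23 = 23 ∧ papp P 0 = 0) ∨ (papp P 23 = 0 ∧ papp P 0 = 23)) :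
    (el P : Equiv.Perm GolayPt) ∈ D22 :=
  (mem_D22_iff _).2 ⟨(el P).2, h.imp
    (fun h => ⟨(el_smul_pt ho none).trans (congrArg pt h.1), (el_smul_pt ho (some 0)).trans (congrArg pt h.2)⟩)
    fun h => ⟨(el_smul_pt ho none).trans (congrArg pt h.1), (el_smul_pt ho (some 0)).trans (congrArg pt h.2)⟩⟩

theorem a2_aut22 : a2 (MulAut Spor.M22) = 16 := by
  have := fin24
  have := fin22
  refine a2_of_gl (emb.codRestrict M24 fun α => ((mem_D22_iff _).1 (ind_mem α)).1)
    (fun a b h => emb_inj (congrArg Subtype.val h)) k22a (k := 3465) (fun P hP ho => ?_) (by decide) ?_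
  · have h : ∀ P ∈ g22a, (papp P 23 = 23 ∧ papp P 0 = 0) ∨ (papp P 23 = 0 ∧ papp P 0 = 23) := by (rewrite [Cfsg.Agent.GolayF.papp_eq]; decide +kernel)
    obtain ⟨α, hα⟩ := emb_range.ge (mem22 ho (h P hP))
    exact ⟨α, Subtype.ext hα⟩
  · rw [card_aut center22 S2062.result, card_M22]
    rfl

/-- the automorphism induced by an element which interchanges the two points -/
theorem exists_out22 {a : ℕ} (ho : ok a = true) (h : papp a 23 = 0 ∧ papp a 0 = 23) : ∃ α : MulAut Spor.M22,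
    α ∉ (MulAut.conj : Spor.M22 →* MulAut Spor.M22).range ∧ ∀ x, inc (α x) = el a * inc x * (el a)⁻¹ := by
  refine ⟨autOf _ (mem22 ho (Or.inr h)), ?_, fun x => rfl⟩
  rintro ⟨m, hm⟩
  have h1 : emb (autOf _ (mem22 ho (Or.inr h))) = el a := ind_eq (mem22 ho (Or.inr h)) fun m => rfl
  rw [← hm, emb_conj] at h1
  have h2 : (m : Equiv.Perm GolayPt) none = none := m.2.1.2
  have h3 := (el_smul_pt ho none).trans (congrArg pt h.1)
  rw [coe_smul_pt, ← h1, h2] at h3
  exact absurd h3 (by decide)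

private noncomputable def _root_.Cfsg.Agent.GolayF.f0 : {f // @Cfsg.Agent.H729.MData.ppow = f} :=
  ⟨_, by delta Cfsg.Agent.H729.MData.ppow Cfsg.Agent.H729.MData.ppow._f; rewrite [Cfsg.Agent.GolayF.pcomp_eq]; exact rfl⟩

theorem f0_22 : ∃ α ∉ (MulAut.conj : Spor.M22 →* MulAut Spor.M22).range, f0 α = 8 := by
  have := fin22
  have h1 : ok 24845578109244385367080640692979767 = true := by (rewrite [Cfsg.Agent.GolayF.ok_eq]; decide +kernel)
  have h2 : ok (M22.cf 6) = true := by (rewrite [Cfsg.Agent.GolayF.ok_eq]; decide +kernel)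
  obtain ⟨α, hα, h3⟩ := exists_out22 h1 (by (rewrite [Cfsg.Agent.GolayF.papp_eq]; decide +kernel))
  obtain ⟨x, hx⟩ := exists_el h2 (by (rewrite [Cfsg.Agent.GolayF.papp_eq]; decide +kernel)) (by (rewrite [Cfsg.Agent.GolayF.papp_eq]; decide +kernel))
  have h4 : α x = x := inc_injective (by
    rw [h3, hx, mul_inv_eq_iff_eq_mul, ← el_pcomp h1 h2, ← el_pcomp h2 h1]
    exact congrArg el (by (rewrite [Cfsg.Agent.GolayF.pcomp_eq]; decide +kernel)))
  obtain ⟨T, -, ⟨χ, hE, hR⟩, -⟩ := M22.tab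
  have h5 : T.ty x = 7 := by
    have h6 := T.ord x
    rw [← orderOf_injective inc inc_injective, hx,
      H729.M24Deg.orderOf_el (p := 7) (by decide) h2 (by (rewrite [Cfsg.Agent.GolayF.f0.2]; decide +kernel)) 2 (by decide) (by (rewrite [Cfsg.Agent.GolayF.papp_eq]; decide +kernel))] at h6
    exact (by decide +kernel : ∀ t < M22.dat.n, 7 = M22.dat.ord t → t = 7) _ (T.lt x) h6
  have h6 : χ 8 x + χ 9 x = (-1 : ℤ) := by
    have h7 := rel_two hR (j := 0) (by decide) x
    rwa [h5] at h7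
  have h7 : χ 8 x ≠ χ 9 x := fun e => by
    rw [← e] at h6
    exact absurd (even_of_integral (Characters.GaloisBasic.isIntegral_apply
      (Characters.Core.isIrr_isCharacter (hE.irr 8 (by decide +kernel))) x) h6) (by decide)
  refine ⟨α, hα, (f0_eq_of_all fun ψ hψ z => ?_).trans k0_22⟩
  obtain ⟨j, hj, rfl⟩ := hE.all ψ hψ.1
  obtain ⟨i, hi, h8, h9⟩ := enum_perm hE α hj
  have h10 := hψ.2
  rw [ODD.Red.charDegree_of (hE.deg j hj)] at h10
  rcases (by decide +kernel : ∀ j < (mkRows M22.rA M22.rB).n, ∀ i < (mkRows M22.rA M22.rB).n,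
    (mkRows M22.rA M22.rB).d i = (mkRows M22.rA M22.rB).d j ∧ (mkRows M22.rA M22.rB).d j % 2 = 1 →
      i = j ∨ (i = 8 ∧ j = 9) ∨ (i = 9 ∧ j = 8)) j hj i hi ⟨h8, Nat.odd_iff.1 h10⟩ with rfl | ⟨rfl, rfl⟩ | ⟨rfl, rfl⟩
  · exact h9 z
  · exact absurd ((h9 x).symm.trans (congrArg _ h4)) h7
  · exact absurd ((congrArg _ h4).symm.trans (h9 x)) h7

theorem m22 : SmS Spor.M22 := fun _ => by
  have := fin22
  obtain ⟨α, h1, h2⟩ := f0_22
  exact sm_of_self center22 S2062.result QTNorm.selfN_M22 (k0_22.trans a2_22.symm) h1 (by rw [h2, a2_aut22])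

end

/-! ### `M12` -/

private noncomputable def _root_.Cfsg.Agent.GolayF.f1 : {f // @Cfsg.Agent.H729.Trans.pre = f} :=
  ⟨_, by delta Cfsg.Agent.H729.Trans.mk Cfsg.Agent.H729.Trans.mk._f Cfsg.Agent.H729.Trans.pre Cfsg.Agent.H729.Trans.srcOk Cfsg.Agent.H729.Trans.srcOk._f Cfsg.Agent.H729.Trans.wdOk; rewrite [Cfsg.Agent.GolayF.isCode_eq, Cfsg.Agent.GolayF.ok_eq, Cfsg.Agent.GolayF.pw_eq]; exact rfl⟩

private noncomputable def _root_.Cfsg.Agent.GolayF.f2 : {f // @Cfsg.Agent.H916.RG.Eng.dif = f} :=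
  ⟨_, by delta Cfsg.Agent.H916.RG.Eng.dif; rewrite [Cfsg.Agent.GolayF.papp_eq]; exact rfl⟩

theorem hcen12 (τ : M24) (h : ∀ g : Spor.M12, τ * M12.inc g = M12.inc g * τ) : τ = 1 := by
  have h1 : ∀ c, ok c = true → pimg c 340831 = 340831 → τ * el c = el c * τ := fun c hc hc' => by
    obtain ⟨x, hx⟩ := M12.hmem (el c) fun S hS => by rw [List.mem_singleton.1 hS, el_smul_fin hc, hc']
    exact hx ▸ h x
  exact H916.RG.Eng.cen_of_search (p := 11) (c := H916.RG.D12.cen.c) (wd := H916.RG.D12.cen.wd)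
    (sts := H916.RG.D12.cen.sts) (d := H916.RG.D12.cd) (by (rewrite [Cfsg.Agent.GolayF.f1.2]; decide +kernel)) (by (rewrite [Cfsg.Agent.GolayF.ok_eq]; decide +kernel)) (by decide +kernel)
    (by (rewrite [Cfsg.Agent.GolayF.f2.2, Cfsg.Agent.GolayF.pcomp_eq, Cfsg.Agent.GolayF.tl_eq]; decide +kernel)) τ (h1 _ (by (rewrite [Cfsg.Agent.GolayF.ok_eq]; decide +kernel)) (by (rewrite [Cfsg.Agent.GolayF.pimg_eq]; decide +kernel))) (h1 _ (by (rewrite [Cfsg.Agent.GolayF.ok_eq]; decide +kernel)) (by (rewrite [Cfsg.Agent.GolayF.pimg_eq]; decide +kernel)))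

theorem mem_range12 (g : M24) : g ∈ M12.inc.range ↔ g • fin 340831 = fin 340831 :=
  ⟨by rintro ⟨x, rfl⟩; exact M12.fixS x, fun h => M12.hmem g fun S hS => by rwa [List.mem_singleton.1 hS]⟩

theorem norm12 [Finite M24] {P : ℕ} (ho : ok P = true) (h : pimg P 340831 = 340831 ∨ pimg P 16436384 = 340831) :
    el P ∈ normalizer (M12.inc.range : Set M24) := by
  rcases h with h | h
  · exact le_normalizer ((mem_range12 _).2 (by rw [el_smul_fin ho, h]))
  · refine mem_normalizer_fintype fun g hg => (mem_range12 _).2 ?_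
    have h1 : fin 16436384 = (fin 340831)ᶜ := by decide +kernel
    have h2 : el P • fin 16436384 = fin 340831 := by rw [el_smul_fin ho, h]
    have h3 : g • fin 16436384 = fin 16436384 := by
      ext p
      rw [← Finset.inv_smul_mem_iff, h1, Finset.mem_compl, Finset.mem_compl, Finset.inv_smul_mem_iff,
        (mem_range12 g).1 hg]
    rw [mul_smul, mul_smul, inv_smul_eq_iff.2 h2.symm, h3, h2]

theorem m12 : SmS Spor.M12 := fun _ => by
  have := fin24
  have := Finite.of_injective _ M12.inc_inj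
  obtain ⟨ρ, hρ, hρ'⟩ := exists_act M12.inc M12.inc_inj hcen12
  have h1 : ok 688112451171162069113470035094621941 = true := by (rewrite [Cfsg.Agent.GolayF.ok_eq]; decide +kernel)
  let α := ρ ⟨_, norm12 h1 (by (rewrite [Cfsg.Agent.GolayF.pimg_eq]; decide +kernel))⟩
  obtain ⟨T, hm, h2, h3, h4, h5⟩ := exists_T (tp := fun i => M12.tpL.getD i 0) (bx := fun t => M12.bxL.getD t (0, 0))
    M12.inc_inj M12.inv₁ M12.inv₂ (D := M12.dat) M12.card_eq (by decide +kernel) (by decide +kernel)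
    (by decide +kernel) M12.reps M12.hT (by decide +kernel) (by decide +kernel) (by decide +kernel)
  obtain ⟨χ, hE, hR⟩ : Tab T (mkRows M12.rA M12.rB) := tab_of_rows hm h4 (virt_rows M12.card_eq (fun sd hs => by
    simp only [List.mem_cons, List.not_mem_nil, or_false] at hs
    rcases hs with rfl | rfl
    · exact h2
    · exact h3) (by decide +kernel) M12.hC) (by decide +kernel)
  obtain ⟨x, hx, hx', -⟩ := h5 4 (by decide) (by decide +kernel)
  obtain ⟨y, hy, hy', -⟩ := h5 5 (by decide) (by decide +kernel)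
  replace hx' : T.ty x = 5 := hx'
  replace hy' : T.ty y = 6 := hy'
  have h6 : α x = y := M12.inc_inj (by
    have h7 : ok (M12.cf 4) = true := by (rewrite [Cfsg.Agent.GolayF.ok_eq]; decide +kernel)
    have h8 : ok (M12.cf 5) = true := by (rewrite [Cfsg.Agent.GolayF.ok_eq]; decide +kernel)
    rw [hρ', hx, hy, mul_inv_eq_iff_eq_mul, ← el_pcomp h1 h7, ← el_pcomp h8 h1]
    exact congrArg el (by (rewrite [Cfsg.Agent.GolayF.pcomp_eq]; decide +kernel)))
  have mv : ∀ j < M12.rA.length, (rw' M12.rA M12.rB j).getD 6 0 ≠ (rw' M12.rA M12.rB j).getD 5 0 →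
      ¬ ∀ z, χ j (α z) = χ j z := fun j hj h7 h8 => by
    have h9 := h8 x
    rw [h6, rel_row hR hj, rel_row hR hj, hx', hy'] at h9
    exact h7 (Int.cast_injective h9)
  have hα : α ∉ (MulAut.conj : Spor.M12 →* MulAut Spor.M12).range := by
    rintro ⟨m, e⟩
    exact mv 1 (by decide) (by decide) fun z =>
      e ▸ Characters.Core.isIrr_isClassFunction (hE.irr 1 (by decide +kernel)) z m
  refine sm_of_self Omega.TwoF.RowM12.center_eq S2061.result (QTNorm.selfN_m12 ⟨MulEquiv.refl _⟩) ?_ hα ?_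
  · rw [k0_of_degList M12.deg, a2_of_gl M12.inc M12.inc_inj k12 (k := 1485) ?_ (by decide) M12.card_eq]
    · rfl
    · have h : ∀ P ∈ g12, pimg P 340831 = 340831 := by (rewrite [Cfsg.Agent.GolayF.pimg_eq]; decide +kernel)
      exact fun P hP ho => (mem_range12 _).2 (by rw [el_smul_fin ho, h P hP])
  · have h : ∀ P ∈ g12a, pimg P 340831 = 340831 ∨ pimg P 16436384 = 340831 := by (rewrite [Cfsg.Agent.GolayF.pimg_eq]; decide +kernel)
    rw [a2_aut_of_gl ρ hρ k12a (k := 1485) (fun P hP ho => norm12 ho (h P hP)) (by decide)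
      (by rw [card_aut Omega.TwoF.RowM12.center_eq S2061.result, M12.card_eq]; rfl),
      f0_enum hE (q := fun j => decide (j ∉ [1, 2, 5, 6])) fun j hj ho => ?_]
    · decide +kernel
    · rw [decide_eq_true_iff]
      refine ⟨fun h7 h8 => ?_, fun h7 z => ?_⟩
      · simp only [List.mem_cons, List.not_mem_nil, or_false] at h8
        rcases h8 with rfl | rfl | rfl | rfl <;> exact mv _ (by decide) (by decide) h7
      · obtain ⟨i, hi, h8, h9⟩ := enum_perm hE α hj
        rcases (by decide +kernel : ∀ j < (mkRows M12.rA M12.rB).n, ∀ i < (mkRows M12.rA M12.rB).n,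
          (mkRows M12.rA M12.rB).d i = (mkRows M12.rA M12.rB).d j ∧ (mkRows M12.rA M12.rB).d j % 2 = 1 →
            100 * j + i ∈ [705, 706] ∨ i = j ∨ j ∈ [1, 2, 5, 6]) j hj i hi ⟨h8, Nat.odd_iff.1 ho⟩ with h10 | rfl | h10
        rotate_left
        · exact h9 z
        · exact absurd h10 h7
        · have h11 := h9 (x ^ 2)
          have h12 : T.ty (x ^ 2) = 2 := by rw [T.pow, hx']; decide +kernel
          have h13 : T.ty (y ^ 2) = 2 := by rw [T.pow, hy']; decide +kernel
          have h14 : (mkRows M12.rA M12.rB).n = 15 := by decide +kernel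
          simp only [List.mem_cons, List.not_mem_nil, or_false] at h10
          rcases (by omega : (j = 7 ∧ i = 5) ∨ (j = 7 ∧ i = 6)) with ⟨rfl, rfl⟩ | ⟨rfl, rfl⟩ <;>
            rw [map_pow, h6, rel_row hR (by decide), h13, rel_row hR (by decide), h12] at h11 <;>
            exact absurd (Int.cast_injective h11) (by decide)

end Cfsg.Agent.MK.S1
end

-- part: MK/S1/Cov
section
set_option linter.all false
open scoped Cfsg.Agent.FastGrp

/-!
# MK, the row of the triple cover of `M22` (helper44)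
-/

set_option autoImplicit false
set_option maxRecDepth 100000

namespace Cfsg.Agent.MK.S1

open Cfsg Subgroup Cfsg.Agent.MK.T Cfsg.Agent.MK.S Cfsg.Agent.TAB Cfsg.Agent.TAB.Sm2 Cfsg.Agent.TAB.Use
open Cfsg.Agent.TAB.Eng Cfsg.Agent.H729.M22Deg
open Cfsg.Agent.SporadicA.GolayBase Cfsg.Agent.SporadicA.GolayPerm Cfsg.Agent.SporadicStructure.M24El

/-- the table with rational types -/
theorem tab22 : ∃ T : TD Spor.M22 M22.dat, T.Mass ∧ ON.Rat T ∧ One T 8 ∧ ∀ r ∈ M22.rA ++ M22.rB, Virt T (nth r) := by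
  have := fin22
  obtain ⟨T, hm, h1, h2, -, h4⟩ := exists_T (tp := fun i => M22.tpL.getD i 0) (bx := fun t => M22.bxL.getD t (0, 0))
    inc_injective M22.inv₁ M22.inv₂ (D := M22.dat) M22.card_eq (by decide +kernel) (by decide +kernel)
    (by decide +kernel) M22.reps M22.hT (by decide +kernel) (by decide +kernel) (by decide +kernel)
  have h5 : ∀ i < 11, M22.dat.cnt (M22.tpL.getD i 0) * M22.nL.getD i 0 ≤ M22.dat.N → One T (M22.tpL.getD i 0) :=
    fun i hi h => by
      obtain ⟨x, -, h6, h7⟩ := h4 i hi ((by decide +kernel : ∀ i < 11, M22.tpL.getD i 0 < M22.dat.n) i hi)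
      exact ⟨x, h6, (Nat.mul_le_mul_left _ h7).trans (hm.1 ▸ h)⟩
  refine ⟨T, hm, fun g h e => ?_, h5 8 (by decide) (by decide +kernel), virt_rows M22.card_eq (fun sd hs => ?_)
    (by decide +kernel) M22.hC⟩
  · have h6 := T.ord g
    have h7 := T.ord h
    rw [← e] at h7
    rcases (by decide +kernel : ∀ t < M22.dat.n, M22.dat.ord t = 1 ∨ M22.dat.ord t = 7 ∨ M22.dat.ord t = 11 ∨
      ∃ i < 11, M22.tpL.getD i 0 = t ∧ M22.dat.cnt (M22.tpL.getD i 0) * M22.nL.getD i 0 ≤ M22.dat.N) _ (T.lt g) with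
      h8 | h8 | h8 | ⟨i, hi, h8, h9⟩
    · rw [h8, orderOf_eq_one_iff] at h6 h7
      exact ⟨1, by rw [h6, h7, pow_one]⟩
    · exact (H180.F43.exists_isConj_pow (by decide) (by rw [card_M22]; decide) (h6.trans h8) (h7.trans h8)).imp
        fun _ h => h.2
    · exact (H180.F43.exists_isConj_pow (by decide) (by rw [card_M22]; decide) (h6.trans h8) (h7.trans h8)).imp
        fun _ h => h.2
    · exact ⟨1, by rw [pow_one]; exact One.conj hm (h5 i hi h9) h8.symm (e.symm.trans h8.symm)⟩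
  · simp only [List.mem_cons, List.not_mem_nil, or_false] at hs
    rcases hs with rfl | rfl
    · exact h1
    · exact h2

/-- the combinations of the rows which vanish at the elements of order divisible by three -/
def lat22 : List (List (ℤ × ℕ)) := [[(1, 3)], [(-1, 0), (1, 2), (-2, 3)], [(2, 0), (-3, 2), (3, 3), (1, 4)],
  [(-3, 0), (3, 2), (-3, 3), (-1, 5), (-1, 6)],
  [(-16, 0), (-13, 1), (39, 2), (-44, 3), (-5, 4), (-7, 5), (-20, 6), (-9, 9)],
  [(-10, 0), (5, 1), (-21, 2), (-12, 3), (-33, 4), (-45, 5), (-40, 6), (-92, 7), (-60, 9)],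
  [(23, 0), (-12, 1), (50, 2), (27, 3), (77, 4), (105, 5), (93, 6), (215, 7), (140, 9)],
  [(-1, 0), (1, 1), (-1, 2), (1, 3), (1, 6), (-1, 7), (1, 8)]]

theorem ok22 : S2.okS M22.dat 8 0 [2, 5, 7, 11] (M22.rA ++ M22.rB) lat22 [0, 7, 9, 5, 3, 4, 1] = true := by
  decide +kernel

theorem m223 : SmC Spor.M22 := fun X _ _ φ hφ hk h3 hp _ => by
  have := fin22
  refine sm_of_kk φ hφ hk (by rw [h3]; decide) ?_ (CycN.of_selfN QTNorm.selfN_M22)
    ((m0_iff QTNorm.selfN_M22).2 (k0_22.trans a2_22.symm)) fun l m hl hm => ?_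
  · have h1 : ok 971674527269832880431752993353340000 = true := by decide +kernel
    have h2 : ok 957071675614837213194803931558447680 = true := by decide +kernel
    have h4 : ok 1932239001265248850593219166472919 = true := by decide +kernel
    obtain ⟨β, hβ, h5⟩ := exists_out22 h4 (by decide +kernel)
    obtain ⟨a, ha⟩ := exists_el h1 (by decide +kernel) (by decide +kernel)
    obtain ⟨b, hb⟩ := exists_el h2 (by decide +kernel) (by decide +kernel)
    have h6 : ∀ {x : Spor.M22} {P : ℕ}, ok P = true → inc x = el P → pcomp (pcomp P P) P = idP → x ^ 3 = 1 :=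
      fun {x P} e1 e2 e3 => inc_injective (by
        rw [pow_three', map_mul, map_mul, e2, ← el_pcomp e1 e1, ← el_pcomp (ok_pcomp e1 e1) e1, e3, el_idP, map_one])
    have h7 : b ∉ zpowers a := fun h => by
      have h8 : zpowers a ≤ (MulAction.stabilizer M24 (pt 4)).comap inc := zpowers_le.2 (by
        rw [mem_comap, MulAction.mem_stabilizer_iff, ha, el_smul_pt h1]
        decide +kernel)
      have h9 := h8 h
      rw [mem_comap, MulAction.mem_stabilizer_iff, hb, el_smul_pt h2] at h9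
      exact absurd h9 (by decide +kernel)
    obtain ⟨x, y, c, rfl, rfl, hc, hc', h8⟩ := A.exists_comm φ hφ hk h3 hp (h6 h1 ha (by decide +kernel))
      (h6 h2 hb (by decide +kernel)) (inc_injective (by
        rw [map_mul, map_mul, ha, hb, ← el_pcomp h1 h2, ← el_pcomp h2 h1]
        exact congrArg el (by decide +kernel))) (fun e => by
        have h9 := el_smul_pt h1 (pt 1)
        rw [← ha, e, map_one, one_smul] at h9
        exact absurd h9 (by decide +kernel)) h7 (by rw [card_M22]; decide)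
    refine inn_of_inv φ hφ hk hp (out_cases S2062.result hβ) (i := 1) (j := 2) (inc_injective ?_) (inc_injective ?_)
      hc h8 fun e => hc' ?_
    · rw [h5, pow_one, ha, mul_inv_eq_iff_eq_mul, ← el_pcomp h4 h1, ← el_pcomp h1 h4]
      exact congrArg el (by decide +kernel)
    · rw [h5, pow_two, map_mul, hb, mul_inv_eq_iff_eq_mul, ← el_pcomp h4 h2, ← el_pcomp h2 h2,
        ← el_pcomp (ok_pcomp h2 h2) h4]
      exact congrArg el (by decide +kernel)
    · rwa [one_mul, pow_two, mul_eq_left] at e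
  · obtain ⟨T, h1, h2, h4, h5⟩ := tab22
    rw [k0_22]
    exact S2.kk_of_chk hφ hk h3 hp h1 h2 (inh_of_mass h1 (by decide +kernel)) (u := 8) (a := 2) h4 (by decide +kernel)
      (by decide +kernel) le_rfl h5 (by norm_num) ok22 hl hm

end Cfsg.Agent.MK.S1
end

-- part: MK/S6/F23
section
set_option linter.all false
open scoped Cfsg.Agent.FastGrp

/-!
# MK, the small row of `Fi23` (helper31)
-/

set_option autoImplicit false
set_option maxHeartbeats 400000
set_option maxRecDepth 100000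

namespace Cfsg.Agent.MK.S6

open Subgroup Cfsg.Agent.MK.T Cfsg.Agent.MK.S

theorem k0_fi22 : k0 Spor.Fi22 = 16 := by
  rw [k0_of_degList TAB.F22.deg]
  decide

/-- a simple group of even order with more than two elements -/
theorem simple_facts {G : Type} [Group G] [Finite G] [IsSimpleGroup G] (h : ¬ (Nat.card G).Prime) :
    center G = ⊥ ∧ _root_.commutator G = ⊤ := by
  have h1 : center G = ⊥ := by
    refine (inferInstance : (center G).Normal).eq_bot_or_eq_top.resolve_right fun h1 => h ?_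
    let _ := Group.commGroupOfCenterEqTop h1
    exact IsSimpleGroup.prime_card
  refine ⟨h1, (inferInstance : (_root_.commutator G).Normal).eq_bot_or_eq_top.resolve_left fun h2 => ?_⟩
  rw [commutator_eq_bot_iff_center_eq_top, h1] at h2
  exact bot_ne_top h2

theorem facts22 : center Spor.Fi22 = ⊥ ∧ _root_.commutator Spor.Fi22 = ⊤ :=
  haveI := TAB.F22.fin22
  haveI := Fischer.Fi22Order.isSimple
  simple_facts (by rw [Fischer.Fi22Order.card_fi22]; norm_num)

/-- **the row of `Fi23`** -/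
theorem fi23 : SmS Spor.Fi23 := fun ih => by
  obtain ⟨hs, hc⟩ := S1697.result
  have : Finite Spor.Fi23 := Nat.finite_of_card_ne_zero (by rw [hc]; norm_num)
  have := TAB.F22.fin22
  refine sm_of_one (simple_facts (by rw [hc]; norm_num)).1 S2080.result ((m0_iff H768.SelfFi.selfN_fi23).2 ?_)
  have h1 := KFacts.MulFi24.Double.perfect_of_double S1688.result facts22.2
  obtain ⟨-, ⟨e⟩, -⟩ := S1688.result
  have h2 := a2_sub _ (S1689.result.1 ▸ (by decide : Odd 31671))
  have h3 := a2_central (QuotientGroup.mk' _) (QuotientGroup.mk'_surjective _) (QuotientGroup.ker_mk' _).le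
    (h1 ▸ le_top)
  rw [← h2, h3, a2_congr e, ← ih.k0_eq (by rw [hc, Fischer.Fi22Order.card_fi22]; norm_num) H768.SelfFi.selfN_fi22,
    k0_fi22, k0_of_degList TAB.F23C.deg]
  decide +kernel

end Cfsg.Agent.MK.S6
end

-- part: MK/S7/TabY
section
set_option linter.all false
open scoped Cfsg.Agent.FastGrp

/-- decoders of the packed data (elaboration time only) -/
private noncomputable def pk61d (b S i : Nat) : Nat := Nat.mod (Nat.shiftRight S (Nat.mul b i)) (Nat.shiftLeft (nat_lit 1) b)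
private noncomputable def pk61c {α : Type} (t : Nat) (a : α) (f : Nat → α) : α := Nat.rec a (fun k _ => f k) t
private noncomputable def pk61f {α : Type} (t : Nat) (f : Nat → α) : α := Nat.rec (f Nat.zero) (fun k _ => f (Nat.succ k)) t
private noncomputable def pk61z (t : Nat) : Int := pk61f t fun t =>
  pk61c (Nat.mod t (nat_lit 2)) (Int.ofNat (Nat.div t (nat_lit 2))) fun _ => Int.negSucc (Nat.div t (nat_lit 2))
private noncomputable def pk61l {α : Type} (f : Nat → α) (s e : Nat) (tl : List α) : List α :=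
  pk61f e fun e => Nat.rec tl (fun k ih => List.cons (pk61f (Nat.sub e (Nat.succ k)) f) ih) (Nat.sub e s)
private noncomputable def lq266c50120f_0 := @_root_.List.nil.{0}
private noncomputable def lq266c50120f_1 := @_root_.List.cons.{0}
private noncomputable def lq266c50120f_3 := @_root_.Int.ofNat
private noncomputable def lq266c50120f_4 := @_root_.Prod.mk.{0, 0}
/-!
# Faithful characters of `3.Fi₂₄'` : 67 orthogonal rows (helper16)
-/

set_option autoImplicit false
set_option maxRecDepth 100000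
set_option Elab.async false

namespace Cfsg.Agent.MK.S7

open Cfsg.Agent.TAB.Eng Cfsg.Agent.TAB.Glue Cfsg.Agent.TAB.Cov Cfsg.Agent.TAB.F24

/-- the values at the type 0 -/
noncomputable def cY0 : List ℤ :=
  (by
  refine (?fq9001 : ((pk61l (fun i1 => (pk61z (pk61d (nat_lit 41) 
    (nat_lit 0x30eebb429c9ac94e0393800089b35209ffbfeeaf3b7fcdfc365503e6b941817cf0fe46c49560515e536300274bb70000041d00ebd30185274c0580a701c9c00009d5f392e002e7f0b1300173f858a000182e98000000255f4719ffd068e8086050b29403d78cfcaa005071104000256b29c580112b253c80019c4839e2f33375eed90007d2177479069b1aca3bd46a7d8019212c00000c4186de5185ee3ecd0002b1c79be8014c82778f98953fcc6df047ec8522f022f687d48a108cf8d17e87e4ad000003f25680000181cc79b6809c91ad24004abe900000255f480000123dd79048076e505e0f026ea5467000fe46c495604eaf9c980027246b49000dfc36550406c160558202daa7d2a8013fa96c29808ce9823a00226cd482800ffbabcee0047885fd0001b193695000b92ef2be003ea0aba8000613348f8000a701c9c000244e4d40000669cc900000255f48000003f120)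 i1))) (nat_lit 0) (nat_lit 67) List.nil) : List ℤ)
    = ?xq9001 → (List ℤ)) ?hq9001; (case hq9001 => (set_option maxRecDepth 1000000 in set_option simprocs false in conv => lhs; reduce; dsimp only)); intro _; exact ?xq9001 : List ℤ)

/-- the values at the type 1 -/
noncomputable def cY1 : List ℤ :=
  (by
  refine (?fq9002 : ((pk61l (fun i1 => (pk61z (pk61d (nat_lit 40) 
    (nat_lit 0x61eaed0a726b1a701c9bfff89b3520a007fdd5e770037f0d9541035ca0c0be80fe46c49550a2bca6c5f09d2edbfff020e8075ea0185274c06014e03937f002757ce4c00173f858a00173f8589000305d2ff00000957d28cffe83473086050b29307af19f9530141c440ff012b594e2b0112b253c7003389073bbcccdd7bb58003e90bb979069b1ac977a8d4faff6484afffff620c36f28b5ee3eccfff5638f37cff53209de3e54a9fe636f747ec8522ef45ed0fa9134233e345f93f2567ffff3f2567ffff30398f36cf27246b48ff255f47ffff255f47ffff247baf208f1db941783b13752a337f0fe46c495509d5f392ff09c91ad23f06fe1b2a8106c160558105b54fa54f04fea5b0a504674c11cf0226cd482701ff7579db011e217f3f00d8c9b4a700b92ef2bd007d41574f00184cd23d0005380e4d000244e4d30000cd399100000957d1000001f88f)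 i1))) (nat_lit 0) (nat_lit 67) List.nil) : List ℤ)
    = ?xq9002 → (List ℤ)) ?hq9002; (case hq9002 => (set_option maxRecDepth 1000000 in set_option simprocs false in conv => lhs; reduce; dsimp only)); intro _; exact ?xq9002 : List ℤ)

/-- the values at the type 2 -/
noncomputable def cY2 : List ℤ :=
  (by
  refine (?fq9003 : ((pk61l (fun i1 => (pk61z (pk61d (nat_lit 20) 
    (nat_lit 0x3b0ea9b18000053ff1cdff0afe0647cf1b953468c0180000dc2c06bf42070004f6804f13058eb00600007a3530e81e52831d5707dff093a70e06f096784889340c8ba7a6b2760000000819185a000545ff79bcc375f075a1f201d73b3f400000000001625f34dff00000000003a920234781b8ff35d53179ff00480179040b4fb272a02e14c30ba00e8501684705e801c95011a8300ea00207c0189c015a8008db0045b00120) i1))) (nat_lit 0) (nat_lit 67) List.nil) : List ℤ)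
    = ?xq9003 → (List ℤ)) ?hq9003; (case hq9003 => (set_option maxRecDepth 1000000 in set_option simprocs false in conv => lhs; reduce; dsimp only)); intro _; exact ?xq9003 : List ℤ)

/-- the values at the type 3 -/
noncomputable def cY3 : List ℤ :=
  (by
  refine (?fq9004 : ((pk61l (fun i1 => (pk61z (pk61d (nat_lit 19) 
    (nat_lit 0x783aa70bfff0540039c002bf7b23e81b9548d17c5fff86e1506bf240dfc13d98278a058ec00bfc01e9298731e52663ab01f80049d40e07012ced222520646a7a6c4ebfc000040c8b59ffea8c01e6f29baf775a20403b0ecfc80000000002c4c0d38000000000007523c8d1d8dc8035d542f400011f8bc810b4fc4e53cb852985cf0e84e2d090179f8e4a711a8401d3c081e80c4d015a6011b801170008f) i1))) (nat_lit 0) (nat_lit 67) List.nil) : List ℤ)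
    = ?xq9004 → (List ℤ)) ?hq9004; (case hq9004 => (set_option maxRecDepth 1000000 in set_option simprocs false in conv => lhs; reduce; dsimp only)); intro _; exact ?xq9004 : List ℤ)

/-- the values at the type 4 -/
noncomputable def cY4 : List ℤ :=
  (by
  refine (?fq9005 : ((pk61l (fun i1 => (pk61z (pk61d (nat_lit 25) 
    (nat_lit 0x4ec4c5ec88effff6bae002bd97fc167bc11a73cf5f0bd612af3011e000029d9d315d78586d7c0019132e0b241303e50a009f800006b47516ae8293d6b8f0455c207bfe12905801d53781dfe1d53d1269af98b50e4ca1f1a7fe6ffffe4f4a18145000093a801579666fef00f0c410fb9954a1242be8f4000022000027b6681b3b400f4000022000001d537c3012f01b5f002e2b561b6f800d179009a06043101820446d7ca9c2980d325f19332801a52e0502d002611500fdabe08d9a8017b6f804d39c015a540067090005548001520) i1))) (nat_lit 0) (nat_lit 67) List.nil) : List ℤ)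
    = ?xq9005 → (List ℤ)) ?hq9005; (case hq9005 => (set_option maxRecDepth 1000000 in set_option simprocs false in conv => lhs; reduce; dsimp only)); intro _; exact ?xq9005 : List ℤ)

/-- the values at the type 5 -/
noncomputable def cY5 : List ℤ :=
  (by
  refine (?fq9006 : ((pk61l (fun i1 => (pk61z (pk61d (nat_lit 24) 
    (nat_lit 0x9e1317b14780006badff57b300059eef8d39e85f0bd5255e5f477fff14ecea15d7860daf7f0644cc05920a03e509013eff001ad2a8b573293d6c1e08ac081f0009482b01d53803bfc454f44a4d7cc650e4c93e35009c000027a50b144fff1274ff55e59a7f78080c4110732a93490af979ffff21ffff4f6ccf6cecff79ffff21ffff03aa700c04bb0daf7f2e2b5536deff345e3f4d0301310181088db02a70a5069930193327034a5b140b3f1308a70fdabd11b34f05edbd0269cd015a5300ce11001551000a8f) i1))) (nat_lit 0) (nat_lit 67) List.nil) : List ℤ)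
    = ?xq9006 → (List ℤ)) ?hq9006; (case hq9006 => (set_option maxRecDepth 1000000 in set_option simprocs false in conv => lhs; reduce; dsimp only)); intro _; exact ?xq9006 : List ℤ)

/-- the values at the type 6 -/
noncomputable def cY6 : List ℤ :=
  (by
  refine (?fq9007 : ((pk61l (fun i1 => (pk61z (nat_lit 0))) (nat_lit 0) (nat_lit 67) List.nil) : List ℤ)
    = ?xq9007 → (List ℤ)) ?hq9007; (case hq9007 => (set_option maxRecDepth 1000000 in set_option simprocs false in conv => lhs; reduce; dsimp only)); intro _; exact ?xq9007 : List ℤ)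

/-- the values at the type 7 -/
noncomputable def cY7 : List ℤ :=
  (by
  refine (?fq9008 : ((pk61l (fun i1 => (pk61z (pk61d (nat_lit 18) 
    (nat_lit 0x6b8132cd1405e7fc3b1015690fb0433ae03b0f6390081ef2957c610816e2c40f7103e026d0015ec000038f4000001a940761f11b7c25f84fbbc00004271d9d6f8dc00000010dfce3d0000018eac427207efb000005e8017a01d87f43141d8807620100eb4ce30ab4833ae1b51008dbd2a444ce30b0c4103e04fbc3d470999040f8094142a150d2181ccb0374409990207c015f00360) i1))) (nat_lit 0) (nat_lit 67) List.nil) : List ℤ)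
    = ?xq9008 → (List ℤ)) ?hq9008; (case hq9008 => (set_option maxRecDepth 1000000 in set_option simprocs false in conv => lhs; reduce; dsimp only)); intro _; exact ?xq9008 : List ℤ)

/-- the values at the type 8 -/
noncomputable def cY8 : List ℤ :=
  (by
  refine (?fq9009 : ((pk61l (fun i1 => (pk61z (pk61d (nat_lit 17) 
    (nat_lit 0xda04cc689f5e800761c55a27d8133ad876218e3e40f829580c20c5b8c207c103d84d9c057c000038f3800006a4e3b1011b804bed3ef00000427233ae236fe000010e01c79c0000c75542718fdf800002f3f179fbb1010c4eec3f761fa01d9338a55a333adb6a1c237095214ce29618440f627dd3d469331d03de4a092a149a42c732a1ba10998840f4057a01af) i1))) (nat_lit 0) (nat_lit 67) List.nil) : List ℤ)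
    = ?xq9009 → (List ℤ)) ?hq9009; (case hq9009 => (set_option maxRecDepth 1000000 in set_option simprocs false in conv => lhs; reduce; dsimp only)); intro _; exact ?xq9009 : List ℤ)

/-- the values at the type 9 -/
noncomputable def cY9 : List ℤ :=
  (by
  refine (?fq9010 : ((pk61l (fun i1 => (pk61z (nat_lit 0))) (nat_lit 0) (nat_lit 67) List.nil) : List ℤ)
    = ?xq9010 → (List ℤ)) ?hq9010; (case hq9010 => (set_option maxRecDepth 1000000 in set_option simprocs false in conv => lhs; reduce; dsimp only)); intro _; exact ?xq9010 : List ℤ)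

/-- the values at the type 10 -/
noncomputable def cY10 : List ℤ :=
  (by
  refine (?fq9011 : ((pk61l (fun i1 => (pk61z (pk61d (nat_lit 22) 
    (nat_lit 0xd71ad41d3b8ff081f001e2a04bfd7d14fcc5dab611ded004a3fcacdcf2b6eec6741006992c2c6db0b1b70103e000596e40a681393dc0000005387c1d00f006f5c04bf03cb0cc000002a6b11bea90050ffc000002cd2fcb918f000000a74cc4b0c31d1cd734dc10efa003be8004fc2c47597d03dff40f7fc3b2af34dc116b2105dab600251f11d65cad71734dc0c869401d70601f53027849083ad813499c36d14064eec42ffb03b2ac0b99f0355e003c53005970004a3) i1))) (nat_lit 0) (nat_lit 67) List.nil) : List ℤ)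
    = ?xq9011 → (List ℤ)) ?hq9011; (case hq9011 => (set_option maxRecDepth 1000000 in set_option simprocs false in conv => lhs; reduce; dsimp only)); intro _; exact ?xq9011 : List ℤ)

/-- the values at the type 11 -/
noncomputable def cY11 : List ℤ :=
  (by
  refine (?fq9012 : ((pk61l (fun i1 => (pk61z (pk61d (nat_lit 21) 
    (nat_lit 0x1b06b5089dc80081ef83c53d2ff608a7e55dab5a3bd9c12900566e82b6ef0ce81c1a64c1636e0b1b68207bc0165d205331393e00000014e200e808006f60097dcf2c34000002a6b0b7d51c14400000002cd301723200000053a654b0c2ba39b0d370277cff3be7f89f8551d66081f0040f80076560d3702b59075dab5804a404759856b8c34dc110d27c75c160fa97278489075ac4d2681b689064ef085ff80ecac05cd00355d8078a80165a00252) i1))) (nat_lit 0) (nat_lit 67) List.nil) : List ℤ)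
    = ?xq9012 → (List ℤ)) ?hq9012; (case hq9012 => (set_option maxRecDepth 1000000 in set_option simprocs false in conv => lhs; reduce; dsimp only)); intro _; exact ?xq9012 : List ℤ)

/-- the values at the type 12 -/
noncomputable def cY12 : List ℤ :=
  (by
  refine (?fq9013 : ((pk61l (fun i1 => (pk61z (nat_lit 0))) (nat_lit 0) (nat_lit 67) List.nil) : List ℤ)
    = ?xq9013 → (List ℤ)) ?hq9013; (case hq9013 => (set_option maxRecDepth 1000000 in set_option simprocs false in conv => lhs; reduce; dsimp only)); intro _; exact ?xq9013 : List ℤ)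

/-- the values at the type 13 -/
noncomputable def cY13 : List ℤ :=
  (by
  refine (?fq9014 : ((pk61l (fun i1 => (pk61z (pk61d (nat_lit 10) 
    (nat_lit 0x446c00000001813064c3f000532d10015c2c1500008d97b5fa8800a78400724cb4251ff000d8001ff6317007e685d000002a000000000a04e1006b0005fc3b3eddf530df4bc782015020ca010c2305c1b06c20) i1))) (nat_lit 0) (nat_lit 67) List.nil) : List ℤ)
    = ?xq9014 → (List ℤ)) ?hq9014; (case hq9014 => (set_option maxRecDepth 1000000 in set_option simprocs false in conv => lhs; reduce; dsimp only)); intro _; exact ?xq9014 : List ℤ)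

/-- the values at the type 14 -/
noncomputable def cY14 : List ℤ :=
  (by
  refine (?fq9015 : ((pk61l (fun i1 => (pk61z (pk61d (nat_lit 9) 
    (nat_lit 0x51c00000005e9765080002a2c9fc58151480024ccb674dfe5483810945924c00006b004018ab7084cd72000053c00000013d367f6a801801e3f3c14a704c0ec7ea72113c4412060381c0f) i1))) (nat_lit 0) (nat_lit 67) List.nil) : List ℤ)
    = ?xq9015 → (List ℤ)) ?hq9015; (case hq9015 => (set_option maxRecDepth 1000000 in set_option simprocs false in conv => lhs; reduce; dsimp only)); intro _; exact ?xq9015 : List ℤ)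

/-- the values at the type 15 -/
noncomputable def cY15 : List ℤ :=
  (by
  refine (?fq9016 : ((pk61l (fun i1 => (pk61z (pk61d (nat_lit 12) 
    (nat_lit 0x1b1a40000000ff7df68f08c1c000032c5947002483b330b1000e39d79d7ca80007a74d03474ec6544eb00000028700000065368f1e08f78f47ff80045f1008007ff99f4986ff3d30ff2801a403b0e06cc29f4d001827f6904432a01dc0fc08803b03b020) i1))) (nat_lit 0) (nat_lit 67) List.nil) : List ℤ)
    = ?xq9016 → (List ℤ)) ?hq9016; (case hq9016 => (set_option maxRecDepth 1000000 in set_option simprocs false in conv => lhs; reduce; dsimp only)); intro _; exact ?xq9016 : List ℤ)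

/-- the values at the type 16 -/
noncomputable def cY16 : List ℤ :=
  (by
  refine (?fq9017 : ((pk61l (fun i1 => (pk61z (pk61d (nat_lit 11) 
    (nat_lit 0x3868800000201f834808a37c00195592dfc919da30c1fc394ec9d994c003d44ce6913ab294ec00000144000001953481df1f23cc007fe8c03fbff80134125b803d42009f8d103c1bdb29504ce02ca034744453c7687d0860780f00f) i1))) (nat_lit 0) (nat_lit 67) List.nil) : List ℤ)
    = ?xq9017 → (List ℤ)) ?hq9017; (case hq9017 => (set_option maxRecDepth 1000000 in set_option simprocs false in conv => lhs; reduce; dsimp only)); intro _; exact ?xq9017 : List ℤ)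

/-- the values at the type 17 -/
noncomputable def cY17 : List ℤ :=
  (by
  refine (?fq9018 : ((pk61l (fun i1 => (pk61z (pk61d (nat_lit 14) 
    (nat_lit 0x3b159000030005ff107c2cf22b12c000010d33c2c3001e5ca132850600068d51714a0ca817fc2580e400783db107431ade0000020e70001dff0f300f0407cb283c2c00000005a017fc0000000720521c30022b06001dfda04681035f02cc05f1d405b85a00a5039f14a02df099c1aa06240690120) i1))) (nat_lit 0) (nat_lit 67) List.nil) : List ℤ)
    = ?xq9018 → (List ℤ)) ?hq9018; (case hq9018 => (set_option maxRecDepth 1000000 in set_option simprocs false in conv => lhs; reduce; dsimp only)); intro _; exact ?xq9018 : List ℤ)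

/-- the values at the type 18 -/
noncomputable def cY18 : List ℤ :=
  (by
  refine (?fq9019 : ((pk61l (fun i1 => (pk61z (pk61d (nat_lit 13) 
    (nat_lit 0x785620002ff8c0042016822aa57c00086a3c305fc79850a2848bfc1a4a8c149994c60012b0e380ecf6a83931b3bfc0010740003c003ca077408164cf0c0000000b3c6000000000e3d48817f22a8bfc780d0168086c00b40301d38b6d67e52739ea93cb7a4cd1a98c441a208f) i1))) (nat_lit 0) (nat_lit 67) List.nil) : List ℤ)
    = ?xq9019 → (List ℤ)) ?hq9019; (case hq9019 => (set_option maxRecDepth 1000000 in set_option simprocs false in conv => lhs; reduce; dsimp only)); intro _; exact ?xq9019 : List ℤ)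

/-- the values at the type 19 -/
noncomputable def cY19 : List ℤ :=
  (by
  refine (?fq9020 : ((pk61l (fun i1 => (pk61z (pk61d (nat_lit 11) 
    (nat_lit 0x7c0020f06eed062000000a7d9811822e061a188f1202f037800000000a78002300024c2870000015fbcc0000014400051068c0b81f03e000d229f53e69072267000fb0f006f3be68cef9bb3f052cf01e04d0c41881a034886038088) i1))) (nat_lit 0) (nat_lit 67) List.nil) : List ℤ)
    = ?xq9020 → (List ℤ)) ?hq9020; (case hq9020 => (set_option maxRecDepth 1000000 in set_option simprocs false in conv => lhs; reduce; dsimp only)); intro _; exact ?xq9020 : List ℤ)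

/-- the values at the type 20 -/
noncomputable def cY20 : List ℤ :=
  (by
  refine (?fq9021 : ((pk61l (fun i1 => (pk61z (pk61d (nat_lit 10) 
    (nat_lit 0x1000108071d9184000015065c8b2300b6884811c5d0e000000002a00022c0092d4400000581e50000050c0050cd2030100400034550540d11c534001f53bc383c0d23c0de3eca63bcef4cd8761ccf3450b0dc43) i1))) (nat_lit 0) (nat_lit 67) List.nil) : List ℤ)
    = ?xq9021 → (List ℤ)) ?hq9021; (case hq9021 => (set_option maxRecDepth 1000000 in set_option simprocs false in conv => lhs; reduce; dsimp only)); intro _; exact ?xq9021 : List ℤ)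

/-- the values at the type 21 -/
noncomputable def cY21 : List ℤ :=
  (by
  refine (?fq9022 : ((pk61l (fun i1 => (pk61z (pk61d (nat_lit 9) 
    (nat_lit 0x216ea027ac160f703ae13e4f3815c10380f8801e00d78035e7fc06c1ae00002e1800007b6000d76c220007f1f9005e7f1f9e000574c2005e500013c6ed8440fc0e001805c300f0781c1008) i1))) (nat_lit 0) (nat_lit 67) List.nil) : List ℤ)
    = ?xq9022 → (List ℤ)) ?hq9022; (case hq9022 => (set_option maxRecDepth 1000000 in set_option simprocs false in conv => lhs; reduce; dsimp only)); intro _; exact ?xq9022 : List ℤ)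

/-- the values at the type 22 -/
noncomputable def cY22 : List ℤ :=
  (by
  refine (?fq9023 : ((pk61l (fun i1 => (pk61z (pk61d (nat_lit 8) 
    (nat_lit 0x35c4f2857577c045b5028372c031b100f0800d800d840bfd76c00005b5f00086b006c6b430040201f1840203b002c4b3f182700281c6b43200400170c0b0808040303) i1))) (nat_lit 0) (nat_lit 67) List.nil) : List ℤ)
    = ?xq9023 → (List ℤ)) ?hq9023; (case hq9023 => (set_option maxRecDepth 1000000 in set_option simprocs false in conv => lhs; reduce; dsimp only)); intro _; exact ?xq9023 : List ℤ)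

/-- the values at the type 23 -/
noncomputable def cY23 : List ℤ :=
  (by
  refine (?fq9024 : ((pk61l (fun i1 => (pk61z (nat_lit 0))) (nat_lit 0) (nat_lit 67) List.nil) : List ℤ)
    = ?xq9024 → (List ℤ)) ?hq9024; (case hq9024 => (set_option maxRecDepth 1000000 in set_option simprocs false in conv => lhs; reduce; dsimp only)); intro _; exact ?xq9024 : List ℤ)

/-- the values at the type 24 -/
noncomputable def cY24 : List ℤ :=
  (by
  refine (?fq9025 : ((pk61l (fun i1 => (pk61z (pk61d (nat_lit 8) 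
    (nat_lit 0xc532f18181853840b2f18183c3c0b2f2f1800d800470000486c008f240000476b006cb46c00000000480000240023240048480047236b23006b0047236b47476b2323) i1))) (nat_lit 0) (nat_lit 67) List.nil) : List ℤ)
    = ?xq9025 → (List ℤ)) ?hq9025; (case hq9025 => (set_option maxRecDepth 1000000 in set_option simprocs false in conv => lhs; reduce; dsimp only)); intro _; exact ?xq9025 : List ℤ)

/-- the values at the type 25 -/
noncomputable def cY25 : List ℤ :=
  (by
  refine (?fq9026 : ((pk61l (fun i1 => (pk61z (pk61d (nat_lit 9) 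
    (nat_lit 0x5d5060178bc5ea883860c02f179dcee18301805e00d780120000023dae009011c00004836000d7b3b5c0000000011e000011c0048238011e8f0024090d824001b00048121b090483609048) i1))) (nat_lit 0) (nat_lit 67) List.nil) : List ℤ)
    = ?xq9026 → (List ℤ)) ?hq9026; (case hq9026 => (set_option maxRecDepth 1000000 in set_option simprocs false in conv => lhs; reduce; dsimp only)); intro _; exact ?xq9026 : List ℤ)

/-- the values at the type 26 -/
noncomputable def cY26 : List ℤ :=
  (by
  refine (?fq9027 : ((pk61l (fun i1 => (pk61z (pk61d (nat_lit 9) 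
    (nat_lit 0x2fd6c0600c0763b538c180302fc20a817538c076004800121208f91d20006c24000000024000b3240900000000011e00002d0d84823a3d1e24360908e2311a3c00b43591cd8241208c4600) i1))) (nat_lit 0) (nat_lit 67) List.nil) : List ℤ)
    = ?xq9027 → (List ℤ)) ?hq9027; (case hq9027 => (set_option maxRecDepth 1000000 in set_option simprocs false in conv => lhs; reduce; dsimp only)); intro _; exact ?xq9027 : List ℤ)

/-- the values at the type 27 -/
noncomputable def cY27 : List ℤ :=
  (by
  refine (?fq9028 : ((pk61l (fun i1 => (pk61z (pk61d (nat_lit 8) 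
    (nat_lit 0x6f65f5f171e1e54175f173083290c54171e004700478f902447006b4700000047005a2311000000004800005935232448481135112412124800593624351111121200) i1))) (nat_lit 0) (nat_lit 67) List.nil) : List ℤ)
    = ?xq9028 → (List ℤ)) ?hq9028; (case hq9028 => (set_option maxRecDepth 1000000 in set_option simprocs false in conv => lhs; reduce; dsimp only)); intro _; exact ?xq9028 : List ℤ)

/-- the values at the type 28 -/
noncomputable def cY28 : List ℤ :=
  (by
  refine (?fq9029 : ((pk61l (fun i1 => (pk61z (nat_lit 0))) (nat_lit 0) (nat_lit 67) List.nil) : List ℤ)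
    = ?xq9029 → (List ℤ)) ?hq9029; (case hq9029 => (set_option maxRecDepth 1000000 in set_option simprocs false in conv => lhs; reduce; dsimp only)); intro _; exact ?xq9029 : List ℤ)

/-- the values at the type 29 -/
noncomputable def cY29 : List ℤ :=
  (by
  refine (?fq9030 : ((pk61l (fun i1 => (pk61z (pk61d (nat_lit 13) 
    (nat_lit 0x201f040045f89804c06731b386407fe04f00216407a80a40fe00800f679721b80006c013005406c00d80000a22fbcbfe0005e02f3c00006c8a633dd1b6d0037f9db113ed0037f85411b659004c0b7c81059746e1300a8e87005d989cd8e6544f208109161a007381cc0c6063) i1))) (nat_lit 0) (nat_lit 67) List.nil) : List ℤ)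
    = ?xq9030 → (List ℤ)) ?hq9030; (case hq9030 => (set_option maxRecDepth 1000000 in set_option simprocs false in conv => lhs; reduce; dsimp only)); intro _; exact ?xq9030 : List ℤ)

/-- the values at the type 30 -/
noncomputable def cY30 : List ℤ :=
  (by
  refine (?fq9031 : ((pk61l (fun i1 => (pk61z (pk61d (nat_lit 12) 
    (nat_lit 0x307b1ff46012f12f33a1b40c72000280012c71e90510fd00f03e3cc21c0001af0970530d70350000a15f83000005df5e80000358a567c46e67f3803b545067f3800a746e2c704b1702032cc46d25f2a443705e3143643294f11012460cf07403a032032) i1))) (nat_lit 0) (nat_lit 67) List.nil) : List ℤ)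
    = ?xq9031 → (List ℤ)) ?hq9031; (case hq9031 => (set_option maxRecDepth 1000000 in set_option simprocs false in conv => lhs; reduce; dsimp only)); intro _; exact ?xq9031 : List ℤ)

/-- the values at the type 31 -/
noncomputable def cY31 : List ℤ :=
  (by
  refine (?fq9032 : ((pk61l (fun i1 => (pk61z (pk61d (nat_lit 10) 
    (nat_lit 0x1b1107f37d403511bb20af2004007c5706e070a0201ec006c0006c1c02fcd86bc00a20afc00006fdb00021c35c2b0007f9fe802fc7f9fc3b50c5769edfa83d450c2bee06c40d5f5bd441522833134290ac0b050) i1))) (nat_lit 0) (nat_lit 67) List.nil) : List ℤ)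
    = ?xq9032 → (List ℤ)) ?hq9032; (case hq9032 => (set_option maxRecDepth 1000000 in set_option simprocs false in conv => lhs; reduce; dsimp only)); intro _; exact ?xq9032 : List ℤ)

/-- the values at the type 32 -/
noncomputable def cY32 : List ℤ :=
  (by
  refine (?fq9033 : ((pk61l (fun i1 => (pk61z (pk61d (nat_lit 9) 
    (nat_lit 0x3842403827cd28eb19607e1f080b01d040983c7c006b801aedf301adb000a1962fe007035c010d360580040a04fcc040a0079442c6a5c29fe95105bb635412c170a114c4cca99289542a27) i1))) (nat_lit 0) (nat_lit 67) List.nil) : List ℤ)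
    = ?xq9033 → (List ℤ)) ?hq9033; (case hq9033 => (set_option maxRecDepth 1000000 in set_option simprocs false in conv => lhs; reduce; dsimp only)); intro _; exact ?xq9033 : List ℤ)

/-- the values at the type 33 -/
noncomputable def cY33 : List ℤ :=
  (by
  refine (?fq9034 : ((pk61l (fun i1 => (pk61z (pk61d (nat_lit 12) 
    (nat_lit 0x171072ff53f1df1df54c2584502ff3302c421000b2db0e306009b79728800011f8700d708f2f30005c409000000024050f0002f318c5e81440000006531200000007501443ef3a73603a83171432405581b02640d80d806b3840fb06b11f04706c023023) i1))) (nat_lit 0) (nat_lit 67) List.nil) : List ℤ)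
    = ?xq9034 → (List ℤ)) ?hq9034; (case hq9034 => (set_option maxRecDepth 1000000 in set_option simprocs false in conv => lhs; reduce; dsimp only)); intro _; exact ?xq9034 : List ℤ)

/-- the values at the type 34 -/
noncomputable def cY34 : List ℤ :=
  (by
  refine (?fq9035 : ((pk61l (fun i1 => (pk61z (pk61d (nat_lit 11) 
    (nat_lit 0x30421805403c0782a525689cc01972c241c0316e0e40bc273cc286000484370d8120bd0005c211c0000023ea200017a18abcc50800000ca847800000e9c509f83a86bce998c14447d558d72621ac358363821f81b0900480d409012) i1))) (nat_lit 0) (nat_lit 67) List.nil) : List ℤ)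
    = ?xq9035 → (List ℤ)) ?hq9035; (case hq9035 => (set_option maxRecDepth 1000000 in set_option simprocs false in conv => lhs; reduce; dsimp only)); intro _; exact ?xq9035 : List ℤ)

/-- the values at the type 35 -/
noncomputable def cY35 : List ℤ :=
  (by
  refine (?fq9036 : ((pk61l (fun i1 => (pk61z (pk61d (nat_lit 13) 
    (nat_lit 0xec34860068fb47dae81a48341a40c00d1f68f94a0c76b27444180037600043800007e0000000059d7a00004ebcebc00000059fa1c0000ec34eb8bd0000000000000263e0000001b916c69d74ec00011feccb5b1a12c3f02f385e000179eb64275b4dc5e64eb3720bcc31808f) i1))) (nat_lit 0) (nat_lit 67) List.nil) : List ℤ)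
    = ?xq9036 → (List ℤ)) ?hq9036; (case hq9036 => (set_option maxRecDepth 1000000 in set_option simprocs false in conv => lhs; reduce; dsimp only)); intro _; exact ?xq9036 : List ℤ)

/-- the values at the type 36 -/
noncomputable def cY36 : List ℤ :=
  (by
  refine (?fq9037 : ((pk61l (fun i1 => (pk61z (pk61d (nat_lit 12) 
    (nat_lit 0x1e0d12ff6906906b90d18333472ff69069029331e5944432ff0de0004370001f70000000b45e70004ec9d80000005a04370007624ec1790000000000009900000003715b24ec4eb0004806665b24260fb17a85d0005e85b127669c17a27637117a0c5048) i1))) (nat_lit 0) (nat_lit 67) List.nil) : List ℤ)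
    = ?xq9037 → (List ℤ)) ?hq9037; (case hq9037 => (set_option maxRecDepth 1000000 in set_option simprocs false in conv => lhs; reduce; dsimp only)); intro _; exact ?xq9037 : List ℤ)

/-- the values at the type 37 -/
noncomputable def cY37 : List ℤ :=
  (by
  refine (?fq9038 : ((pk61l (fun i1 => (pk61z (pk61d (nat_lit 14) 
    (nat_lit 0x3f8c004ff1c032c0aefe2ff22fcc40140187f4cfce0000fc87f3100a4006fc000000000000011802a00000000000000022ff30000001400000000000000016c0a1fcdff08008bf4500dff0801500a200e00230213f0f006ff00016c013fc0005b01f4022fc00029fc17f14fc1bf1d001ff080003f) i1))) (nat_lit 0) (nat_lit 67) List.nil) : List ℤ)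
    = ?xq9038 → (List ℤ)) ?hq9038; (case hq9038 => (set_option maxRecDepth 1000000 in set_option simprocs false in conv => lhs; reduce; dsimp only)); intro _; exact ?xq9038 : List ℤ)

/-- the values at the type 38 -/
noncomputable def cY38 : List ℤ :=
  (by
  refine (?fq9039 : ((pk61l (fun i1 => (pk61z (pk61d (nat_lit 13) 
    (nat_lit 0x822fe2801bfe57ebc1180230187c4fec404d01bfc04044030f947c1c000000000000008bf29f80000000000004600bfe00013f80000000000002d7e88070007f918113e70007fa9fe87e6ff22fc2803be3800002d7c5000005afbe7c8c00002a003005400e01cf84001fe020) i1))) (nat_lit 0) (nat_lit 67) List.nil) : List ℤ)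
    = ?xq9039 → (List ℤ)) ?hq9039; (case hq9039 => (set_option maxRecDepth 1000000 in set_option simprocs false in conv => lhs; reduce; dsimp only)); intro _; exact ?xq9039 : List ℤ)

/-- the values at the type 39 -/
noncomputable def cY39 : List ℤ :=
  (by
  refine (?fq9040 : ((pk61l (fun i1 => (pk61z (nat_lit 0))) (nat_lit 0) (nat_lit 67) List.nil) : List ℤ)
    = ?xq9040 → (List ℤ)) ?hq9040; (case hq9040 => (set_option maxRecDepth 1000000 in set_option simprocs false in conv => lhs; reduce; dsimp only)); intro _; exact ?xq9040 : List ℤ)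

/-- the values at the type 40 -/
noncomputable def cY40 : List ℤ :=
  (by
  refine (?fq9041 : ((pk61l (fun i1 => (pk61z (pk61d (nat_lit 8) 
    (nat_lit 0x170018005300000000d7000060545354843b00007700000000005300001784770023005400545353003b3c3c001800005323002400535f0054545f007800603c543c24) i1))) (nat_lit 0) (nat_lit 67) List.nil) : List ℤ)
    = ?xq9041 → (List ℤ)) ?hq9041; (case hq9041 => (set_option maxRecDepth 1000000 in set_option simprocs false in conv => lhs; reduce; dsimp only)); intro _; exact ?xq9041 : List ℤ)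

/-- the values at the type 41 -/
noncomputable def cY41 : List ℤ :=
  (by
  refine (?fq9042 : ((pk61l (fun i1 => (pk61z (pk61d (nat_lit 7) 
    (nat_lit 0x3000b00a8000000360000bd4aa5304f0000f0000000002a0000641780090052014aa5400f1d3a0058000a8900220153000a54b000ec02f3aa4e91) i1))) (nat_lit 0) (nat_lit 67) List.nil) : List ℤ)
    = ?xq9042 → (List ℤ)) ?hq9042; (case hq9042 => (set_option maxRecDepth 1000000 in set_option simprocs false in conv => lhs; reduce; dsimp only)); intro _; exact ?xq9042 : List ℤ)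

/-- the values at the type 42 -/
noncomputable def cY42 : List ℤ :=
  (by
  refine (?fq9043 : ((pk61l (fun i1 => (pk61z (pk61d (nat_lit 6) 
    (nat_lit 0x10190000000002800160000090806d700001c00000031780e48000000000064c3000800004800cd023000015003008300043) i1))) (nat_lit 0) (nat_lit 67) List.nil) : List ℤ)
    = ?xq9043 → (List ℤ)) ?hq9043; (case hq9043 => (set_option maxRecDepth 1000000 in set_option simprocs false in conv => lhs; reduce; dsimp only)); intro _; exact ?xq9043 : List ℤ)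

/-- the values at the type 43 -/
noncomputable def cY43 : List ℤ :=
  (by
  refine (?fq9044 : ((pk61l (fun i1 => (pk61z (pk61d (nat_lit 7) 
    (nat_lit 0x100340000000000098000ac000005018070c000000dc0000000bb07e6d18000000000001a172e0018000011801070048000002c002000f2e00208) i1))) (nat_lit 0) (nat_lit 67) List.nil) : List ℤ)
    = ?xq9044 → (List ℤ)) ?hq9044; (case hq9044 => (set_option maxRecDepth 1000000 in set_option simprocs false in conv => lhs; reduce; dsimp only)); intro _; exact ?xq9044 : List ℤ)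

/-- the values at the type 44 -/
noncomputable def cY44 : List ℤ :=
  (by
  refine (?fq9045 : ((pk61l (fun i1 => (pk61z (pk61d (nat_lit 6) 
    (nat_lit 0xb10000000f0c000c1009dc1000c8a170183d84e4ac00170008d08185000200000002004c002b1003003c80100dfb0c634520) i1))) (nat_lit 0) (nat_lit 67) List.nil) : List ℤ)
    = ?xq9045 → (List ℤ)) ?hq9045; (case hq9045 => (set_option maxRecDepth 1000000 in set_option simprocs false in conv => lhs; reduce; dsimp only)); intro _; exact ?xq9045 : List ℤ)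

/-- the values at the type 45 -/
noncomputable def cY45 : List ℤ :=
  (by
  refine (?fq9046 : ((pk61l (fun i1 => (pk61z (pk61d (nat_lit 5) 
    (nat_lit 0x182000008100050828d080439b00b42d51b000c002477ad2003c000006050016080a040c07142a55e52f) i1))) (nat_lit 0) (nat_lit 67) List.nil) : List ℤ)
    = ?xq9046 → (List ℤ)) ?hq9046; (case hq9046 => (set_option maxRecDepth 1000000 in set_option simprocs false in conv => lhs; reduce; dsimp only)); intro _; exact ?xq9046 : List ℤ)

/-- the values at the type 46 -/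
noncomputable def cY46 : List ℤ :=
  (by
  refine (?fq9047 : ((pk61l (fun i1 => (pk61z (pk61d (nat_lit 7) 
    (nat_lit 0x2d2000000030460000c4800c2376011c82e5c018606063b160001700011b0006058000000000000b80180000b4800600605c030460060c302c580) i1))) (nat_lit 0) (nat_lit 67) List.nil) : List ℤ)
    = ?xq9047 → (List ℤ)) ?hq9047; (case hq9047 => (set_option maxRecDepth 1000000 in set_option simprocs false in conv => lhs; reduce; dsimp only)); intro _; exact ?xq9047 : List ℤ)

/-- the values at the type 47 -/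
noncomputable def cY47 : List ℤ :=
  (by
  refine (?fq9048 : ((pk61l (fun i1 => (pk61z (pk61d (nat_lit 6) 
    (nat_lit 0x64400000174800054402d27804a330c00b5cb15e18000c00049700b1800000000003001400064401405cc0174801452c6180) i1))) (nat_lit 0) (nat_lit 67) List.nil) : List ℤ)
    = ?xq9048 → (List ℤ)) ?hq9048; (case hq9048 => (set_option maxRecDepth 1000000 in set_option simprocs false in conv => lhs; reduce; dsimp only)); intro _; exact ?xq9048 : List ℤ)

/-- the values at the type 48 -/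
noncomputable def cY48 : List ℤ :=
  (by
  refine (?fq9049 : ((pk61l (fun i1 => (pk61z (pk61d (nat_lit 6) 
    (nat_lit 0x41000007d030000c2c020c2c00d75d7018bf830b2c001800030f0082c000000001f1c030000411f3203d80100c00c3204100) i1))) (nat_lit 0) (nat_lit 67) List.nil) : List ℤ)
    = ?xq9049 → (List ℤ)) ?hq9049; (case hq9049 => (set_option maxRecDepth 1000000 in set_option simprocs false in conv => lhs; reduce; dsimp only)); intro _; exact ?xq9049 : List ℤ)

/-- the values at the type 49 -/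
noncomputable def cY49 : List ℤ :=
  (by
  refine (?fq9050 : ((pk61l (fun i1 => (pk61z (pk61d (nat_lit 5) 
    (nat_lit 0x4200020728005300653004c6300bc6ca63000b000a800cc00000004080280010c0af42c071004218420) i1))) (nat_lit 0) (nat_lit 67) List.nil) : List ℤ)
    = ?xq9050 → (List ℤ)) ?hq9050; (case hq9050 => (set_option maxRecDepth 1000000 in set_option simprocs false in conv => lhs; reduce; dsimp only)); intro _; exact ?xq9050 : List ℤ)

/-- the values at the type 50 -/
noncomputable def cY50 : List ℤ :=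
  (by
  refine (?fq9051 : ((pk61l (fun i1 => (pk61z (nat_lit 0))) (nat_lit 0) (nat_lit 67) List.nil) : List ℤ)
    = ?xq9051 → (List ℤ)) ?hq9051; (case hq9051 => (set_option maxRecDepth 1000000 in set_option simprocs false in conv => lhs; reduce; dsimp only)); intro _; exact ?xq9051 : List ℤ)

/-- the values at the type 51 -/
noncomputable def cY51 : List ℤ :=
  (by
  refine (?fq9052 : ((pk61l (fun i1 => (pk61z (pk61d (nat_lit 6) 
    (nat_lit 0xb2cc30b2cc30c2cc30b2cb30b2c000002f00000001700060000001801862f0175c000c31701800b5c02d75c0000018318318) i1))) (nat_lit 0) (nat_lit 67) List.nil) : List ℤ)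
    = ?xq9052 → (List ℤ)) ?hq9052; (case hq9052 => (set_option maxRecDepth 1000000 in set_option simprocs false in conv => lhs; reduce; dsimp only)); intro _; exact ?xq9052 : List ℤ)

/-- the values at the type 52 -/
noncomputable def cY52 : List ℤ :=
  (by
  refine (?fq9053 : ((pk61l (fun i1 => (pk61z (pk61d (nat_lit 5) 
    (nat_lit 0x18c5298c5294c5298c6298c00001800000030005800002c0b5e00c600052b00b01980331800000b2acab) i1))) (nat_lit 0) (nat_lit 67) List.nil) : List ℤ)
    = ?xq9053 → (List ℤ)) ?hq9053; (case hq9053 => (set_option maxRecDepth 1000000 in set_option simprocs false in conv => lhs; reduce; dsimp only)); intro _; exact ?xq9053 : List ℤ)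

/-- the values at the type 53 -/
noncomputable def cY53 : List ℤ :=
  (by
  refine (?fq9054 : ((pk61l (fun i1 => (pk61z (nat_lit 0))) (nat_lit 0) (nat_lit 67) List.nil) : List ℤ)
    = ?xq9054 → (List ℤ)) ?hq9054; (case hq9054 => (set_option maxRecDepth 1000000 in set_option simprocs false in conv => lhs; reduce; dsimp only)); intro _; exact ?xq9054 : List ℤ)

/-- the values at the type 54 -/
noncomputable def cY54 : List ℤ :=
  (by
  refine (?fq9055 : ((pk61l (fun i1 => (pk61z (nat_lit 0))) (nat_lit 0) (nat_lit 67) List.nil) : List ℤ)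
    = ?xq9055 → (List ℤ)) ?hq9055; (case hq9055 => (set_option maxRecDepth 1000000 in set_option simprocs false in conv => lhs; reduce; dsimp only)); intro _; exact ?xq9055 : List ℤ)

/-- the values at the type 55 -/
noncomputable def cY55 : List ℤ :=
  (by
  refine (?fq9056 : ((pk61l (fun i1 => (pk61z (pk61d (nat_lit 10) 
    (nat_lit 0x2359d68240b47e1682ccb359d8b7dcb408d675a18c23c00000000016735c00000000016835c00b400000000000b40002308cb4870b32ce1b000242cc248708f000b45a0002d0902cc0035cd735c8f5a08f24023) i1))) (nat_lit 0) (nat_lit 67) List.nil) : List ℤ)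
    = ?xq9056 → (List ℤ)) ?hq9056; (case hq9056 => (set_option maxRecDepth 1000000 in set_option simprocs false in conv => lhs; reduce; dsimp only)); intro _; exact ?xq9056 : List ℤ)

/-- the values at the type 56 -/
noncomputable def cY56 : List ℤ :=
  (by
  refine (?fq9057 : ((pk61l (fun i1 => (pk61z (pk61d (nat_lit 9) 
    (nat_lit 0x4968b323965f6b32d16968c67e16424b459b1490000000000b4360000000002ccd800b38000000001640012091661a5a2d43800112d0461a480016566002c91cb400361b0d848599208e12) i1))) (nat_lit 0) (nat_lit 67) List.nil) : List ℤ)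
    = ?xq9057 → (List ℤ)) ?hq9057; (case hq9057 => (set_option maxRecDepth 1000000 in set_option simprocs false in conv => lhs; reduce; dsimp only)); intro _; exact ?xq9057 : List ℤ)

/-- the values at the type 57 -/
noncomputable def cY57 : List ℤ :=
  (by
  refine (?fq9058 : ((pk61l (fun i1 => (pk61z (nat_lit 0))) (nat_lit 0) (nat_lit 67) List.nil) : List ℤ)
    = ?xq9058 → (List ℤ)) ?hq9058; (case hq9058 => (set_option maxRecDepth 1000000 in set_option simprocs false in conv => lhs; reduce; dsimp only)); intro _; exact ?xq9058 : List ℤ)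

/-- the values at the type 58 -/
noncomputable def cY58 : List ℤ :=
  (by
  refine (?fq9059 : ((pk61l (fun i1 => (pk61z (pk61d (nat_lit 6) 
    (nat_lit 0xf5cb1000003d85d87104033c00003c06001d800000c0005c05c35c000010000411800c8107c37c41cb8205cf4001073c8) i1))) (nat_lit 0) (nat_lit 67) List.nil) : List ℤ)
    = ?xq9059 → (List ℤ)) ?hq9059; (case hq9059 => (set_option maxRecDepth 1000000 in set_option simprocs false in conv => lhs; reduce; dsimp only)); intro _; exact ?xq9059 : List ℤ)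

/-- the values at the type 59 -/
noncomputable def cY59 : List ℤ :=
  (by
  refine (?fq9060 : ((pk61l (fun i1 => (pk61z (pk61d (nat_lit 5) 
    (nat_lit 0x8618200010b62da738900001005808b000050018060980000200042b015e780a01219ef620e009103) i1))) (nat_lit 0) (nat_lit 67) List.nil) : List ℤ)
    = ?xq9060 → (List ℤ)) ?hq9060; (case hq9060 => (set_option maxRecDepth 1000000 in set_option simprocs false in conv => lhs; reduce; dsimp only)); intro _; exact ?xq9060 : List ℤ)

/-- the values at the type 60 -/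
noncomputable def cY60 : List ℤ :=
  (by
  refine (?fq9061 : ((pk61l (fun i1 => (pk61z (pk61d (nat_lit 7) 
    (nat_lit 0x3c02f0e2d200003d827501d61f1e70f8000017804e00bc80000f8c0000c00304cb8f6000a0f6050587008c00f004c0240e2c0002e807902820808) i1))) (nat_lit 0) (nat_lit 67) List.nil) : List ℤ)
    = ?xq9061 → (List ℤ)) ?hq9061; (case hq9061 => (set_option maxRecDepth 1000000 in set_option simprocs false in conv => lhs; reduce; dsimp only)); intro _; exact ?xq9061 : List ℤ)

/-- the values at the type 61 -/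
noncomputable def cY61 : List ℤ :=
  (by
  refine (?fq9062 : ((pk61l (fun i1 => (pk61z (pk61d (nat_lit 6) 
    (nat_lit 0x80181064400085d44c455020d4000006005003230004050002c02ca3085c02485c918401200800a01110600030f2072431c3) i1))) (nat_lit 0) (nat_lit 67) List.nil) : List ℤ)
    = ?xq9062 → (List ℤ)) ?hq9062; (case hq9062 => (set_option maxRecDepth 1000000 in set_option simprocs false in conv => lhs; reduce; dsimp only)); intro _; exact ?xq9062 : List ℤ)

/-- the values at the type 62 -/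
noncomputable def cY62 : List ℤ :=
  (by
  refine (?fq9063 : ((pk61l (fun i1 => (pk61z (pk61d (nat_lit 5) 
    (nat_lit 0x1c000000021c0000004180680600001c0b0310021c07001631800c60000200005800000160000000308c) i1))) (nat_lit 0) (nat_lit 67) List.nil) : List ℤ)
    = ?xq9063 → (List ℤ)) ?hq9063; (case hq9063 => (set_option maxRecDepth 1000000 in set_option simprocs false in conv => lhs; reduce; dsimp only)); intro _; exact ?xq9063 : List ℤ)

/-- the values at the type 63 -/
noncomputable def cY63 : List ℤ :=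
  (by
  refine (?fq9064 : ((pk61l (fun i1 => (pk61z (pk61d (nat_lit 4) 
    (nat_lit 0x40000001400000120230b0004060530140400622005500010006000006000000515) i1))) (nat_lit 0) (nat_lit 67) List.nil) : List ℤ)
    = ?xq9064 → (List ℤ)) ?hq9064; (case hq9064 => (set_option maxRecDepth 1000000 in set_option simprocs false in conv => lhs; reduce; dsimp only)); intro _; exact ?xq9064 : List ℤ)

/-- the values at the type 64 -/
noncomputable def cY64 : List ℤ :=
  (by
  refine (?fq9065 : ((pk61l (fun i1 => (pk61z (pk61d (nat_lit 7) 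
    (nat_lit 0x20c00008000c4e4000f1700d8b187c5c8900000f10bd1804800000000000c182059f400cfa03e3c5bf0e8039818fcbb0366040b162cd800e30603) i1))) (nat_lit 0) (nat_lit 67) List.nil) : List ℤ)
    = ?xq9065 → (List ℤ)) ?hq9065; (case hq9065 => (set_option maxRecDepth 1000000 in set_option simprocs false in conv => lhs; reduce; dsimp only)); intro _; exact ?xq9065 : List ℤ)

/-- the values at the type 65 -/
noncomputable def cY65 : List ℤ :=
  (by
  refine (?fq9066 : ((pk61l (fun i1 => (pk61z (pk61d (nat_lit 6) 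
    (nat_lit 0x32c000f00550700819f3861501a38c00080d84804400000000051431903c240f4081a010f10b16031738b0c6186380105142) i1))) (nat_lit 0) (nat_lit 67) List.nil) : List ℤ)
    = ?xq9066 → (List ℤ)) ?hq9066; (case hq9066 => (set_option maxRecDepth 1000000 in set_option simprocs false in conv => lhs; reduce; dsimp only)); intro _; exact ?xq9066 : List ℤ)

/-- the values at the type 66 -/
noncomputable def cY66 : List ℤ :=
  (by
  refine (?fq9067 : ((pk61l (fun i1 => (pk61z (pk61d (nat_lit 5) 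
    (nat_lit 0x1ce0000073a00001d0800000801e00410081c0001c0839c000000001c0740000001074010001ce002108) i1))) (nat_lit 0) (nat_lit 67) List.nil) : List ℤ)
    = ?xq9067 → (List ℤ)) ?hq9067; (case hq9067 => (set_option maxRecDepth 1000000 in set_option simprocs false in conv => lhs; reduce; dsimp only)); intro _; exact ?xq9067 : List ℤ)

/-- the values at the type 67 -/
noncomputable def cY67 : List ℤ :=
  (by
  refine (?fq9068 : ((pk61l (fun i1 => (pk61z (pk61d (nat_lit 4) 
    (nat_lit 0x4400004430004330000708007307400040344000000040430000034303004400333) i1))) (nat_lit 0) (nat_lit 67) List.nil) : List ℤ)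
    = ?xq9068 → (List ℤ)) ?hq9068; (case hq9068 => (set_option maxRecDepth 1000000 in set_option simprocs false in conv => lhs; reduce; dsimp only)); intro _; exact ?xq9068 : List ℤ)

/-- the values at the type 68 -/
noncomputable def cY68 : List ℤ :=
  (by
  refine (?fq9069 : ((pk61l (fun i1 => (pk61z (pk61d (nat_lit 6) 
    (nat_lit 0x41000002c41cf0000075086002c04003c00073c01d00000100031c400000000000430720000b30b2130c03e49074e42c30cf) i1))) (nat_lit 0) (nat_lit 67) List.nil) : List ℤ)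
    = ?xq9069 → (List ℤ)) ?hq9069; (case hq9069 => (set_option maxRecDepth 1000000 in set_option simprocs false in conv => lhs; reduce; dsimp only)); intro _; exact ?xq9069 : List ℤ)

/-- the values at the type 69 -/
noncomputable def cY69 : List ℤ :=
  (by
  refine (?fq9070 : ((pk61l (fun i1 => (pk61z (pk61d (nat_lit 5) 
    (nat_lit 0x420000c12200001123580c0381000110021c0001c022040000000004a4180062986a101118915130848) i1))) (nat_lit 0) (nat_lit 67) List.nil) : List ℤ)
    = ?xq9070 → (List ℤ)) ?hq9070; (case hq9070 => (set_option maxRecDepth 1000000 in set_option simprocs false in conv => lhs; reduce; dsimp only)); intro _; exact ?xq9070 : List ℤ)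

/-- the values at the type 70 -/
noncomputable def cY70 : List ℤ :=
  (by
  refine (?fq9071 : ((pk61l (fun i1 => (pk61z (nat_lit 0))) (nat_lit 0) (nat_lit 67) List.nil) : List ℤ)
    = ?xq9071 → (List ℤ)) ?hq9071; (case hq9071 => (set_option maxRecDepth 1000000 in set_option simprocs false in conv => lhs; reduce; dsimp only)); intro _; exact ?xq9071 : List ℤ)

/-- the values at the type 71 -/
noncomputable def cY71 : List ℤ :=
  (by
  refine (?fq9072 : ((pk61l (fun i1 => (pk61z (pk61d (nat_lit 5) 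
    (nat_lit 0xd800218b7c00801c6001d600000f7dc00000000000bc0c107bcef80d683a0ec58f0b1e10c5806c22d68) i1))) (nat_lit 0) (nat_lit 67) List.nil) : List ℤ)
    = ?xq9072 → (List ℤ)) ?hq9072; (case hq9072 => (set_option maxRecDepth 1000000 in set_option simprocs false in conv => lhs; reduce; dsimp only)); intro _; exact ?xq9072 : List ℤ)

/-- the values at the type 72 -/
noncomputable def cY72 : List ℤ :=
  (by
  refine (?fq9073 : ((pk61l (fun i1 => (pk61z (pk61d (nat_lit 4) 
    (nat_lit 0x250035687030420046000088c0000000006b20788487263434562b62b3560251663) i1))) (nat_lit 0) (nat_lit 67) List.nil) : List ℤ)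
    = ?xq9073 → (List ℤ)) ?hq9073; (case hq9073 => (set_option maxRecDepth 1000000 in set_option simprocs false in conv => lhs; reduce; dsimp only)); intro _; exact ?xq9073 : List ℤ)

/-- the values at the type 73 -/
noncomputable def cY73 : List ℤ :=
  (by
  refine (?fq9074 : ((pk61l (fun i1 => (pk61z (pk61d (nat_lit 6) 
    (nat_lit 0x71c00000131cf0309106db3002d7a0082f5d00c01100000100034c72c000c0000102d0e0061730021051820b2c41005c30c3) i1))) (nat_lit 0) (nat_lit 67) List.nil) : List ℤ)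
    = ?xq9074 → (List ℤ)) ?hq9074; (case hq9074 => (set_option maxRecDepth 1000000 in set_option simprocs false in conv => lhs; reduce; dsimp only)); intro _; exact ?xq9074 : List ℤ)

/-- the values at the type 74 -/
noncomputable def cY74 : List ℤ :=
  (by
  refine (?fq9075 : ((pk61l (fun i1 => (pk61z (pk61d (nat_lit 5) 
    (nat_lit 0x10800000a2201789dce280cc981f861c4009c0001c02510c00140001cc7d816c280674ac663042060842) i1))) (nat_lit 0) (nat_lit 67) List.nil) : List ℤ)
    = ?xq9075 → (List ℤ)) ?hq9075; (case hq9075 => (set_option maxRecDepth 1000000 in set_option simprocs false in conv => lhs; reduce; dsimp only)); intro _; exact ?xq9075 : List ℤ)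

/-- the values at the type 75 -/
noncomputable def cY75 : List ℤ :=
  (by
  refine (?fq9076 : ((pk61l (fun i1 => (pk61z (nat_lit 0))) (nat_lit 0) (nat_lit 67) List.nil) : List ℤ)
    = ?xq9076 → (List ℤ)) ?hq9076; (case hq9076 => (set_option maxRecDepth 1000000 in set_option simprocs false in conv => lhs; reduce; dsimp only)); intro _; exact ?xq9076 : List ℤ)

/-- the values at the type 76 -/
noncomputable def cY76 : List ℤ :=
  (by
  refine (?fq9077 : ((pk61l (fun i1 => (pk61z (pk61d (nat_lit 6) 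
    (nat_lit 0x6180bd879131801800b44b3171805c0630bcb5c03180000170052c600000060002948b3175d14918dd49700644c146185140) i1))) (nat_lit 0) (nat_lit 67) List.nil) : List ℤ)
    = ?xq9077 → (List ℤ)) ?hq9077; (case hq9077 => (set_option maxRecDepth 1000000 in set_option simprocs false in conv => lhs; reduce; dsimp only)); intro _; exact ?xq9077 : List ℤ)

/-- the values at the type 77 -/
noncomputable def cY77 : List ℤ :=
  (by
  refine (?fq9078 : ((pk61l (fun i1 => (pk61z (pk61d (nat_lit 7) 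
    (nat_lit 0x2c580c0bdda42ebc02f00612182ec058060017dfc0618002ebc00000c000c302c000000178001511982ec1824469243c46c000b485c60b1630600) i1))) (nat_lit 0) (nat_lit 67) List.nil) : List ℤ)
    = ?xq9078 → (List ℤ)) ?hq9078; (case hq9078 => (set_option maxRecDepth 1000000 in set_option simprocs false in conv => lhs; reduce; dsimp only)); intro _; exact ?xq9078 : List ℤ)

/-- the values at the type 78 -/
noncomputable def cY78 : List ℤ :=
  (by
  refine (?fq9079 : ((pk61l (fun i1 => (pk61z (nat_lit 0))) (nat_lit 0) (nat_lit 67) List.nil) : List ℤ)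
    = ?xq9079 → (List ℤ)) ?hq9079; (case hq9079 => (set_option maxRecDepth 1000000 in set_option simprocs false in conv => lhs; reduce; dsimp only)); intro _; exact ?xq9079 : List ℤ)

/-- the values at the type 79 -/
noncomputable def cY79 : List ℤ :=
  (by
  refine (?fq9080 : ((pk61l (fun i1 => (pk61z (pk61d (nat_lit 8) 
    (nat_lit 0xf0000000f2f005010002030400f5f2f102f000000009f200000000000000000000000000f5f403f50103f403f603f4f0f4f00000f00000f2f5000605f0f2f1000000f) i1))) (nat_lit 0) (nat_lit 67) List.nil) : List ℤ)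
    = ?xq9080 → (List ℤ)) ?hq9080; (case hq9080 => (set_option maxRecDepth 1000000 in set_option simprocs false in conv => lhs; reduce; dsimp only)); intro _; exact ?xq9080 : List ℤ)

/-- the values at the type 80 -/
noncomputable def cY80 : List ℤ :=
  (by
  refine (?fq9081 : ((pk61l (fun i1 => (pk61z (pk61d (nat_lit 7) 
    (nat_lit 0x200000020c004e1c00f2e7c430301cc0000000501e0000000000000000000002181f409c3a03e817a05021400002000010613805ec04180e00008) i1))) (nat_lit 0) (nat_lit 67) List.nil) : List ℤ)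
    = ?xq9081 → (List ℤ)) ?hq9081; (case hq9081 => (set_option maxRecDepth 1000000 in set_option simprocs false in conv => lhs; reduce; dsimp only)); intro _; exact ?xq9081 : List ℤ)

/-- the values at the type 81 -/
noncomputable def cY81 : List ℤ :=
  (by
  refine (?fq9082 : ((pk61l (fun i1 => (pk61z (pk61d (nat_lit 8) 
    (nat_lit 0x177800c05f60b318ef003024306b3b3c603bd777005ff01730530084300000002f00cc0c17240000b35f00002f2430186077482300473024184754249b0b5f78533c23) i1))) (nat_lit 0) (nat_lit 67) List.nil) : List ℤ)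
    = ?xq9082 → (List ℤ)) ?hq9082; (case hq9082 => (set_option maxRecDepth 1000000 in set_option simprocs false in conv => lhs; reduce; dsimp only)); intro _; exact ?xq9082 : List ℤ)

/-- the values at the type 82 -/
noncomputable def cY82 : List ℤ :=
  (by
  refine (?fq9083 : ((pk61l (fun i1 => (pk61z (pk61d (nat_lit 7) 
    (nat_lit 0x31d80bec17da17e0017225db1e3abcf6c7801877185d500825c00000600650a308800169800006089716bde232401217222d229233833076a8e92) i1))) (nat_lit 0) (nat_lit 67) List.nil) : List ℤ)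
    = ?xq9083 → (List ℤ)) ?hq9083; (case hq9083 => (set_option maxRecDepth 1000000 in set_option simprocs false in conv => lhs; reduce; dsimp only)); intro _; exact ?xq9083 : List ℤ)

/-- the values at the type 83 -/
noncomputable def cY83 : List ℤ :=
  (by
  refine (?fq9084 : ((pk61l (fun i1 => (pk61z (nat_lit 0))) (nat_lit 0) (nat_lit 67) List.nil) : List ℤ)
    = ?xq9084 → (List ℤ)) ?hq9084; (case hq9084 => (set_option maxRecDepth 1000000 in set_option simprocs false in conv => lhs; reduce; dsimp only)); intro _; exact ?xq9084 : List ℤ)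

/-- the values at the type 84 -/
noncomputable def cY84 : List ℤ :=
  (by
  refine (?fq9085 : ((pk61l (fun i1 => (pk61z (pk61d (nat_lit 5) 
    (nat_lit 0x2c005800b000000018003160063180000b5800b030000000c6000b5800003000000005818b0016000180) i1))) (nat_lit 0) (nat_lit 67) List.nil) : List ℤ)
    = ?xq9085 → (List ℤ)) ?hq9085; (case hq9085 => (set_option maxRecDepth 1000000 in set_option simprocs false in conv => lhs; reduce; dsimp only)); intro _; exact ?xq9085 : List ℤ)

/-- the values at the type 85 -/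
noncomputable def cY85 : List ℤ :=
  (by
  refine (?fq9086 : ((pk61l (fun i1 => (pk61z (pk61d (nat_lit 4) 
    (nat_lit 0x60060060000005005600bbb00066006050000055006600005000000605600600050) i1))) (nat_lit 0) (nat_lit 67) List.nil) : List ℤ)
    = ?xq9086 → (List ℤ)) ?hq9086; (case hq9086 => (set_option maxRecDepth 1000000 in set_option simprocs false in conv => lhs; reduce; dsimp only)); intro _; exact ?xq9086 : List ℤ)

/-- the values at the type 86 -/
noncomputable def cY86 : List ℤ :=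
  (by
  refine (?fq9087 : ((pk61l (fun i1 => (pk61z (pk61d (nat_lit 5) 
    (nat_lit 0x1c0803000000e0000835916005c000000c000eb381805808c1808c181000306058060011600200019064) i1))) (nat_lit 0) (nat_lit 67) List.nil) : List ℤ)
    = ?xq9087 → (List ℤ)) ?hq9087; (case hq9087 => (set_option maxRecDepth 1000000 in set_option simprocs false in conv => lhs; reduce; dsimp only)); intro _; exact ?xq9087 : List ℤ)

/-- the values at the type 87 -/
noncomputable def cY87 : List ℤ :=
  (by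
  refine (?fq9088 : ((pk61l (fun i1 => (pk61z (pk61d (nat_lit 4) 
    (nat_lit 0x40305000040001261600c0000050046405060152015203005206020016003002121) i1))) (nat_lit 0) (nat_lit 67) List.nil) : List ℤ)
    = ?xq9088 → (List ℤ)) ?hq9088; (case hq9088 => (set_option maxRecDepth 1000000 in set_option simprocs false in conv => lhs; reduce; dsimp only)); intro _; exact ?xq9088 : List ℤ)

/-- the values at the type 88 -/
noncomputable def cY88 : List ℤ :=
  (by
  refine (?fq9089 : ((pk61l (fun i1 => (pk61z (pk61d (nat_lit 3) 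
    (nat_lit 0x8200001004008880010000086800000801000864000110000b) i1))) (nat_lit 0) (nat_lit 67) List.nil) : List ℤ)
    = ?xq9089 → (List ℤ)) ?hq9089; (case hq9089 => (set_option maxRecDepth 1000000 in set_option simprocs false in conv => lhs; reduce; dsimp only)); intro _; exact ?xq9089 : List ℤ)

/-- the values at the type 89 -/
noncomputable def cY89 : List ℤ :=
  (by
  refine (?fq9090 : ((pk61l (fun i1 => (pk61z (pk61d (nat_lit 4) 
    (nat_lit 0x303000000300400034070000700000074c000000040003000408400000407000048) i1))) (nat_lit 0) (nat_lit 67) List.nil) : List ℤ)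
    = ?xq9090 → (List ℤ)) ?hq9090; (case hq9090 => (set_option maxRecDepth 1000000 in set_option simprocs false in conv => lhs; reduce; dsimp only)); intro _; exact ?xq9090 : List ℤ)

/-- the values at the type 90 -/
noncomputable def cY90 : List ℤ :=
  (by
  refine (?fq9091 : ((pk61l (fun i1 => (pk61z (pk61d (nat_lit 5) 
    (nat_lit 0x1c0b38080001907808b60c60002e080180000e000000030073816002d88021636318c59d6b3908858c84) i1))) (nat_lit 0) (nat_lit 67) List.nil) : List ℤ)
    = ?xq9091 → (List ℤ)) ?hq9091; (case hq9091 => (set_option maxRecDepth 1000000 in set_option simprocs false in conv => lhs; reduce; dsimp only)); intro _; exact ?xq9091 : List ℤ)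

/-- the values at the type 91 -/
noncomputable def cY91 : List ℤ :=
  (by
  refine (?fq9092 : ((pk61l (fun i1 => (pk61z (pk61d (nat_lit 4) 
    (nat_lit 0x406401000578016522000c070500040000005044060065303625555646641136211) i1))) (nat_lit 0) (nat_lit 67) List.nil) : List ℤ)
    = ?xq9092 → (List ℤ)) ?hq9092; (case hq9092 => (set_option maxRecDepth 1000000 in set_option simprocs false in conv => lhs; reduce; dsimp only)); intro _; exact ?xq9092 : List ℤ)

/-- the values at the type 92 -/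
noncomputable def cY92 : List ℤ :=
  (by
  refine (?fq9093 : ((pk61l (fun i1 => (pk61z (pk61d (nat_lit 7) 
    (nat_lit 0x4c00050f278000f00284eec9bb7851380000000050000000001400000000000ede132601e3c78f1d94005002700ec000773c000264c9a7789d413) i1))) (nat_lit 0) (nat_lit 67) List.nil) : List ℤ)
    = ?xq9093 → (List ℤ)) ?hq9093; (case hq9093 => (set_option maxRecDepth 1000000 in set_option simprocs false in conv => lhs; reduce; dsimp only)); intro _; exact ?xq9093 : List ℤ)

/-- the values at the type 93 -/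
noncomputable def cY93 : List ℤ :=
  (by
  refine (?fq9094 : ((pk61l (fun i1 => (pk61z (pk61d (nat_lit 6) 
    (nat_lit 0xa0004dda0001d01351e29e7495000000004c00000004c000000001e74a28075d75d78900901401e0007a800028a2947544ca) i1))) (nat_lit 0) (nat_lit 67) List.nil) : List ℤ)
    = ?xq9094 → (List ℤ)) ?hq9094; (case hq9094 => (set_option maxRecDepth 1000000 in set_option simprocs false in conv => lhs; reduce; dsimp only)); intro _; exact ?xq9094 : List ℤ)

/-- the values at the type 94 -/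
noncomputable def cY94 : List ℤ :=
  (by
  refine (?fq9095 : ((pk61l (fun i1 => (pk61z (pk61d (nat_lit 5) 
    (nat_lit 0x1017832000316742ce00206000300383000020000000031842016c62d8300d835b17801d8c21cf458c87) i1))) (nat_lit 0) (nat_lit 67) List.nil) : List ℤ)
    = ?xq9095 → (List ℤ)) ?hq9095; (case hq9095 => (set_option maxRecDepth 1000000 in set_option simprocs false in conv => lhs; reduce; dsimp only)); intro _; exact ?xq9095 : List ℤ)

/-- the values at the type 95 -/
noncomputable def cY95 : List ℤ :=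
  (by
  refine (?fq9096 : ((pk61l (fun i1 => (pk61z (pk61d (nat_lit 4) 
    (nat_lit 0x10c757005643640032000b040b0007000000551106556520252656b045514496214) i1))) (nat_lit 0) (nat_lit 67) List.nil) : List ℤ)
    = ?xq9096 → (List ℤ)) ?hq9096; (case hq9096 => (set_option maxRecDepth 1000000 in set_option simprocs false in conv => lhs; reduce; dsimp only)); intro _; exact ?xq9096 : List ℤ)

/-- the values at the type 96 -/
noncomputable def cY96 : List ℤ :=
  (by
  refine (?fq9097 : ((pk61l (fun i1 => (pk61z (pk61d (nat_lit 4) 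
    (nat_lit 0x3400000400330043037880708334000004000400000000030034030000030440330) i1))) (nat_lit 0) (nat_lit 67) List.nil) : List ℤ)
    = ?xq9097 → (List ℤ)) ?hq9097; (case hq9097 => (set_option maxRecDepth 1000000 in set_option simprocs false in conv => lhs; reduce; dsimp only)); intro _; exact ?xq9097 : List ℤ)

/-- the values at the type 97 -/
noncomputable def cY97 : List ℤ :=
  (by
  refine (?fq9098 : ((pk61l (fun i1 => (pk61z (pk61d (nat_lit 3) 
    (nat_lit 0x880002024014146c40d2200008008000000402210000409090) i1))) (nat_lit 0) (nat_lit 67) List.nil) : List ℤ)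
    = ?xq9098 → (List ℤ)) ?hq9098; (case hq9098 => (set_option maxRecDepth 1000000 in set_option simprocs false in conv => lhs; reduce; dsimp only)); intro _; exact ?xq9098 : List ℤ)

/-- the values at the type 98 -/
noncomputable def cY98 : List ℤ :=
  (by
  refine (?fq9099 : ((pk61l (fun i1 => (pk61z (pk61d (nat_lit 4) 
    (nat_lit 0x3000000004300000307078080000404003000000000000000000000000000300004) i1))) (nat_lit 0) (nat_lit 67) List.nil) : List ℤ)
    = ?xq9099 → (List ℤ)) ?hq9099; (case hq9099 => (set_option maxRecDepth 1000000 in set_option simprocs false in conv => lhs; reduce; dsimp only)); intro _; exact ?xq9099 : List ℤ)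

/-- the values at the type 99 -/
noncomputable def cY99 : List ℤ :=
  (by
  refine (?fq9100 : ((pk61l (fun i1 => (pk61z (pk61d (nat_lit 3) 
    (nat_lit 0x8000000a000084118600041010000000000000000000010001) i1))) (nat_lit 0) (nat_lit 67) List.nil) : List ℤ)
    = ?xq9100 → (List ℤ)) ?hq9100; (case hq9100 => (set_option maxRecDepth 1000000 in set_option simprocs false in conv => lhs; reduce; dsimp only)); intro _; exact ?xq9100 : List ℤ)

/-- the values at the type 100 -/
noncomputable def cY100 : List ℤ :=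
  (by
  refine (?fq9101 : ((pk61l (fun i1 => (pk61z (nat_lit 0))) (nat_lit 0) (nat_lit 67) List.nil) : List ℤ)
    = ?xq9101 → (List ℤ)) ?hq9101; (case hq9101 => (set_option maxRecDepth 1000000 in set_option simprocs false in conv => lhs; reduce; dsimp only)); intro _; exact ?xq9101 : List ℤ)

/-- the values at the type 101 -/
noncomputable def cY101 : List ℤ :=
  (by
  refine (?fq9102 : ((pk61l (fun i1 => (pk61z (nat_lit 0))) (nat_lit 0) (nat_lit 67) List.nil) : List ℤ)
    = ?xq9102 → (List ℤ)) ?hq9102; (case hq9102 => (set_option maxRecDepth 1000000 in set_option simprocs false in conv => lhs; reduce; dsimp only)); intro _; exact ?xq9102 : List ℤ)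

/-- the values at the type 102 -/
noncomputable def cY102 : List ℤ :=
  (by
  refine (?fq9103 : ((pk61l (fun i1 => (pk61z (pk61d (nat_lit 5) 
    (nat_lit 0xc6420c642106420c6320c60000100000001c004000001c0744007400031a008010e0220e00000819c68) i1))) (nat_lit 0) (nat_lit 67) List.nil) : List ℤ)
    = ?xq9103 → (List ℤ)) ?hq9103; (case hq9103 => (set_option maxRecDepth 1000000 in set_option simprocs false in conv => lhs; reduce; dsimp only)); intro _; exact ?xq9103 : List ℤ)

/-- the values at the type 103 -/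
noncomputable def cY103 : List ℤ :=
  (by
  refine (?fq9104 : ((pk61l (fun i1 => (pk61z (pk61d (nat_lit 3) 
    (nat_lit 0x912912512922900070001006001047c46024c30602e0003513) i1))) (nat_lit 0) (nat_lit 67) List.nil) : List ℤ)
    = ?xq9104 → (List ℤ)) ?hq9104; (case hq9104 => (set_option maxRecDepth 1000000 in set_option simprocs false in conv => lhs; reduce; dsimp only)); intro _; exact ?xq9104 : List ℤ)

/-- the values at the type 104 -/
noncomputable def cY104 : List ℤ :=
  (by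
  refine (?fq9105 : ((pk61l (fun i1 => (pk61z (nat_lit 0))) (nat_lit 0) (nat_lit 67) List.nil) : List ℤ)
    = ?xq9105 → (List ℤ)) ?hq9105; (case hq9105 => (set_option maxRecDepth 1000000 in set_option simprocs false in conv => lhs; reduce; dsimp only)); intro _; exact ?xq9105 : List ℤ)

/-- the values at the type 105 -/
noncomputable def cY105 : List ℤ :=
  (by
  refine (?fq9106 : ((pk61l (fun i1 => (pk61z (pk61d (nat_lit 5) 
    (nat_lit 0xd0786d079f1043d06838de000007b800001f007800001013191931ac141d18f010e023e60c62ef441e3) i1))) (nat_lit 0) (nat_lit 67) List.nil) : List ℤ)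
    = ?xq9106 → (List ℤ)) ?hq9106; (case hq9106 => (set_option maxRecDepth 1000000 in set_option simprocs false in conv => lhs; reduce; dsimp only)); intro _; exact ?xq9106 : List ℤ)

/-- the values at the type 106 -/
noncomputable def cY106 : List ℤ :=
  (by
  refine (?fq9107 : ((pk61l (fun i1 => (pk61z (pk61d (nat_lit 4) 
    (nat_lit 0x2347e34ad31492342800004c00004b08000010a215a26092958014018a0bbc83782) i1))) (nat_lit 0) (nat_lit 67) List.nil) : List ℤ)
    = ?xq9107 → (List ℤ)) ?hq9107; (case hq9107 => (set_option maxRecDepth 1000000 in set_option simprocs false in conv => lhs; reduce; dsimp only)); intro _; exact ?xq9107 : List ℤ)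

/-- the values at the type 107 -/
noncomputable def cY107 : List ℤ :=
  (by
  refine (?fq9108 : ((pk61l (fun i1 => (pk61z (pk61d (nat_lit 6) 
    (nat_lit 0xf3df7cf3d07d081040f3e04203c000001f0000000100003c00000100103d00103c000f3cf0200107c04207c000000f81f80f) i1))) (nat_lit 0) (nat_lit 67) List.nil) : List ℤ)
    = ?xq9108 → (List ℤ)) ?hq9108; (case hq9108 => (set_option maxRecDepth 1000000 in set_option simprocs false in conv => lhs; reduce; dsimp only)); intro _; exact ?xq9108 : List ℤ)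

/-- the values at the type 108 -/
noncomputable def cY108 : List ℤ :=
  (by
  refine (?fq9109 : ((pk61l (fun i1 => (pk61z (pk61d (nat_lit 5) 
    (nat_lit 0x21108210781de73a10f3bd00000100000001c004000001c0741c07400084200f01e003be00000087c1e8) i1))) (nat_lit 0) (nat_lit 67) List.nil) : List ℤ)
    = ?xq9109 → (List ℤ)) ?hq9109; (case hq9109 => (set_option maxRecDepth 1000000 in set_option simprocs false in conv => lhs; reduce; dsimp only)); intro _; exact ?xq9109 : List ℤ)

/-- the values at the type 109 -/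
noncomputable def cY109 : List ℤ :=
  (by
  refine (?fq9110 : ((pk61l (fun i1 => (pk61z (pk61d (nat_lit 4) 
    (nat_lit 0xbc0000c00b0000000c0b0) i1))) (nat_lit 0) (nat_lit 67) List.nil) : List ℤ)
    = ?xq9110 → (List ℤ)) ?hq9110; (case hq9110 => (set_option maxRecDepth 1000000 in set_option simprocs false in conv => lhs; reduce; dsimp only)); intro _; exact ?xq9110 : List ℤ)

/-- the values at the type 110 -/
noncomputable def cY110 : List ℤ :=
  (by
  refine (?fq9111 : ((pk61l (fun i1 => (pk61z (pk61d (nat_lit 3) 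
    (nat_lit 0x1adb6db6db6db68000000000000000000006a00140c00000a30) i1))) (nat_lit 0) (nat_lit 67) List.nil) : List ℤ)
    = ?xq9111 → (List ℤ)) ?hq9111; (case hq9111 => (set_option maxRecDepth 1000000 in set_option simprocs false in conv => lhs; reduce; dsimp only)); intro _; exact ?xq9111 : List ℤ)

/-- the values at the type 111 -/
noncomputable def cY111 : List ℤ :=
  (by
  refine (?fq9112 : ((pk61l (fun i1 => (pk61z (pk61d (nat_lit 3) 
    (nat_lit 0x176db6db6db6db0000000000000000000006a00140c00000a30) i1))) (nat_lit 0) (nat_lit 67) List.nil) : List ℤ)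
    = ?xq9112 → (List ℤ)) ?hq9112; (case hq9112 => (set_option maxRecDepth 1000000 in set_option simprocs false in conv => lhs; reduce; dsimp only)); intro _; exact ?xq9112 : List ℤ)

/-- the values at the type 112 -/
noncomputable def cY112 : List ℤ :=
  (by
  refine (?fq9113 : ((pk61l (fun i1 => (pk61z (pk61d (nat_lit 5) 
    (nat_lit 0x1c00010800200741c8700ce000000380000000c00000010e74006838c68010000100b3900041e0718007) i1))) (nat_lit 0) (nat_lit 67) List.nil) : List ℤ)
    = ?xq9113 → (List ℤ)) ?hq9113; (case hq9113 => (set_option maxRecDepth 1000000 in set_option simprocs false in conv => lhs; reduce; dsimp only)); intro _; exact ?xq9113 : List ℤ)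

/-- the values at the type 113 -/
noncomputable def cY113 : List ℤ :=
  (by
  refine (?fq9114 : ((pk61l (fun i1 => (pk61z (pk61d (nat_lit 3) 
    (nat_lit 0x1000480c470c0a000080000500006461389304004684073c404) i1))) (nat_lit 0) (nat_lit 67) List.nil) : List ℤ)
    = ?xq9114 → (List ℤ)) ?hq9114; (case hq9114 => (set_option maxRecDepth 1000000 in set_option simprocs false in conv => lhs; reduce; dsimp only)); intro _; exact ?xq9114 : List ℤ)

/-- the values at the type 114 -/
noncomputable def cY114 : List ℤ :=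
  (by
  refine (?fq9115 : ((pk61l (fun i1 => (pk61z (pk61d (nat_lit 4) 
    (nat_lit 0x744000078830030000f070870003007073800040044803000304740080004708) i1))) (nat_lit 0) (nat_lit 67) List.nil) : List ℤ)
    = ?xq9115 → (List ℤ)) ?hq9115; (case hq9115 => (set_option maxRecDepth 1000000 in set_option simprocs false in conv => lhs; reduce; dsimp only)); intro _; exact ?xq9115 : List ℤ)

/-- the values at the type 115 -/
noncomputable def cY115 : List ℤ :=
  (by
  refine (?fq9116 : ((pk61l (fun i1 => (pk61z (pk61d (nat_lit 4) 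
    (nat_lit 0x4110000433200200008040340002004042300010011302000201410030001403) i1))) (nat_lit 0) (nat_lit 67) List.nil) : List ℤ)
    = ?xq9116 → (List ℤ)) ?hq9116; (case hq9116 => (set_option maxRecDepth 1000000 in set_option simprocs false in conv => lhs; reduce; dsimp only)); intro _; exact ?xq9116 : List ℤ)

/-- the values at the type 116 -/
noncomputable def cY116 : List ℤ :=
  (by
  refine (?fq9117 : ((pk61l (fun i1 => (pk61z (nat_lit 0))) (nat_lit 0) (nat_lit 67) List.nil) : List ℤ)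
    = ?xq9117 → (List ℤ)) ?hq9117; (case hq9117 => (set_option maxRecDepth 1000000 in set_option simprocs false in conv => lhs; reduce; dsimp only)); intro _; exact ?xq9117 : List ℤ)

/-- the values at the type 117 -/
noncomputable def cY117 : List ℤ :=
  (by
  refine (?fq9118 : ((pk61l (fun i1 => (pk61z (nat_lit 0))) (nat_lit 0) (nat_lit 67) List.nil) : List ℤ)
    = ?xq9118 → (List ℤ)) ?hq9118; (case hq9118 => (set_option maxRecDepth 1000000 in set_option simprocs false in conv => lhs; reduce; dsimp only)); intro _; exact ?xq9118 : List ℤ)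

/-- the values at the type 118 -/
noncomputable def cY118 : List ℤ :=
  (by
  refine (?fq9119 : ((pk61l (fun i1 => (pk61z (pk61d (nat_lit 4) 
    (nat_lit 0x4040000004004000330300004000000330000000040003000003400000303080043) i1))) (nat_lit 0) (nat_lit 67) List.nil) : List ℤ)
    = ?xq9119 → (List ℤ)) ?hq9119; (case hq9119 => (set_option maxRecDepth 1000000 in set_option simprocs false in conv => lhs; reduce; dsimp only)); intro _; exact ?xq9119 : List ℤ)

/-- the values at the type 119 -/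
noncomputable def cY119 : List ℤ :=
  (by
  refine (?fq9120 : ((pk61l (fun i1 => (pk61z (pk61d (nat_lit 2) 
    (nat_lit 0x1100041028801000a00004080090022306) i1))) (nat_lit 0) (nat_lit 67) List.nil) : List ℤ)
    = ?xq9120 → (List ℤ)) ?hq9120; (case hq9120 => (set_option maxRecDepth 1000000 in set_option simprocs false in conv => lhs; reduce; dsimp only)); intro _; exact ?xq9120 : List ℤ)

/-- the values at the type 120 -/
noncomputable def cY120 : List ℤ :=
  (by
  refine (?fq9121 : ((pk61l (fun i1 => (pk61z (pk61d (nat_lit 4) 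
    (nat_lit 0x7000000470000043038070007040380470700433003300040004000004000000343) i1))) (nat_lit 0) (nat_lit 67) List.nil) : List ℤ)
    = ?xq9121 → (List ℤ)) ?hq9121; (case hq9121 => (set_option maxRecDepth 1000000 in set_option simprocs false in conv => lhs; reduce; dsimp only)); intro _; exact ?xq9121 : List ℤ)

/-- the values at the type 121 -/
noncomputable def cY121 : List ℤ :=
  (by
  refine (?fq9122 : ((pk61l (fun i1 => (pk61z (pk61d (nat_lit 3) 
    (nat_lit 0x10000030000141310010109830400a40240020020000800008a) i1))) (nat_lit 0) (nat_lit 67) List.nil) : List ℤ)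
    = ?xq9122 → (List ℤ)) ?hq9122; (case hq9122 => (set_option maxRecDepth 1000000 in set_option simprocs false in conv => lhs; reduce; dsimp only)); intro _; exact ?xq9122 : List ℤ)

/-- the values at the type 122 -/
noncomputable def cY122 : List ℤ :=
  (by
  refine (?fq9123 : ((pk61l (fun i1 => (pk61z (pk61d (nat_lit 3) 
    (nat_lit 0xc0000000600000e03e0000001c000000103000000000000600) i1))) (nat_lit 0) (nat_lit 67) List.nil) : List ℤ)
    = ?xq9123 → (List ℤ)) ?hq9123; (case hq9123 => (set_option maxRecDepth 1000000 in set_option simprocs false in conv => lhs; reduce; dsimp only)); intro _; exact ?xq9123 : List ℤ)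

/-- the values at the type 123 -/
noncomputable def cY123 : List ℤ :=
  (by
  refine (?fq9124 : ((pk61l (fun i1 => (pk61z (pk61d (nat_lit 3) 
    (nat_lit 0x80000000400000802800000011000000042000000000000400) i1))) (nat_lit 0) (nat_lit 67) List.nil) : List ℤ)
    = ?xq9124 → (List ℤ)) ?hq9124; (case hq9124 => (set_option maxRecDepth 1000000 in set_option simprocs false in conv => lhs; reduce; dsimp only)); intro _; exact ?xq9124 : List ℤ)

/-- the values at the type 124 -/
noncomputable def cY124 : List ℤ :=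
  (by
  refine (?fq9125 : ((pk61l (fun i1 => (pk61z (pk61d (nat_lit 3) 
    (nat_lit 0x200026002112138006082000014100800108042004c1450052) i1))) (nat_lit 0) (nat_lit 67) List.nil) : List ℤ)
    = ?xq9125 → (List ℤ)) ?hq9125; (case hq9125 => (set_option maxRecDepth 1000000 in set_option simprocs false in conv => lhs; reduce; dsimp only)); intro _; exact ?xq9125 : List ℤ)

/-- the values at the type 125 -/
noncomputable def cY125 : List ℤ :=
  (by
  refine (?fq9126 : ((pk61l (fun i1 => (pk61z (pk61d (nat_lit 4) 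
    (nat_lit 0x700003800040344038700080404000000430300300003070074000380434300433) i1))) (nat_lit 0) (nat_lit 67) List.nil) : List ℤ)
    = ?xq9126 → (List ℤ)) ?hq9126; (case hq9126 => (set_option maxRecDepth 1000000 in set_option simprocs false in conv => lhs; reduce; dsimp only)); intro _; exact ?xq9126 : List ℤ)

/-- the values at the type 126 -/
noncomputable def cY126 : List ℤ :=
  (by
  refine (?fq9127 : ((pk61l (fun i1 => (pk61z (nat_lit 0))) (nat_lit 0) (nat_lit 67) List.nil) : List ℤ)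
    = ?xq9127 → (List ℤ)) ?hq9127; (case hq9127 => (set_option maxRecDepth 1000000 in set_option simprocs false in conv => lhs; reduce; dsimp only)); intro _; exact ?xq9127 : List ℤ)

/-- the values at the type 127 -/
noncomputable def cY127 : List ℤ :=
  (by
  refine (?fq9128 : ((pk61l (fun i1 => (pk61z (nat_lit 0))) (nat_lit 0) (nat_lit 67) List.nil) : List ℤ)
    = ?xq9128 → (List ℤ)) ?hq9128; (case hq9128 => (set_option maxRecDepth 1000000 in set_option simprocs false in conv => lhs; reduce; dsimp only)); intro _; exact ?xq9128 : List ℤ)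

/-- the values at the type 128 -/
noncomputable def cY128 : List ℤ :=
  (by
  refine (?fq9129 : ((pk61l (fun i1 => (pk61z (pk61d (nat_lit 4) 
    (nat_lit 0x4400044000000300030000008000000000303000000044000044403300430333440) i1))) (nat_lit 0) (nat_lit 67) List.nil) : List ℤ)
    = ?xq9129 → (List ℤ)) ?hq9129; (case hq9129 => (set_option maxRecDepth 1000000 in set_option simprocs false in conv => lhs; reduce; dsimp only)); intro _; exact ?xq9129 : List ℤ)

/-- the values at the type 129 -/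
noncomputable def cY129 : List ℤ :=
  (by
  refine (?fq9130 : ((pk61l (fun i1 => (pk61z (pk61d (nat_lit 2) 
    (nat_lit 0x1405000808003000022000140152818a94) i1))) (nat_lit 0) (nat_lit 67) List.nil) : List ℤ)
    = ?xq9130 → (List ℤ)) ?hq9130; (case hq9130 => (set_option maxRecDepth 1000000 in set_option simprocs false in conv => lhs; reduce; dsimp only)); intro _; exact ?xq9130 : List ℤ)

/-- the values at the type 130 -/
noncomputable def cY130 : List ℤ :=
  (by
  refine (?fq9131 : ((pk61l (fun i1 => (pk61z (nat_lit 0))) (nat_lit 0) (nat_lit 67) List.nil) : List ℤ)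
    = ?xq9131 → (List ℤ)) ?hq9131; (case hq9131 => (set_option maxRecDepth 1000000 in set_option simprocs false in conv => lhs; reduce; dsimp only)); intro _; exact ?xq9131 : List ℤ)

/-- the values at the type 131 -/
noncomputable def cY131 : List ℤ :=
  (by
  refine (?fq9132 : ((pk61l (fun i1 => (pk61z (pk61d (nat_lit 4) 
    (nat_lit 0x3004004000000300330087800043004040000043004300003000000404300300030) i1))) (nat_lit 0) (nat_lit 67) List.nil) : List ℤ)
    = ?xq9132 → (List ℤ)) ?hq9132; (case hq9132 => (set_option maxRecDepth 1000000 in set_option simprocs false in conv => lhs; reduce; dsimp only)); intro _; exact ?xq9132 : List ℤ)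

/-- the values at the type 132 -/
noncomputable def cY132 : List ℤ :=
  (by
  refine (?fq9133 : ((pk61l (fun i1 => (pk61z (pk61d (nat_lit 3) 
    (nat_lit 0x802010000100900e300140104000140140008000020a010010) i1))) (nat_lit 0) (nat_lit 67) List.nil) : List ℤ)
    = ?xq9133 → (List ℤ)) ?hq9133; (case hq9133 => (set_option maxRecDepth 1000000 in set_option simprocs false in conv => lhs; reduce; dsimp only)); intro _; exact ?xq9133 : List ℤ)

/-- the values at the type 133 -/
noncomputable def cY133 : List ℤ :=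
  (by
  refine (?fq9134 : ((pk61l (fun i1 => (pk61z (nat_lit 0))) (nat_lit 0) (nat_lit 67) List.nil) : List ℤ)
    = ?xq9134 → (List ℤ)) ?hq9134; (case hq9134 => (set_option maxRecDepth 1000000 in set_option simprocs false in conv => lhs; reduce; dsimp only)); intro _; exact ?xq9134 : List ℤ)

/-- the values at the type 134 -/
noncomputable def cY134 : List ℤ :=
  (by
  refine (?fq9135 : ((pk61l (fun i1 => (pk61z (nat_lit 0))) (nat_lit 0) (nat_lit 67) List.nil) : List ℤ)
    = ?xq9135 → (List ℤ)) ?hq9135; (case hq9135 => (set_option maxRecDepth 1000000 in set_option simprocs false in conv => lhs; reduce; dsimp only)); intro _; exact ?xq9135 : List ℤ)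

/-- the values at the type 135 -/
noncomputable def cY135 : List ℤ :=
  (by
  refine (?fq9136 : ((pk61l (fun i1 => (pk61z (pk61d (nat_lit 3) 
    (nat_lit 0xc000001c9181c000300302081b8246000d86200e00006dc) i1))) (nat_lit 0) (nat_lit 67) List.nil) : List ℤ)
    = ?xq9136 → (List ℤ)) ?hq9136; (case hq9136 => (set_option maxRecDepth 1000000 in set_option simprocs false in conv => lhs; reduce; dsimp only)); intro _; exact ?xq9136 : List ℤ)

/-- the values at the type 136 -/
noncomputable def cY136 : List ℤ :=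
  (by
  refine (?fq9137 : ((pk61l (fun i1 => (pk61z (pk61d (nat_lit 3) 
    (nat_lit 0x80000011250100002002008212209400090408088000491) i1))) (nat_lit 0) (nat_lit 67) List.nil) : List ℤ)
    = ?xq9137 → (List ℤ)) ?hq9137; (case hq9137 => (set_option maxRecDepth 1000000 in set_option simprocs false in conv => lhs; reduce; dsimp only)); intro _; exact ?xq9137 : List ℤ)

/-- the values at the type 137 -/
noncomputable def cY137 : List ℤ :=
  (by
  refine (?fq9138 : ((pk61l (fun i1 => (pk61z (pk61d (nat_lit 2) 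
    (nat_lit 0x31c31080002a0000000004021) i1))) (nat_lit 0) (nat_lit 67) List.nil) : List ℤ)
    = ?xq9138 → (List ℤ)) ?hq9138; (case hq9138 => (set_option maxRecDepth 1000000 in set_option simprocs false in conv => lhs; reduce; dsimp only)); intro _; exact ?xq9138 : List ℤ)

/-- the values at the type 138 -/
noncomputable def cY138 : List ℤ :=
  (by
  refine (?fq9139 : ((pk61l (fun i1 => (pk61z (pk61d (nat_lit 4) 
    (nat_lit 0x8048008040030000000033300000000000000000040000304) i1))) (nat_lit 0) (nat_lit 67) List.nil) : List ℤ)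
    = ?xq9139 → (List ℤ)) ?hq9139; (case hq9139 => (set_option maxRecDepth 1000000 in set_option simprocs false in conv => lhs; reduce; dsimp only)); intro _; exact ?xq9139 : List ℤ)

/-- the values at the type 139 -/
noncomputable def cY139 : List ℤ :=
  (by
  refine (?fq9140 : ((pk61l (fun i1 => (pk61z (pk61d (nat_lit 4) 
    (nat_lit 0x30040003000444330008000400000000003000040044000344344403303404433) i1))) (nat_lit 0) (nat_lit 67) List.nil) : List ℤ)
    = ?xq9140 → (List ℤ)) ?hq9140; (case hq9140 => (set_option maxRecDepth 1000000 in set_option simprocs false in conv => lhs; reduce; dsimp only)); intro _; exact ?xq9140 : List ℤ)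

/-- the values at the type 140 -/
noncomputable def cY140 : List ℤ :=
  (by
  refine (?fq9141 : ((pk61l (fun i1 => (pk61z (pk61d (nat_lit 2) 
    (nat_lit 0x2040805680c04000020041409654a245a) i1))) (nat_lit 0) (nat_lit 67) List.nil) : List ℤ)
    = ?xq9141 → (List ℤ)) ?hq9141; (case hq9141 => (set_option maxRecDepth 1000000 in set_option simprocs false in conv => lhs; reduce; dsimp only)); intro _; exact ?xq9141 : List ℤ)

/-- the values at the type 141 -/
noncomputable def cY141 : List ℤ :=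
  (by
  refine (?fq9142 : ((pk61l (fun i1 => (pk61z (pk61d (nat_lit 4) 
    (nat_lit 0x3007c00030874343470000080000070000004c3c033c3b40b0804004000c3373873) i1))) (nat_lit 0) (nat_lit 67) List.nil) : List ℤ)
    = ?xq9142 → (List ℤ)) ?hq9142; (case hq9142 => (set_option maxRecDepth 1000000 in set_option simprocs false in conv => lhs; reduce; dsimp only)); intro _; exact ?xq9142 : List ℤ)

/-- the values at the type 142 -/
noncomputable def cY142 : List ℤ :=
  (by
  refine (?fq9143 : ((pk61l (fun i1 => (pk61z (pk61d (nat_lit 3) 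
    (nat_lit 0x8094008385146000060002000006aa12ab1183040200a944e2) i1))) (nat_lit 0) (nat_lit 67) List.nil) : List ℤ)
    = ?xq9143 → (List ℤ)) ?hq9143; (case hq9143 => (set_option maxRecDepth 1000000 in set_option simprocs false in conv => lhs; reduce; dsimp only)); intro _; exact ?xq9143 : List ℤ)

/-- the values at the type 143 -/
noncomputable def cY143 : List ℤ :=
  (by
  refine (?fq9144 : ((pk61l (fun i1 => (pk61z (pk61d (nat_lit 3) 
    (nat_lit 0x10000090000461b0001c0018904003600000800000000000020) i1))) (nat_lit 0) (nat_lit 67) List.nil) : List ℤ)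
    = ?xq9144 → (List ℤ)) ?hq9144; (case hq9144 => (set_option maxRecDepth 1000000 in set_option simprocs false in conv => lhs; reduce; dsimp only)); intro _; exact ?xq9144 : List ℤ)

/-- the values at the type 144 -/
noncomputable def cY144 : List ℤ :=
  (by
  refine (?fq9145 : ((pk61l (fun i1 => (pk61z (pk61d (nat_lit 3) 
    (nat_lit 0x40000240001412000100010241002400000200000000000008) i1))) (nat_lit 0) (nat_lit 67) List.nil) : List ℤ)
    = ?xq9145 → (List ℤ)) ?hq9145; (case hq9145 => (set_option maxRecDepth 1000000 in set_option simprocs false in conv => lhs; reduce; dsimp only)); intro _; exact ?xq9145 : List ℤ)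

/-- the values at the type 145 -/
noncomputable def cY145 : List ℤ :=
  (by
  refine (?fq9146 : ((pk61l (fun i1 => (pk61z (pk61d (nat_lit 3) 
    (nat_lit 0xc40c00200e39c000000301f0208236000200e061c124003103) i1))) (nat_lit 0) (nat_lit 67) List.nil) : List ℤ)
    = ?xq9146 → (List ℤ)) ?hq9146; (case hq9146 => (set_option maxRecDepth 1000000 in set_option simprocs false in conv => lhs; reduce; dsimp only)); intro _; exact ?xq9146 : List ℤ)

/-- the values at the type 146 -/
noncomputable def cY146 : List ℤ :=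
  (by
  refine (?fq9147 : ((pk61l (fun i1 => (pk61z (pk61d (nat_lit 3) 
    (nat_lit 0x8108000808a30000000201400820a400008088411049002042) i1))) (nat_lit 0) (nat_lit 67) List.nil) : List ℤ)
    = ?xq9147 → (List ℤ)) ?hq9147; (case hq9147 => (set_option maxRecDepth 1000000 in set_option simprocs false in conv => lhs; reduce; dsimp only)); intro _; exact ?xq9147 : List ℤ)

/-- the values at the type 147 -/
noncomputable def cY147 : List ℤ :=
  (by
  refine (?fq9148 : ((pk61l (fun i1 => (pk61z (nat_lit 0))) (nat_lit 0) (nat_lit 67) List.nil) : List ℤ)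
    = ?xq9148 → (List ℤ)) ?hq9148; (case hq9148 => (set_option maxRecDepth 1000000 in set_option simprocs false in conv => lhs; reduce; dsimp only)); intro _; exact ?xq9148 : List ℤ)

/-- the values at the type 148 -/
noncomputable def cY148 : List ℤ :=
  (by
  refine (?fq9149 : ((pk61l (fun i1 => (pk61z (pk61d (nat_lit 4) 
    (nat_lit 0x3000300340304300400000880000000000003043343430343400300303000807003) i1))) (nat_lit 0) (nat_lit 67) List.nil) : List ℤ)
    = ?xq9149 → (List ℤ)) ?hq9149; (case hq9149 => (set_option maxRecDepth 1000000 in set_option simprocs false in conv => lhs; reduce; dsimp only)); intro _; exact ?xq9149 : List ℤ)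

/-- the values at the type 149 -/
noncomputable def cY149 : List ℤ :=
  (by
  refine (?fq9150 : ((pk61l (fun i1 => (pk61z (pk61d (nat_lit 3) 
    (nat_lit 0x8008044205004000360000000008148a282288080410018802) i1))) (nat_lit 0) (nat_lit 67) List.nil) : List ℤ)
    = ?xq9150 → (List ℤ)) ?hq9150; (case hq9150 => (set_option maxRecDepth 1000000 in set_option simprocs false in conv => lhs; reduce; dsimp only)); intro _; exact ?xq9150 : List ℤ)

/-- the values at the type 150 -/
noncomputable def cY150 : List ℤ :=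
  (by
  refine (?fq9151 : ((pk61l (fun i1 => (pk61z (nat_lit 0))) (nat_lit 0) (nat_lit 67) List.nil) : List ℤ)
    = ?xq9151 → (List ℤ)) ?hq9151; (case hq9151 => (set_option maxRecDepth 1000000 in set_option simprocs false in conv => lhs; reduce; dsimp only)); intro _; exact ?xq9151 : List ℤ)

/-- the values at the type 151 -/
noncomputable def cY151 : List ℤ :=
  (by
  refine (?fq9152 : ((pk61l (fun i1 => (pk61z (nat_lit 0))) (nat_lit 0) (nat_lit 67) List.nil) : List ℤ)
    = ?xq9152 → (List ℤ)) ?hq9152; (case hq9152 => (set_option maxRecDepth 1000000 in set_option simprocs false in conv => lhs; reduce; dsimp only)); intro _; exact ?xq9152 : List ℤ)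

/-- the values at the type 152 -/
noncomputable def cY152 : List ℤ :=
  (by
  refine (?fq9153 : ((pk61l (fun i1 => (pk61z (nat_lit 0))) (nat_lit 0) (nat_lit 67) List.nil) : List ℤ)
    = ?xq9153 → (List ℤ)) ?hq9153; (case hq9153 => (set_option maxRecDepth 1000000 in set_option simprocs false in conv => lhs; reduce; dsimp only)); intro _; exact ?xq9153 : List ℤ)

/-- the values at the type 153 -/
noncomputable def cY153 : List ℤ :=
  (by
  refine (?fq9154 : ((pk61l (fun i1 => (pk61z (pk61d (nat_lit 4) 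
    (nat_lit 0x7080000007000780700000000000070700000708070808000800080070008008787) i1))) (nat_lit 0) (nat_lit 67) List.nil) : List ℤ)
    = ?xq9154 → (List ℤ)) ?hq9154; (case hq9154 => (set_option maxRecDepth 1000000 in set_option simprocs false in conv => lhs; reduce; dsimp only)); intro _; exact ?xq9154 : List ℤ)

/-- the values at the type 154 -/
noncomputable def cY154 : List ℤ :=
  (by
  refine (?fq9155 : ((pk61l (fun i1 => (pk61z (pk61d (nat_lit 3) 
    (nat_lit 0x1030000200231000000000208000206206180180181000c071c) i1))) (nat_lit 0) (nat_lit 67) List.nil) : List ℤ)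
    = ?xq9155 → (List ℤ)) ?hq9155; (case hq9155 => (set_option maxRecDepth 1000000 in set_option simprocs false in conv => lhs; reduce; dsimp only)); intro _; exact ?xq9155 : List ℤ)

/-- the values at the type 155 -/
noncomputable def cY155 : List ℤ :=
  (by
  refine (?fq9156 : ((pk61l (fun i1 => (pk61z (pk61d (nat_lit 3) 
    (nat_lit 0x8200001004008820004000024000000801002044000104000a) i1))) (nat_lit 0) (nat_lit 67) List.nil) : List ℤ)
    = ?xq9156 → (List ℤ)) ?hq9156; (case hq9156 => (set_option maxRecDepth 1000000 in set_option simprocs false in conv => lhs; reduce; dsimp only)); intro _; exact ?xq9156 : List ℤ)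

/-- the values at the type 156 -/
noncomputable def cY156 : List ℤ :=
  (by
  refine (?fq9157 : ((pk61l (fun i1 => (pk61z (pk61d (nat_lit 3) 
    (nat_lit 0xc30000181000e0800100000900000020018038700004100023) i1))) (nat_lit 0) (nat_lit 67) List.nil) : List ℤ)
    = ?xq9157 → (List ℤ)) ?hq9157; (case hq9157 => (set_option maxRecDepth 1000000 in set_option simprocs false in conv => lhs; reduce; dsimp only)); intro _; exact ?xq9157 : List ℤ)

/-- the values at the type 157 -/
noncomputable def cY157 : List ℤ :=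
  (by
  refine (?fq9158 : ((pk61l (fun i1 => (pk61z (pk61d (nat_lit 3) 
    (nat_lit 0x1008200046200d80008000200000048000030c30001009230e4) i1))) (nat_lit 0) (nat_lit 67) List.nil) : List ℤ)
    = ?xq9158 → (List ℤ)) ?hq9158; (case hq9158 => (set_option maxRecDepth 1000000 in set_option simprocs false in conv => lhs; reduce; dsimp only)); intro _; exact ?xq9158 : List ℤ)

/-- the values at the type 158 -/
noncomputable def cY158 : List ℤ :=
  (by
  refine (?fq9159 : ((pk61l (fun i1 => (pk61z (pk61d (nat_lit 2) 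
    (nat_lit 0x1044018428004004000140022200105625) i1))) (nat_lit 0) (nat_lit 67) List.nil) : List ℤ)
    = ?xq9159 → (List ℤ)) ?hq9159; (case hq9159 => (set_option maxRecDepth 1000000 in set_option simprocs false in conv => lhs; reduce; dsimp only)); intro _; exact ?xq9159 : List ℤ)

/-- the values at the type 159 -/
noncomputable def cY159 : List ℤ :=
  (by
  refine (?fq9160 : ((pk61l (fun i1 => (pk61z (pk61d (nat_lit 4) 
    (nat_lit 0x400047003078444c370000070000000000004443033433304000400470034473004) i1))) (nat_lit 0) (nat_lit 67) List.nil) : List ℤ)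
    = ?xq9160 → (List ℤ)) ?hq9160; (case hq9160 => (set_option maxRecDepth 1000000 in set_option simprocs false in conv => lhs; reduce; dsimp only)); intro _; exact ?xq9160 : List ℤ)

/-- the values at the type 160 -/
noncomputable def cY160 : List ℤ :=
  (by
  refine (?fq9161 : ((pk61l (fun i1 => (pk61z (pk61d (nat_lit 3) 
    (nat_lit 0x40060084649aa000080000000004941229204004030044c401) i1))) (nat_lit 0) (nat_lit 67) List.nil) : List ℤ)
    = ?xq9161 → (List ℤ)) ?hq9161; (case hq9161 => (set_option maxRecDepth 1000000 in set_option simprocs false in conv => lhs; reduce; dsimp only)); intro _; exact ?xq9161 : List ℤ)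

/-- the columns -/
noncomputable def colsY : List (List ℤ) :=
  (beta% (fun (vq0 : List (List ℤ)) (vq1 : type_of% @lq266c50120f_0) (vq2 : type_of% @lq266c50120f_1) => (
      (let vqy1 : type_of% vq0 := (let vqy2 : type_of% vq0 := (let vqy3 : type_of% vq0 := (let vqy4 : type_of% vq0 := (let vqy5 : type_of% vq0 := (vq2 cY155 (vq2 cY156 (vq2 cY157 (vq2 cY158 (vq2 cY159 (vq2 cY160 vq1))))));
      (vq2 cY150 (vq2 cY151
      (vq2 cY152 (vq2 cY153 (vq2 cY154 vqy5))))));
      (let vqy6 : type_of% vqy4 := (vq2 cY145 (vq2 cY146 (vq2 cY147 (vq2 cY148 (vq2 cY149 vqy4)))));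
      (vq2 cY140 (vq2 cY141 (vq2 cY142 (vq2 cY143 (vq2 cY144 vqy6)))))));
      (let vqy7 : type_of% vqy3 := (let vqy8 : type_of% vqy3 := (vq2 cY135 (vq2 cY136
      (vq2 cY137 (vq2 cY138 (vq2 cY139 vqy3)))));
      (vq2 cY130 (vq2 cY131 (vq2 cY132 (vq2 cY133 (vq2 cY134 vqy8))))));
      (let vqy9 : type_of% vqy7 := (vq2 cY125 (vq2 cY126 (vq2 cY127 (vq2 cY128 (vq2 cY129 vqy7)))));
      (vq2 cY120 (vq2 cY121
      (vq2 cY122 (vq2 cY123 (vq2 cY124 vqy9))))))));
      (let vqy10 : type_of% vqy2 := (let vqy11 : type_of% vqy2 := (let vqy12 : type_of% vqy2 := (vq2 cY115 (vq2 cY116 (vq2 cY117 (vq2 cY118 (vq2 cY119 vqy2)))));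
      (vq2 cY110 (vq2 cY111 (vq2 cY112 (vq2 cY113 (vq2 cY114 vqy12))))));
      (let vqy13 : type_of% vqy11 := (vq2 cY105 (vq2 cY106
      (vq2 cY107 (vq2 cY108 (vq2 cY109 vqy11)))));
      (vq2 cY100 (vq2 cY101 (vq2 cY102 (vq2 cY103 (vq2 cY104 vqy13)))))));
      (let vqy14 : type_of% vqy10 := (let vqy15 : type_of% vqy10 := (vq2 cY95 (vq2 cY96 (vq2 cY97 (vq2 cY98 (vq2 cY99 vqy10)))));
      (vq2 cY90
      (vq2 cY91 (vq2 cY92 (vq2 cY93 (vq2 cY94 vqy15))))));
      (let vqy16 : type_of% vqy14 := (vq2 cY85 (vq2 cY86 (vq2 cY87 (vq2 cY88 (vq2 cY89 vqy14)))));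
      (vq2 cY80 (vq2 cY81 (vq2 cY82 (vq2 cY83 (vq2 cY84 vqy16)))))))));
      (let vqy17 : type_of% vqy1 := (let vqy18 : type_of% vqy1 := (let vqy19 : type_of% vqy1 := (let vqy20 : type_of% vqy1 := (vq2 cY75 (vq2 cY76 (vq2 cY77 (vq2 cY78 (vq2 cY79 vqy1)))));
      (vq2 cY70 (vq2 cY71 (vq2 cY72
      (vq2 cY73 (vq2 cY74 vqy20))))));
      (let vqy21 : type_of% vqy19 := (vq2 cY65 (vq2 cY66 (vq2 cY67 (vq2 cY68 (vq2 cY69 vqy19)))));
      (vq2 cY60 (vq2 cY61 (vq2 cY62 (vq2 cY63 (vq2 cY64 vqy21)))))));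
      (let vqy22 : type_of% vqy18 := (let vqy23 : type_of% vqy18 := (vq2 cY55 (vq2 cY56 (vq2 cY57 (vq2 cY58 (vq2 cY59 vqy18)))));
      (vq2 cY50 (vq2 cY51 (vq2 cY52 (vq2 cY53 (vq2 cY54
      vqy23))))));
      (let vqy24 : type_of% vqy22 := (vq2 cY45 (vq2 cY46 (vq2 cY47 (vq2 cY48 (vq2 cY49 vqy22)))));
      (vq2 cY40 (vq2 cY41 (vq2 cY42 (vq2 cY43 (vq2 cY44 vqy24))))))));
      (let vqy25 : type_of% vqy17 := (let vqy26 : type_of% vqy17 := (let vqy27 : type_of% vqy17 := (vq2 cY35 (vq2 cY36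
      (vq2 cY37 (vq2 cY38 (vq2 cY39 vqy17)))));
      (vq2 cY30 (vq2 cY31 (vq2 cY32 (vq2 cY33 (vq2 cY34 vqy27))))));
      (let vqy28 : type_of% vqy26 := (vq2 cY25 (vq2 cY26 (vq2 cY27 (vq2 cY28 (vq2 cY29 vqy26)))));
      (vq2 cY20 (vq2 cY21 (vq2 cY22 (vq2 cY23 (vq2 cY24 vqy28)))))));
      (let vqy29 : type_of% vqy25 := (let vqy30 : type_of% vqy25 := (vq2 cY15 (vq2 cY16 (vq2 cY17 (vq2 cY18
      (vq2 cY19 vqy25)))));
      (vq2 cY10 (vq2 cY11 (vq2 cY12 (vq2 cY13 (vq2 cY14 vqy30))))));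
      (let vqy31 : type_of% vqy29 := (vq2 cY5 (vq2 cY6 (vq2 cY7 (vq2 cY8 (vq2 cY9 vqy29)))));
      (vq2 cY0 (vq2 cY1 (vq2 cY2 (vq2 cY3 (vq2 cY4 vqy31)))))))))) :
      List (List ℤ)))
      _ (delta% @lq266c50120f_0 :) (delta% @lq266c50120f_1 :))

/-- the norms -/
def nmY : List ℕ :=
  (by
  refine (?fq9162 : ((pk61l (fun i1 => (pk61d (nat_lit 3) 
    (nat_lit 0x92492492492494924912492492492492492492492492492492) i1)) (nat_lit 0) (nat_lit 67) List.nil) : List ℕ)
    = ?xq9162 → (List ℕ)) ?hq9162; (case hq9162 => (set_option maxRecDepth 1000000 in set_option simprocs false in conv => lhs; reduce; dsimp only)); intro _; exact ?xq9162 : List ℕ)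

/-- the signs -/
noncomputable def sgY : List ℤ :=
  (by
  refine (?fq9163 : ((pk61l (fun i1 => (pk61z (pk61d (nat_lit 2) 
    (nat_lit 0xa55a965a6aaaaaaaaaaaaaaaaaaaaaaaa) i1))) (nat_lit 0) (nat_lit 66) List.nil) : List ℤ)
    = ?xq9163 → (List ℤ)) ?hq9163; (case hq9163 => (set_option maxRecDepth 1000000 in set_option simprocs false in conv => lhs; reduce; dsimp only)); intro _; exact ?xq9163 : List ℤ)

/-- the inflated part of the seed `sX0` -/
noncomputable def cU : List (ℤ × ℕ) :=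
  (beta% (fun (vq0 : List (ℤ × ℕ)) (vq1 : type_of% @lq266c50120f_0) (vq2 : type_of% @lq266c50120f_1) (vq3 : type_of% @lq266c50120f_4) (vq4 : type_of% @lq266c50120f_3) => (
      (let vqy1 : type_of% vq0 := (let vqy2 : type_of% vq0 := (let vqy3 : type_of% vq0 := (let vqy4 : type_of% vq0 := (vq2 (vq3 (vq4 15566183232) 88) (vq2 (vq3 (vq4 16821916650) 89)
      (vq2 (vq3 (vq4 18285823440) 90) (vq2 (vq3 (vq4 21979318360) 91) (vq2 (vq3 (vq4 22246662872) 92) (vq2 (vq3 (vq4 22817085064) 93) vq1))))));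
      (vq2 (vq3 (vq4 1197403360) 82) (vq2 (vq3 (vq4 2053542220) 83) (vq2 (vq3 (vq4 6053518120) 84) (vq2 (vq3 (vq4 7265990940) 85)
      (vq2 (vq3 (vq4 8556407108) 86) (vq2 (vq3 (vq4 14710042896) 87) vqy4)))))));
      (let vqy5 : type_of% vqy3 := (vq2 (vq3 (vq4 25027498050) 76) (vq2 (vq3 (vq4 27808324276) 77)
      (vq2 (vq3 (vq4 31338769368) 78) (vq2 (vq3 (vq4 37337057632) 79) (vq2 (vq3 (vq4 178150) 80) (vq2 (vq3 (vq4 8314866) 81)
      vqy3))))));
      (vq2 (vq3 (vq4 18844239384) 70) (vq2 (vq3 (vq4 19834986294) 71) (vq2 (vq3 (vq4 20457456336) 72) (vq2 (vq3 (vq4 21187289364) 73)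
      (vq2 (vq3 (vq4 22882288872) 74) (vq2 (vq3 (vq4 24750996104) 75) vqy5))))))));
      (let vqy6 : type_of% vqy2 := (let vqy7 : type_of% vqy2 := (vq2 (vq3 (vq4 15819844736) 64) (vq2 (vq3 (vq4 16183343672) 65)
      (vq2 (vq3 (vq4 16689079464) 66) (vq2 (vq3 (vq4 17369090550) 67) (vq2 (vq3 (vq4 17369090550) 68) (vq2 (vq3 (vq4 17812630652) 69)
      vqy2))))));
      (vq2 (vq3 (vq4 11376142890) 58) (vq2 (vq3 (vq4 12359261168) 59) (vq2 (vq3 (vq4 12359255224) 60) (vq2 (vq3 (vq4 13176536436) 61)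
      (vq2 (vq3 (vq4 15479719524) 62) (vq2 (vq3 (vq4 15796583082) 63) vqy7)))))));
      (let vqy8 : type_of% vqy6 := (vq2 (vq3 (vq4 7092344412) 52) (vq2 (vq3 (vq4 7481314380) 53)
      (vq2 (vq3 (vq4 7909922020) 54) (vq2 (vq3 (vq4 8320831632) 55) (vq2 (vq3 (vq4 8567652432) 56) (vq2 (vq3 (vq4 8597736028) 57)
      vqy6))))));
      (vq2 (vq3 (vq4 4943698512) 47) (vq2 (vq3 (vq4 5005503642) 48) (vq2 (vq3 (vq4 5178102072) 49)
      (vq2 (vq3 (vq4 6026019894) 50) (vq2 (vq3 (vq4 6179617644) 51) vqy8))))))));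
      (let vqy9 : type_of% vqy1 := (let vqy10 : type_of% vqy1 := (let vqy11 : type_of% vqy1 := (vq2 (vq3 (vq4 3271565140) 41)
      (vq2 (vq3 (vq4 3954965404) 42) (vq2 (vq3 (vq4 4095413130) 43) (vq2 (vq3 (vq4 4148556408) 44) (vq2 (vq3 (vq4 4293539768) 45)
      (vq2 (vq3 (vq4 4449339216) 46) vqy1))))));
      (vq2 (vq3 (vq4 1544911538) 35) (vq2 (vq3 (vq4 1611894258) 36) (vq2 (vq3 (vq4 1896490548) 37)
      (vq2 (vq3 (vq4 1906862484) 38) (vq2 (vq3 (vq4 2780835178) 39) (vq2 (vq3 (vq4 3089813808) 40) vqy11)))))));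
      (let vqy12 : type_of% vqy10 := (vq2 (vq3 (vq4 794521780) 29)
      (vq2 (vq3 (vq4 947737644) 30) (vq2 (vq3 (vq4 1011213860) 31) (vq2 (vq3 (vq4 1049062260) 32) (vq2 (vq3 (vq4 1129988496) 33)
      (vq2 (vq3 (vq4 1544908470) 34) vqy10))))));
      (vq2 (vq3 (vq4 353120504) 23) (vq2 (vq3 (vq4 356520918) 24) (vq2 (vq3 (vq4 364835490) 25)
      (vq2 (vq3 (vq4 556164210) 26) (vq2 (vq3 (vq4 641703208) 27) (vq2 (vq3 (vq4 719079580) 28) vqy12))))))));
      (let vqy13 : type_of% vqy9 := (let vqy14 : type_of% vqy9 := (vq2 (vq3 (vq4 118840726) 17)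
      (vq2 (vq3 (vq4 123591332) 18) (vq2 (vq3 (vq4 140448410) 19) (vq2 (vq3 (vq4 148585188) 20) (vq2 (vq3 (vq4 171128748) 21)
      (vq2 (vq3 (vq4 260766524) 22) vqy9))))));
      (vq2 (vq3 (vq4 8828722) 11) (vq2 (vq3 (vq4 12463920) 12) (vq2 (vq3 (vq4 17711480) 13)
      (vq2 (vq3 (vq4 31265572) 14) (vq2 (vq3 (vq4 46121744) 15) (vq2 (vq3 (vq4 70624600) 16) vqy14)))))));
      (let vqy15 : type_of% vqy13 := (vq2 (vq3 (vq4 185230) 5) (vq2 (vq3 (vq4 540370) 6) (vq2 (vq3 (vq4 3634794) 7) (vq2 (vq3 (vq4 3986414) 8) (vq2 (vq3 (vq4 4504450) 9)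
      (vq2 (vq3 (vq4 5432768) 10) vqy13))))));
      (vq2 (vq3 (vq4 2) 0) (vq2 (vq3 (vq4 966) 1) (vq2 (vq3 (vq4 6418) 2) (vq2 (vq3 (vq4 27784) 3) (vq2 (vq3 (vq4 61742) 4)
      vqy15))))))))) :
      List (ℤ × ℕ)))
      _ (delta% @lq266c50120f_0 :) (delta% @lq266c50120f_1 :) (delta% @lq266c50120f_4 :) (delta% @lq266c50120f_3 :))

/-- the levels -/
noncomputable def lvY : List Lv :=
  (by
  refine (?fq9164 : ((pk61l (fun i1 => (_root_.Cfsg.Agent.TAB.Glue.Lv.mk (pk61d (nat_lit 7) 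
    (nat_lit 0x10603f7cf5e3b74e5c376cd5a3364c612f46888880c115192a3c7010098e1b305ca0a12141ad58ad4a53c74d16264068c161c11260b9427488501f) i1) (pk61d (nat_lit 2) 
    (nat_lit 0x2aaaaaaaa9aaa6aaaaaaa95aaaaaaa5aaa) i1) (pk61d (nat_lit 8) 
    (nat_lit 0x9012030201) (pk61d (nat_lit 3) 
    (nat_lit 0x18000080000400000008000000000004000000) i1)) ((fun g1 : Nat → Nat => pk61l (fun i2 => (pk61d (nat_lit 8) 
    (nat_lit 0x28010202014f000101012f000202010a000202013800020201700102020155010202014000020201370001010102010202015a000202010e0100020156000202011900020201580002020186010102010000000001360000003000010175010101300001011101010260000101520001010f00002b00012501010800022600020a000123000181004501190119010901090129013a015a01280142607e2260706f1e51843f2c84603f2e08) i2)) (g1 i1) (g1 (Nat.succ i1)) List.nil) fun j => (pk61d (nat_lit 8) 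
    (nat_lit 0xaba6a19c97928d88837e79746f6a65605b56524e4a46423e3a3734312e2b282523211f1d1b1917151311100f0e0d0c0b0a09080706050403020100000000000000000000) j)) (pk61f (pk61d (nat_lit 1) 
    (nat_lit 0x1ffffffffffff) i1) fun t1_6 => (pk61c (Nat.div t1_6 (nat_lit 1)) _root_.Bool.false fun _ => _root_.Bool.true)))) (nat_lit 0) (nat_lit 67) List.nil) : List Lv)
    = ?xq9164 → (List Lv)) ?hq9164; (case hq9164 => (set_option maxRecDepth 1000000 in set_option simprocs false in conv => lhs; reduce; dsimp only)); intro _; exact ?xq9164 : List Lv)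

/-- the relations as combinations of the old ones -/
noncomputable def cfY : List (List (ℤ × ℕ)) :=
  (by
  refine (?fq9165 : ((pk61l (fun i1 => ((fun g1 : Nat → Nat => pk61l (fun i2 => (_root_.Prod.mk (pk61z (pk61d (nat_lit 38) 
    (nat_lit 0xbc7a7d78a2e81914bd6acd87027a28d5f36f0053e944fc5d36c844c8f4a39af552cf4cd03eab38e54a3b4ce350a98a735ca09b78cd4ba606072cacbffffcae4ea1c572a2c6a7fcc9948c89f324f20ef9ac84aa7fe7b1ff755fbcc7d55427d31f140683bc75b1975531c109fffec637348dc717e806c01c55bba80a7116584481c4270800031036f9508c34d792cb708a5d97bec1c40befab07102f612c1214fa00f045dbf553c116585087031b9a9f9c0c0271be3028979465c08e1291eb01f5060a4c07720faff01b521decc03d334dcf00ea00037c038d415fb00acf4ed5c0251cf45b007f2b69dc0181682cf00524d824c011e038fb0042858f3c00f42c5870037ab466c0045f127b000b73d97c002b3358f000a55307c0029542bf000157ed3c00016ccf300000428ac00001097f0000000008000000001) (pk61d (nat_lit 7) 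
    (nat_lit 0x102000810004080020400102040810200081020000102040010200081020403c76e9c2a528901f2a4c90a0e1828330cd91e202df894e90e1b0505b2b5699323284443e1c3463d6ab56284a84e9a325878480b8bb96ed18b05e00081020408102040810204081020408102040810204081020408102040810204081020408102040810204081) i2))) (pk61d (nat_lit 7) 
    (nat_lit 0x43850562580b12bf5895f2c4a6debc76e96253629cac4ae1bac4ad96256ad19c3850603f7cf5e3b74e5c376cd5a3364c582f5cb562b54a54274c95223448501f3c74e1b3464c172c54a13244480f1c3460b14244070c14203040403262c17ae5ab15aa52a13a64a911a24280f9e3a70d9a3260b962a50992224078e1a3058a12203860a10182) i2))) (g1 i1) (g1 (Nat.succ i1)) List.nil) fun j => (pk61d (nat_lit 8) 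
    (nat_lit 0x99989794918e8a898887827f7e7b7877767531302f2e2d2c2b2a292827262524232221201f1e1d1c1b1a191817161514131211100f0e0d0c0b0a09080706050403020100) j))) (nat_lit 0) (nat_lit 67) List.nil) : List (List (ℤ × ℕ)))
    = ?xq9165 → (List (List (ℤ × ℕ)))) ?hq9165; (case hq9165 => (set_option maxRecDepth 1000000 in set_option simprocs false in conv => lhs; reduce; dsimp only)); intro _; exact ?xq9165 : List (List (ℤ × ℕ)))

private theorem _root_.Cfsg.Agent.KO8ae9c9a.e1.{ku, kv} {α : Type kv} {M : List α → Sort ku} (φ : ∀ l, M l) {z : M List.nil} {s : ∀ a l, M l → M (List.cons a l)} (h0 : φ List.nil = z) (hs : ∀ a l, φ (List.cons a l) = s a l (φ l)) (l : List α) : φ l = @List.rec α M z s l := List.rec h0 (fun a l ih => (hs a l).trans (congrArg (s a l) ih)) l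
private noncomputable def _root_.Cfsg.Agent.KO8ae9c9a.k2.{ku0} : ((x0 : Sort (ku0+1)) → ((@List.{ku0} @x0) → @Nat)) := @(fun (x0 : Sort (ku0+1)) (x1 : @List.{ku0} @x0) => @List.rec.{1, ku0} @x0 @(fun (x2 : @List.{ku0} @x0) => @Nat) (nat_lit 0) @(fun (x2 : x0) (x3 : @List.{ku0} @x0) (x4 : @Nat) => @Nat.add @x4 (nat_lit 1)) @x1)
private theorem _root_.Cfsg.Agent.KO8ae9c9a.e2.{ku0} : @List.length.{ku0} = @_root_.Cfsg.Agent.KO8ae9c9a.k2.{ku0} := by delta _root_.Cfsg.Agent.KO8ae9c9a.k2; funext a0 a1; refine (_root_.Cfsg.Agent.KO8ae9c9a.e1 (fun a1 => @List.length.{ku0} a0 a1) ?_ (fun c0 c1 => ?_) a1 :) <;> (rfl')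
private noncomputable def _root_.Cfsg.Agent.KO8ae9c9a.k14.{ku0, ku1} : ((x0 : Sort (ku0+1)) → ((x1 : Sort (ku1+1)) → ((x0 → x1) → ((@List.{ku0} @x0) → @List.{ku1} @x1)))) := @(fun (x0 : Sort (ku0+1)) (x1 : Sort (ku1+1)) (x2 : (x0 → x1)) (x3 : @List.{ku0} @x0) => @List.rec.{(ku1+1), ku0} @x0 @(fun (x4 : @List.{ku0} @x0) => @List.{ku1} @x1) (@List.nil.{ku1} @x1) @(fun (x4 : x0) (x5 : @List.{ku0} @x0) (x6 : @List.{ku1} @x1) => @List.cons.{ku1} @x1 (@x2 @x4) @x6) @x3)
private theorem _root_.Cfsg.Agent.KO8ae9c9a.e14.{ku0, ku1} : @List.map.{ku0, ku1} = @_root_.Cfsg.Agent.KO8ae9c9a.k14.{ku0, ku1} := by delta _root_.Cfsg.Agent.KO8ae9c9a.k14; funext a0 a1 a2 a3; refine (_root_.Cfsg.Agent.KO8ae9c9a.e1 (fun a3 => @List.map.{ku0, ku1} a0 a1 a2 a3) ?_ (fun c0 c1 => ?_) a3 :) <;> (rfl')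
private theorem _root_.Cfsg.Agent.KO8ae9c9a.e20.{ku} {M : Nat → Sort ku} (φ : ∀ n, M n) {z : M Nat.zero} {s : ∀ n, M n → M (Nat.succ n)} (h0 : φ Nat.zero = z) (hs : ∀ n, φ (Nat.succ n) = s n (φ n)) (n : Nat) : φ n = @Nat.rec M z s n := Nat.rec h0 (fun n ih => (hs n).trans (congrArg (s n) ih)) n
private noncomputable def _root_.Cfsg.Agent.KO8ae9c9a.k22.{ku0} : ((x0 : Sort (ku0+1)) → (@Nat → ((@List.{ku0} @x0) → @List.{ku0} @x0))) := @(fun (x0 : Sort (ku0+1)) (x1 : @Nat) (x2 : @List.{ku0} @x0) => @Nat.rec.{(ku0+1)} @(fun (x3 : @Nat) => ((@List.{ku0} @x0) → @List.{ku0} @x0)) @(fun (x3 : @List.{ku0} @x0) => @List.nil.{ku0} @x0) @(fun (x3 : @Nat) (x4 : ((@List.{ku0} @x0) → @List.{ku0} @x0)) (x5 : @List.{ku0} @x0) => @List.rec.{(ku0+1), ku0} @x0 @(fun (x6 : @List.{ku0} @x0) => @List.{ku0} @x0) (@List.nil.{ku0} @x0) @(fun (x6 : x0) (x7 : @List.{ku0} @x0) (x8 : @List.{ku0} @x0) => @List.cons.{ku0} @x0 @x6 (@x4 @x7)) @x5) @x1 @x2)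
private theorem _root_.Cfsg.Agent.KO8ae9c9a.e22.{ku0} : @List.take.{ku0} = @_root_.Cfsg.Agent.KO8ae9c9a.k22.{ku0} := by delta _root_.Cfsg.Agent.KO8ae9c9a.k22; funext a0 a1 a2; refine (congrFun (_root_.Cfsg.Agent.KO8ae9c9a.e20 (fun a1 a2 => @List.take.{ku0} a0 a1 a2) ?_ (fun c0 => ?_) a1) a2 :) <;> [(funext b0; (rfl')); (funext b0; (cases b0 with | @nil  => (rfl') | @cons b0_0 b0_1 => (rfl')))]

theorem gramY : chkG DX (colsY.map (List.take nmY.length)) (nmY.map fun n => (n, 0)) 4 (3 ^ 57) = true := by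
  (first | (rewrite [Cfsg.Agent.KO8ae9c9a.e14.{0, 0}, Cfsg.Agent.KO8ae9c9a.e22.{0}, Cfsg.Agent.KO8ae9c9a.e2.{0}]; decide +kernel) | decide +kernel)

private noncomputable def _root_.Cfsg.Agent.KO8ae9c9a.k0 : (by first | exact type_of% @Cfsg.Agent.TAB.Eng.frc | exact Unit : Sort _) := by first | (refine @Subtype.val _ (fun g => @Cfsg.Agent.TAB.Eng.frc = @g) (@Subtype.mk _ _ (@(fun (x0 : Type) (x1 : @Nat) (x2 : (@Nat → x0)) => @Nat.rec.{1} @(fun (x3 : @Nat) => x0) (@x2 (nat_lit 0)) @(fun (x3 : @Nat) (x4 : x0) => @x2 (@Nat.succ @x3)) @x1)) ?_); rfl') | exact @Cfsg.Agent.TAB.Eng.frc | exact ()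
private theorem _root_.Cfsg.Agent.KO8ae9c9a.e0 : (by first | exact @Cfsg.Agent.TAB.Eng.frc = @_root_.Cfsg.Agent.KO8ae9c9a.k0 | exact True : Prop) := by first | (delta _root_.Cfsg.Agent.KO8ae9c9a.k0; exact @Subtype.property _ (fun g => @Cfsg.Agent.TAB.Eng.frc = @g) _) | rfl | trivial
private noncomputable def _root_.Cfsg.Agent.KO8ae9c9a.k8 : ((x0 : @Nat) → ((x1 : @Nat) → @Decidable (@Eq.{1} @Nat @x0 @x1))) := @(fun (x0 : @Nat) (x1 : @Nat) => @Bool.rec.{1} @(fun (x2 : @Bool) => ((@Eq.{1} @Bool (@Nat.beq @x0 @x1) @x2) → @Decidable (@Eq.{1} @Nat @x0 @x1))) @(fun (x2 : @Eq.{1} @Bool (@Nat.beq @x0 @x1) @Bool.false) => @Decidable.isFalse (@Eq.{1} @Nat @x0 @x1) (@Nat.ne_of_beq_eq_false @x0 @x1 @x2)) @(fun (x2 : @Eq.{1} @Bool (@Nat.beq @x0 @x1) @Bool.true) => @Decidable.isTrue (@Eq.{1} @Nat @x0 @x1) (@Nat.eq_of_beq_eq_true @x0 @x1 @x2)) (@Nat.beq @x0 @x1) (@Eq.refl.{1} @Bool (@Nat.beq @x0 @x1)))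
private theorem _root_.Cfsg.Agent.KO8ae9c9a.e8 : @Nat.decEq = @_root_.Cfsg.Agent.KO8ae9c9a.k8 := by delta _root_.Cfsg.Agent.KO8ae9c9a.k8; rfl'
private noncomputable def _root_.Cfsg.Agent.KO8ae9c9a.k17 : (by first | exact type_of% @Cfsg.Agent.TAB.Eng.allL | exact Unit : Sort _) := by first | (refine @Subtype.val _ (fun g => @Cfsg.Agent.TAB.Eng.allL = @g) (@Subtype.mk _ _ (@(fun (x0 : Type) (x1 : (x0 → @Bool)) (x2 : @List.{0} @x0) => @List.rec.{1, 0} @x0 @(fun (x3 : @List.{0} @x0) => @Bool) @Bool.true @(fun (x3 : x0) (x4 : @List.{0} @x0) (x5 : @Bool) => @Bool.rec.{1} @(fun (x6 : @Bool) => @Bool) @Bool.false @x5 (@x1 @x3)) @x2)) ?_); rfl') | exact @Cfsg.Agent.TAB.Eng.allL | exact ()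
private theorem _root_.Cfsg.Agent.KO8ae9c9a.e17 : (by first | exact @Cfsg.Agent.TAB.Eng.allL = @_root_.Cfsg.Agent.KO8ae9c9a.k17 | exact True : Prop) := by first | (delta _root_.Cfsg.Agent.KO8ae9c9a.k17; exact @Subtype.property _ (fun g => @Cfsg.Agent.TAB.Eng.allL = @g) _) | rfl | trivial
private noncomputable def _root_.Cfsg.Agent.KO8ae9c9a.oLe.{ku} (α : Sort ku) (a b : Nat) (f t : α) : α := @Decidable.rec (@LE.le Nat instLENat a b) (fun _ => α) (fun _ => f) (fun _ => t) (Nat.decLe a b)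
private noncomputable def _root_.Cfsg.Agent.KO8ae9c9a.k23.{ku} (α : Sort ku) (a b : Nat) (f t : α) : α := @Bool.rec (fun _ => α) f t (Nat.ble a b)
private theorem _root_.Cfsg.Agent.KO8ae9c9a.e23.{ku} : @_root_.Cfsg.Agent.KO8ae9c9a.oLe.{ku} = @_root_.Cfsg.Agent.KO8ae9c9a.k23.{ku} := funext fun α => funext fun a => funext fun b => funext fun f => funext fun t => by delta _root_.Cfsg.Agent.KO8ae9c9a.oLe _root_.Cfsg.Agent.KO8ae9c9a.k23; cases h : Nat.ble a b <;> cases Nat.decLe a b <;> rename_i g <;> first | rfl | exact absurd (h.symm.trans (Nat.ble_eq_true_of_le g)) Bool.false_ne_true | exact absurd (Nat.le_of_ble_eq_true h) g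
private noncomputable def _root_.Cfsg.Agent.KO8ae9c9a.oEq.{ku} (α : Sort ku) (a b : Nat) (f t : α) : α := @Decidable.rec (a = b) (fun _ => α) (fun _ => f) (fun _ => t) (Nat.decEq a b)
private noncomputable def _root_.Cfsg.Agent.KO8ae9c9a.k24.{ku} (α : Sort ku) (a b : Nat) (f t : α) : α := @Bool.rec (fun _ => α) f t (Nat.beq a b)
private theorem _root_.Cfsg.Agent.KO8ae9c9a.e24.{ku} : @_root_.Cfsg.Agent.KO8ae9c9a.oEq.{ku} = @_root_.Cfsg.Agent.KO8ae9c9a.k24.{ku} := funext fun α => funext fun a => funext fun b => funext fun f => funext fun t => by delta _root_.Cfsg.Agent.KO8ae9c9a.oEq _root_.Cfsg.Agent.KO8ae9c9a.k24; cases h : Nat.beq a b <;> cases Nat.decEq a b <;> rename_i g <;> first | rfl | exact absurd g (Nat.ne_of_beq_eq_false h) | exact absurd (Nat.eq_of_beq_eq_true h) g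
private noncomputable def _root_.Cfsg.Agent.KO8ae9c9a.k25.{ku0, ku1} : ((x0 : Sort (ku0+1)) → ((x1 : Sort (ku1+1)) → ((x0 → (x1 → x1)) → (x1 → ((@List.{ku0} @x0) → x1))))) := @(fun (x0 : Sort (ku0+1)) (x1 : Sort (ku1+1)) (x2 : (x0 → (x1 → x1))) (x3 : x1) (x4 : @List.{ku0} @x0) => @List.rec.{(ku1+1), ku0} @x0 @(fun (x5 : @List.{ku0} @x0) => x1) @x3 @(fun (x5 : x0) (x6 : @List.{ku0} @x0) (x7 : x1) => @x2 @x5 @x7) @x4)
private theorem _root_.Cfsg.Agent.KO8ae9c9a.e25.{ku0, ku1} : @List.foldr.{ku0, ku1} = @_root_.Cfsg.Agent.KO8ae9c9a.k25.{ku0, ku1} := by delta _root_.Cfsg.Agent.KO8ae9c9a.k25; funext a0 a1 a2 a3 a4; refine (_root_.Cfsg.Agent.KO8ae9c9a.e1 (fun a4 => @List.foldr.{ku0, ku1} a0 a1 a2 a3 a4) ?_ (fun c0 c1 => ?_) a4 :) <;> (rfl')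
private noncomputable def _root_.Cfsg.Agent.KO8ae9c9a.k26 : (by first | exact type_of% @Cfsg.Agent.TAB.Glue.dotN | exact Unit : Sort _) := by first | (refine @Subtype.val _ (fun g => @Cfsg.Agent.TAB.Glue.dotN = @g) (@Subtype.mk _ _ (@(fun (x0 : @List.{0} @Nat) => @List.rec.{1, 0} @Nat @(fun (x1 : @List.{0} @Nat) => ((@List.{0} @Nat) → @Nat)) @(fun (x1 : @List.{0} @Nat) => nat_lit 0) @(fun (x1 : @Nat) (x2 : @List.{0} @Nat) (x3 : ((@List.{0} @Nat) → @Nat)) (x4 : @List.{0} @Nat) => @List.rec.{1, 0} @Nat @(fun (x5 : @List.{0} @Nat) => @Nat) (nat_lit 0) @(fun (x5 : @Nat) (x6 : @List.{0} @Nat) (x7 : @Nat) => @Nat.add (@Nat.mul @x1 @x5) (@x3 @x6)) @x4) @x0)) ?_); rfl') | exact @Cfsg.Agent.TAB.Glue.dotN | exact ()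
private theorem _root_.Cfsg.Agent.KO8ae9c9a.e26 : (by first | exact @Cfsg.Agent.TAB.Glue.dotN = @_root_.Cfsg.Agent.KO8ae9c9a.k26 | exact True : Prop) := by first | (delta _root_.Cfsg.Agent.KO8ae9c9a.k26; exact @Subtype.property _ (fun g => @Cfsg.Agent.TAB.Glue.dotN = @g) _) | rfl | trivial
private noncomputable def _root_.Cfsg.Agent.KO8ae9c9a.k27 : (by first | exact type_of% @Cfsg.Agent.TAB.Glue.nxt | exact Unit : Sort _) := by first | (refine @Subtype.val _ (fun g => @Cfsg.Agent.TAB.Glue.nxt = @g) (@Subtype.mk _ _ (@(fun (x0 : @Bool) (x1 : @Bool) (x2 : @Nat) (x3 : @List.{0} @Nat) (x4 : @Bool) (x5 : ((@List.{0} @Nat) → (@Bool → @Bool))) => @Bool.rec.{1} @(fun (x6 : @Bool) => @Bool) (@Bool.rec.{1} @(fun (x6 : @Bool) => @Bool) (@x5 (@List.cons.{0} @Nat @x2 @x3) @Bool.true) (@x5 (@List.cons.{0} @Nat @x2 @x3) @x4) @x1) (@Bool.rec.{1} @(fun (x6 : @Bool) => @Bool) (@x5 @x3 @Bool.true) (@x5 @x3 @x4) @x1) @x0)) ?_); rfl') | exact @Cfsg.Agent.TAB.Glue.nxt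 | exact ()
private theorem _root_.Cfsg.Agent.KO8ae9c9a.e27 : (by first | exact @Cfsg.Agent.TAB.Glue.nxt = @_root_.Cfsg.Agent.KO8ae9c9a.k27 | exact True : Prop) := by first | (delta _root_.Cfsg.Agent.KO8ae9c9a.k27; exact @Subtype.property _ (fun g => @Cfsg.Agent.TAB.Glue.nxt = @g) _) | rfl | trivial
private noncomputable def _root_.Cfsg.Agent.KO8ae9c9a.k28 : (by first | exact type_of% @Cfsg.Agent.TAB.Glue.one | exact Unit : Sort _) := by first | (refine @Subtype.val _ (fun g => @Cfsg.Agent.TAB.Glue.one = @g) (@Subtype.mk _ _ (@(fun (x0 : @Nat) (x1 : @Cfsg.Agent.TAB.Glue.Lv) (x2 : @Nat) (x3 : @List.{0} @Nat) (x4 : @Bool) (x5 : (@Nat → (@Nat → ((@List.{0} @Nat) → (@Bool → @Bool))))) (x6 : @Nat) => @Cfsg.Agent.KO8ae9c9a.k0 @Bool (@Bool.rec.{1} @(fun (x7 : @Bool) => @Nat) (@Nat.sub @x0 @x6) @x6 (@Nat.ble @x6 (@Nat.sub @x0 @x6))) @(fun (x7 : @Nat) => @Cfsg.Agent.KO8ae9c9a.k0 @Bool (@Nat.mul (@Cfsg.Agent.TAB.Glue.Lv.w @x1) (@Nat.mul @x7 @x7)) @(fun (x8 :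 @Nat) => @Bool.rec.{1} @(fun (x9 : @Bool) => @Bool) @Bool.true (@Cfsg.Agent.KO8ae9c9a.k0 @Bool (@Nat.sub @x2 @x8) @(fun (x9 : @Nat) => @Cfsg.Agent.KO8ae9c9a.k27 (@Nat.beq (@Cfsg.Agent.TAB.Glue.Lv.d @x1) (nat_lit 1)) (@Bool.rec.{1} @(fun (x10 : @Bool) => @Bool) @Bool.true (@Nat.beq @x6 (nat_lit 0)) (@Cfsg.Agent.TAB.Glue.Lv.tg @x1)) @x6 @x3 @x4 (@x5 @x6 @x9))) (@Nat.ble @x8 @x2))))) ?_); rewrite [← Cfsg.Agent.KO8ae9c9a.e0, ← Cfsg.Agent.KO8ae9c9a.e27]; (try delta Cfsg.Agent.TAB.Glue.one); (try generalize @Cfsg.Agent.TAB.Eng.frc = g0); (try generalize @Cfsg.Agent.TAB.Glue.nxt = g1); rfl') | exact @Cfsg.Agent.TAB.Glue.one | exact ()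
private theorem _root_.Cfsg.Agent.KO8ae9c9a.e28 : (by first | exact @Cfsg.Agent.TAB.Glue.one = @_root_.Cfsg.Agent.KO8ae9c9a.k28 | exact True : Prop) := by first | (delta _root_.Cfsg.Agent.KO8ae9c9a.k28; exact @Subtype.property _ (fun g => @Cfsg.Agent.TAB.Glue.one = @g) _) | rfl | trivial
private noncomputable def _root_.Cfsg.Agent.KO8ae9c9a.k29 : (by first | exact type_of% @Cfsg.Agent.TAB.Glue.dfs | exact Unit : Sort _) := by first | (refine @Subtype.val _ (fun g => @Cfsg.Agent.TAB.Glue.dfs = @g) (@Subtype.mk _ _ (@(fun (x0 : @Nat) (x1 : ((@List.{0} (@Prod.{0, 0} @Nat (@Prod.{0, 0} @Nat @Nat))) → @Bool)) (x2 : @List.{0} @Cfsg.Agent.TAB.Glue.Lv) => @List.rec.{1, 0} @Cfsg.Agent.TAB.Glue.Lv @(fun (x3 : @List.{0} @Cfsg.Agent.TAB.Glue.Lv) => (@Nat → ((@List.{0} @Nat) → ((@List.{0} (@Prod.{0, 0} @Nat (@Prod.{0, 0} @Nat @Nat))) → (@Bool → @Bool))))) @(fun (x3 : @Nat) (x4 : @List.{0} @Nat) (x5 : @List.{0} (@Prod.{0, 0} @Nat (@Prod.{0, 0} @Nat @Nat))) (x6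 : @Bool) => @Bool.rec.{1} @(fun (x7 : @Bool) => @Bool) @Bool.true (@x1 @x5) @x6) @(fun (x3 : @Cfsg.Agent.TAB.Glue.Lv) (x4 : @List.{0} @Cfsg.Agent.TAB.Glue.Lv) (x5 : (@Nat → ((@List.{0} @Nat) → ((@List.{0} (@Prod.{0, 0} @Nat (@Prod.{0, 0} @Nat @Nat))) → (@Bool → @Bool))))) (x6 : @Nat) (x7 : @List.{0} @Nat) (x8 : @List.{0} (@Prod.{0, 0} @Nat (@Prod.{0, 0} @Nat @Nat))) (x9 : @Bool) => @Cfsg.Agent.KO8ae9c9a.k0 @Bool (@Nat.mod (@Nat.sub @x0 (@Nat.mod (@Cfsg.Agent.KO8ae9c9a.k26 (@Cfsg.Agent.TAB.Glue.Lv.a @x3) @x7) @x0)) @x0) @(fun (x10 : @Nat) => @Nat.rec.{1} @(fun (x11 : @Nat) => @Bool) @Bool.true @(fun (x11 : @Nat) (x12 : @Bool) => @Bool.rec.{1} @(fun (x13 : @Bool) => @Bool) @Bool.false @x12 (@Cfsg.Agent.KO8ae9c9a.k0 @Bool (@Nat.add (@Nat.div @x10 (@Cfsg.Agent.TAB.Glue.Lv.d @x3)) (@Nat.mul (@Nat.div @x0 (@Cfsg.Agent.TAB.Glue.Lv.d @x3)) @x11)) (@Cfsg.Agent.KO8ae9c9a.k28 @x0 @x3 @x6 @x7 @x9 @(fun (x13 : @Nat) (x14 : @Nat) (x15 : @List.{0} @Nat) (x16 : @Bool)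 => @x5 @x14 @x15 (@List.cons.{0} (@Prod.{0, 0} @Nat (@Prod.{0, 0} @Nat @Nat)) (@Prod.mk.{0, 0} @Nat (@Prod.{0, 0} @Nat @Nat) @x13 (@Prod.mk.{0, 0} @Nat @Nat (@Cfsg.Agent.TAB.Glue.Lv.w @x3) (@Cfsg.Agent.TAB.Glue.Lv.j @x3))) @x8) @x16)))) (@Cfsg.Agent.TAB.Glue.Lv.d @x3))) @x2)) ?_); rewrite [← Cfsg.Agent.KO8ae9c9a.e0, ← Cfsg.Agent.KO8ae9c9a.e26, ← Cfsg.Agent.KO8ae9c9a.e28]; (try delta Cfsg.Agent.TAB.Glue.dfs Cfsg.Agent.TAB.Glue.upto); (try generalize @Cfsg.Agent.TAB.Eng.frc = g0); (try generalize @Cfsg.Agent.TAB.Glue.dotN = g1); (try generalize @Cfsg.Agent.TAB.Glue.one = g2); rfl') | exact @Cfsg.Agent.TAB.Glue.dfs | exact ()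
private theorem _root_.Cfsg.Agent.KO8ae9c9a.e29 : (by first | exact @Cfsg.Agent.TAB.Glue.dfs = @_root_.Cfsg.Agent.KO8ae9c9a.k29 | exact True : Prop) := by first | (delta _root_.Cfsg.Agent.KO8ae9c9a.k29; exact @Subtype.property _ (fun g => @Cfsg.Agent.TAB.Glue.dfs = @g) _) | rfl | trivial
private noncomputable def _root_.Cfsg.Agent.KO8ae9c9a.k30.{ku0} : ((x0 : Sort (ku0+1)) → ((x1 : (x0 → Prop)) → ((@DecidablePred.{(ku0+1)} @x0 @x1) → ((x3 : @List.{ku0} @x0) → @Decidable ((x4 : x0) → ((@Membership.mem.{ku0, ku0} @x0 (@List.{ku0} @x0) (@List.instMembership.{ku0} @x0) @x3 @x4) → @x1 @x4)))))) := @(fun (x0 : Sort (ku0+1)) (x1 : (x0 → Prop)) (x2 : @DecidablePred.{(ku0+1)} @x0 @x1) (x3 : @List.{ku0} @x0) => @List.rec.{1, ku0} @x0 @(fun (x4 : @List.{ku0} @x0) => @Decidable ((x5 : x0) → ((@Membership.mem.{ku0, ku0} @x0 (@List.{ku0} @x0) (@List.instMembership.{ku0} @x0) @x4 @x5) → @x1 @x5))) (@Decidable.isTrue ((x4 : x0) → ((@Membership.mem.{ku0, ku0} @x0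 (@List.{ku0} @x0) (@List.instMembership.{ku0} @x0) (@List.nil.{ku0} @x0) @x4) → @x1 @x4)) (@List.decidableBAll._proof_1.{ku0} @x0 @x1)) @(fun (x4 : x0) (x5 : @List.{ku0} @x0) (x6 : @Decidable ((x6 : x0) → ((@Membership.mem.{ku0, ku0} @x0 (@List.{ku0} @x0) (@List.instMembership.{ku0} @x0) @x5 @x6) → @x1 @x6))) => @Decidable.rec.{1} (@x1 @x4) @(fun (x7 : @Decidable (@x1 @x4)) => @Decidable ((x8 : x0) → ((@Membership.mem.{ku0, ku0} @x0 (@List.{ku0} @x0) (@List.instMembership.{ku0} @x0) (@List.cons.{ku0} @x0 @x4 @x5) @x8) → @x1 @x8))) @(fun (x7 : @Not (@x1 @x4)) => @Decidable.isFalse ((x8 : x0) → ((@Membership.mem.{ku0, ku0} @x0 (@List.{ku0} @x0) (@List.instMembership.{ku0} @x0) (@List.cons.{ku0} @x0 @x4 @x5) @x8) → @x1 @x8)) (@List.decidableBAll._proof_4.{ku0} @x0 @x1 @x4 @x5 @x7)) @(fun (x7 : @x1 @x4) => @Decidable.rec.{1} ((x8 : x0) → ((@Membership.mem.{ku0, ku0} @x0 (@List.{ku0} @x0) (@List.instMembership.{ku0} @x0) @x5 @x8) → @x1 @x8)) @(fun (x8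 : @Decidable ((x8 : x0) → ((@Membership.mem.{ku0, ku0} @x0 (@List.{ku0} @x0) (@List.instMembership.{ku0} @x0) @x5 @x8) → @x1 @x8))) => @Decidable ((x9 : x0) → ((@Membership.mem.{ku0, ku0} @x0 (@List.{ku0} @x0) (@List.instMembership.{ku0} @x0) (@List.cons.{ku0} @x0 @x4 @x5) @x9) → @x1 @x9))) @(fun (x8 : @Not ((x8 : x0) → ((@Membership.mem.{ku0, ku0} @x0 (@List.{ku0} @x0) (@List.instMembership.{ku0} @x0) @x5 @x8) → @x1 @x8))) => @Decidable.isFalse ((x9 : x0) → ((@Membership.mem.{ku0, ku0} @x0 (@List.{ku0} @x0) (@List.instMembership.{ku0} @x0) (@List.cons.{ku0} @x0 @x4 @x5) @x9) → @x1 @x9)) (@List.decidableBAll._proof_3.{ku0} @x0 @x1 @x4 @x5 @x8)) @(fun (x8 : ((x8 : x0) → ((@Membership.mem.{ku0, ku0} @x0 (@List.{ku0} @x0) (@List.instMembership.{ku0} @x0) @x5 @x8) → @x1 @x8))) => @Decidable.isTrue ((x9 : x0) → ((@Membership.mem.{ku0, ku0} @x0 (@List.{ku0} @x0) (@List.instMembership.{ku0} @x0) (@List.cons.{ku0} @x0 @x4 @x5) @x9) → @x1 @x9)) (@List.decidableBAll._proof_2.{ku0}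 @x0 @x1 @x4 @x5 @x7 @x8)) @x6) (@x2 @x4)) @x3)
private theorem _root_.Cfsg.Agent.KO8ae9c9a.e30.{ku0} : @List.decidableBAll.{ku0} = @_root_.Cfsg.Agent.KO8ae9c9a.k30.{ku0} := by delta _root_.Cfsg.Agent.KO8ae9c9a.k30; funext a0 a1 a2 a3; refine (_root_.Cfsg.Agent.KO8ae9c9a.e1 (fun a3 => @List.decidableBAll.{ku0} a0 a1 a2 a3) ?_ (fun c0 c1 => ?_) a3 :) <;> (rfl')
private noncomputable def _root_.Cfsg.Agent.KO8ae9c9a.k31.{ku0} : ((x0 : Sort (ku0+1)) → ((x1 : (x0 → (x0 → Prop))) → ((@DecidableRel.{(ku0+1), (ku0+1)} @x0 @x0 @x1) → ((x3 : @List.{ku0} @x0) → @Decidable (@List.Pairwise.{ku0} @x0 @x1 @x3))))) := @(fun (x0 : Sort (ku0+1)) (x1 : (x0 → (x0 → Prop))) (x2 : @DecidableRel.{(ku0+1), (ku0+1)} @x0 @x0 @x1) (x3 : @List.{ku0} @x0) => @List.rec.{1, ku0} @x0 @(fun (x4 : @List.{ku0} @x0) => @Decidable (@List.Pairwise.{ku0} @x0 @x1 @x4)) (@Decidable.isTrue (@List.Pairwise.{ku0} @x0 @x1 (@List.nil.{ku0} @x0)) (@List.Pairwise.nil.{ku0} @x0 @x1)) @(fun (x4 :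 x0) (x5 : @List.{ku0} @x0) (x6 : @Decidable (@List.Pairwise.{ku0} @x0 @x1 @x5)) => @Decidable.rec.{1} (@List.Pairwise.{ku0} @x0 @x1 @x5) @(fun (x7 : @Decidable (@List.Pairwise.{ku0} @x0 @x1 @x5)) => @Decidable (@List.Pairwise.{ku0} @x0 @x1 (@List.cons.{ku0} @x0 @x4 @x5))) @(fun (x7 : @Not (@List.Pairwise.{ku0} @x0 @x1 @x5)) => @Decidable.isFalse (@List.Pairwise.{ku0} @x0 @x1 (@List.cons.{ku0} @x0 @x4 @x5)) (@List.instDecidablePairwise._proof_3.{ku0} @x0 @x1 @x4 @x5 @x7)) @(fun (x7 : @List.Pairwise.{ku0} @x0 @x1 @x5) => @Decidable.rec.{1} ((x8 : x0) → ((@Membership.mem.{ku0, ku0} @x0 (@List.{ku0} @x0) (@List.instMembership.{ku0} @x0) @x5 @x8) → @x1 @x4 @x8)) @(fun (x8 : @Decidable ((x8 : x0) → ((@Membership.mem.{ku0, ku0} @x0 (@List.{ku0} @x0) (@List.instMembership.{ku0} @x0) @x5 @x8) → @x1 @x4 @x8))) => @Decidable (@List.Pairwise.{ku0} @x0 @x1 (@List.cons.{ku0} @x0 @x4 @x5))) @(fun (x8 : @Not ((x8 : x0) → ((@Membership.mem.{ku0, ku0} @x0 (@List.{ku0}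 @x0) (@List.instMembership.{ku0} @x0) @x5 @x8) → @x1 @x4 @x8))) => @Decidable.isFalse (@List.Pairwise.{ku0} @x0 @x1 (@List.cons.{ku0} @x0 @x4 @x5)) (@List.instDecidablePairwise._proof_1.{ku0} @x0 @x1 @x4 @x5 @x8)) @(fun (x8 : ((x8 : x0) → ((@Membership.mem.{ku0, ku0} @x0 (@List.{ku0} @x0) (@List.instMembership.{ku0} @x0) @x5 @x8) → @x1 @x4 @x8))) => @Decidable.isTrue (@List.Pairwise.{ku0} @x0 @x1 (@List.cons.{ku0} @x0 @x4 @x5)) (@List.instDecidablePairwise._proof_2.{ku0} @x0 @x1 @x4 @x5 @x7 @x8)) (@Cfsg.Agent.KO8ae9c9a.k30.{ku0} @x0 (@x1 @x4) (@x2 @x4) @x5)) @x6) @x3)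
private theorem _root_.Cfsg.Agent.KO8ae9c9a.e31.{ku0} : @List.instDecidablePairwise.{ku0} = @_root_.Cfsg.Agent.KO8ae9c9a.k31.{ku0} := by delta _root_.Cfsg.Agent.KO8ae9c9a.k31; rewrite [← Cfsg.Agent.KO8ae9c9a.e30.{ku0}]; funext a0 a1 a2 a3; refine (_root_.Cfsg.Agent.KO8ae9c9a.e1 (fun a3 => @List.instDecidablePairwise.{ku0} a0 a1 a2 a3) ?_ (fun c0 c1 => ?_) a3 :) <;> (rfl')
private noncomputable def _root_.Cfsg.Agent.KO8ae9c9a.k32 : (by first | exact type_of% @Cfsg.Agent.TAB.Cov.okQ | exact Unit : Sort _) := by first | (refine @Subtype.val _ (fun g => @Cfsg.Agent.TAB.Cov.okQ = @g) (@Subtype.mk _ _ (@(fun (x0 : @Nat) (x1 : @List.{0} @Nat) (x2 : @List.{0} @Cfsg.Agent.TAB.Glue.Lv) (x3 : @Nat) (x4 : @Nat) => @Cfsg.Agent.KO8ae9c9a.k0 @Bool (@Cfsg.Agent.KO8ae9c9a.k25.{0, 0} @Nat @Nat @(fun (x5 : @Nat) (x6 : @Nat) => @Nat.mul @x5 @x6) (nat_lit 1) (@Cfsg.Agent.KO8ae9c9a.k14.{0, 0} @Cfsg.Agent.TAB.Glue.Lv @Nat @Cfsg.Agent.TAB.Glue.Lv.d @x2)) @(fun (x5 : @Nat)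 => @Cfsg.Agent.KO8ae9c9a.k0 @Bool (@Nat.div (@Nat.mul (@Nat.mul @x3 @x5) @x5) @x4) @(fun (x6 : @Nat) => @Bool.rec.{1} @(fun (x7 : @Bool) => @Bool) @Bool.false (@Cfsg.Agent.KO8ae9c9a.k29 @x5 @(fun (x7 : @List.{0} (@Prod.{0, 0} @Nat (@Prod.{0, 0} @Nat @Nat))) => @Bool.false) @x2 @x6 (@List.nil.{0} @Nat) (@List.nil.{0} (@Prod.{0, 0} @Nat (@Prod.{0, 0} @Nat @Nat))) @Bool.false) (@Bool.rec.{1} @(fun (x7 : @Bool) => @Bool) @Bool.false (@Cfsg.Agent.KO8ae9c9a.k17 @Cfsg.Agent.TAB.Glue.Lv @(fun (x7 : @Cfsg.Agent.TAB.Glue.Lv) => @Bool.rec.{1} @(fun (x8 : @Bool) => @Bool) @Bool.false (@Cfsg.Agent.KO8ae9c9a.k24.{1} @Bool (@Nat.mul (@Cfsg.Agent.TAB.Glue.Lv.w @x7) (@Cfsg.Agent.TAB.Eng.ntd @Nat @x1 (nat_lit 0) (@Cfsg.Agent.TAB.Glue.Lv.j @x7))) @x3 @Bool.false @Bool.true) (@Cfsg.Agent.KO8ae9c9a.k23.{1} @Bool (@Nat.succ (@Cfsg.Agent.TAB.Glue.Lv.j @x7)) @x0 @Bool.false @Bool.true)) @x2) (@Bool.rec.{1} @(fun (x7 : @Bool) => @Bool) @Bool.false (@Decidable.rec.{1} (@List.Nodup.{0}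 @Nat (@Cfsg.Agent.KO8ae9c9a.k14.{0, 0} @Cfsg.Agent.TAB.Glue.Lv @Nat @Cfsg.Agent.TAB.Glue.Lv.j @x2)) @(fun (x7 : @Decidable (@List.Nodup.{0} @Nat (@Cfsg.Agent.KO8ae9c9a.k14.{0, 0} @Cfsg.Agent.TAB.Glue.Lv @Nat @Cfsg.Agent.TAB.Glue.Lv.j @x2))) => @Bool) @(fun (x7 : @Not (@List.Nodup.{0} @Nat (@Cfsg.Agent.KO8ae9c9a.k14.{0, 0} @Cfsg.Agent.TAB.Glue.Lv @Nat @Cfsg.Agent.TAB.Glue.Lv.j @x2))) => @Bool.false) @(fun (x7 : @List.Nodup.{0} @Nat (@Cfsg.Agent.KO8ae9c9a.k14.{0, 0} @Cfsg.Agent.TAB.Glue.Lv @Nat @Cfsg.Agent.TAB.Glue.Lv.j @x2)) => @Bool.true) (@Cfsg.Agent.KO8ae9c9a.k31.{0} @Nat @(fun (x7 : @Nat) (x8 : @Nat) => @Ne.{1} @Nat @x7 @x8) @(fun (x7 : @Nat) (x8 : @Nat) => @Decidable.rec.{1} (@Eq.{1} @Nat @x7 @x8) @(fun (x9 : @Decidable (@Eq.{1} @Nat @x7 @x8)) => @Decidable (@Not (@Eq.{1} @Nat @x7 @x8))) @(fun (x9 : @Not (@Eq.{1} @Nat @x7 @x8)) => @Decidable.isTrue (@Not (@Eq.{1} @Nat @x7 @x8)) @x9) @(fun (x9 : @Eq.{1} @Nat @x7 @x8) => @Decidable.isFalse (@Not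 (@Eq.{1} @Nat @x7 @x8)) (@absurd.{0} (@Eq.{1} @Nat @x7 @x8) @False @x9)) (@Cfsg.Agent.KO8ae9c9a.k8 @x7 @x8)) (@Cfsg.Agent.KO8ae9c9a.k14.{0, 0} @Cfsg.Agent.TAB.Glue.Lv @Nat @Cfsg.Agent.TAB.Glue.Lv.j @x2))) (@Bool.rec.{1} @(fun (x7 : @Bool) => @Bool) @Bool.false (@Cfsg.Agent.KO8ae9c9a.k23.{1} @Bool (@Nat.succ (nat_lit 0)) @x4 @Bool.false @Bool.true) (@Bool.rec.{1} @(fun (x7 : @Bool) => @Bool) @Bool.false (@Cfsg.Agent.KO8ae9c9a.k23.{1} @Bool (@Nat.succ (nat_lit 0)) @x3 @Bool.false @Bool.true) (@Cfsg.Agent.KO8ae9c9a.k23.{1} @Bool (@Nat.succ (nat_lit 0)) @x5 @Bool.false @Bool.true))))))))) ?_); rewrite [← Cfsg.Agent.KO8ae9c9a.e0, ← Cfsg.Agent.KO8ae9c9a.e25.{0, 0}, ← Cfsg.Agent.KO8ae9c9a.e14.{0, 0}, ← Cfsg.Agent.KO8ae9c9a.e29, ← Cfsg.Agent.KO8ae9c9a.e17, ← Cfsg.Agent.KO8ae9c9a.e24.{1}, ← Cfsg.Agent.KO8ae9c9a.e23.{1}, ← Cfsg.Agent.KO8ae9c9a.e31.{0}, ← Cfsg.Agent.KO8ae9c9a.e8]; (try delta Cfsg.Agent.TAB.Cov.okQ); (try generalize @Cfsg.Agent.TAB.Eng.frc =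 g0); (try generalize @Cfsg.Agent.TAB.Glue.dfs = g1); (try generalize @Cfsg.Agent.TAB.Eng.allL = g2); (try generalize @Cfsg.Agent.TAB.Eng.ntd = g3); rfl') | exact @Cfsg.Agent.TAB.Cov.okQ | exact ()
private theorem _root_.Cfsg.Agent.KO8ae9c9a.e32 : (by first | exact @Cfsg.Agent.TAB.Cov.okQ = @_root_.Cfsg.Agent.KO8ae9c9a.k32 | exact True : Prop) := by first | (delta _root_.Cfsg.Agent.KO8ae9c9a.k32; exact @Subtype.property _ (fun g => @Cfsg.Agent.TAB.Cov.okQ = @g) _) | rfl | trivial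

theorem ok_lvY : okQ nmY.length nmY lvY 4 2 = true := by (first | (rewrite [Cfsg.Agent.KO8ae9c9a.e32, Cfsg.Agent.KO8ae9c9a.e2.{0}]; decide +kernel) | decide +kernel)

theorem okJ_lvY : okJ 49 lvY = true := by decide +kernel

/-- the known generalized characters -/
noncomputable def gY (t : ℕ) : List ℤ :=
  nth sX0 t :: cmb colsT cU (proj.getD t 0) :: cmbs colsX (rels lvX [] ++ exX) t

namespace TY

/-- Kronecker substitution -/
structure Kr (B n : ℕ) (f : ℕ → ℤ) (F : ℤ) (M : ℕ) : Prop where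
  eq : F = ∑ t ∈ Finset.range n, (B : ℤ) ^ t * f t
  le : ∀ t < n, |f t| ≤ M

/-- the absolute value -/
noncomputable def ab (z : ℤ) : ℕ := Int.rec (fun n => n) (fun n => Nat.succ n) z

theorem ab_eq (z : ℤ) : (ab z : ℤ) = |z| := by
  rw [Int.abs_eq_natAbs]
  cases z <;> rfl

variable {B n M M' : ℕ} {f g : ℕ → ℤ} {F G : ℤ} {c : ℕ → List ℤ} {R : List ℤ}

theorem Kr.zero : Kr B n (fun _ => 0) 0 M :=
  ⟨(Finset.sum_eq_zero fun _ _ => mul_zero _).symm, fun _ _ => by rw [abs_zero]; exact Int.natCast_nonneg _⟩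

theorem Kr.mono (h : Kr B n f F M) (hM : Nat.ble M M' = true) : Kr B n f F M' :=
  ⟨h.eq, fun t ht => (h.le t ht).trans (Int.ofNat_le.2 (Nat.le_of_ble_eq_true hM))⟩

theorem Kr.lin (a : ℤ) (h : Kr B n f F M) (h' : Kr B n g G M') :
    Kr B n (fun t => a * f t + g t) (a * F + G) (ab a * M + M') := by
  refine ⟨?_, fun t ht => (abs_add_le _ _).trans ?_⟩
  · rw [h.eq, h'.eq, Finset.mul_sum, ← Finset.sum_add_distrib]
    exact Finset.sum_congr rfl fun t _ => by ring
  · rw [abs_mul, Nat.cast_add, Nat.cast_mul, ab_eq]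
    exact add_le_add (mul_le_mul_of_nonneg_left (h.le t ht) (abs_nonneg a)) (h'.le t ht)

theorem Kr.ext (h : Kr B n f F M) (h' : Kr B n g G M') (e : F = G) (hB : Nat.blt (Nat.add M M') B = true) :
    ∀ t < n, f t = g t := fun t ht => by
  have h1 : M + M' < B := Nat.blt_eq.mp hB
  refine sub_eq_zero.1 (digits_zero (B := B) (d := fun t => f t - g t) (fun j hj => ?_) ?_ t ht)
  · refine lt_of_le_of_lt ((abs_sub _ _).trans (add_le_add (h.le j hj) (h'.le j hj))) ?_
    exact_mod_cast h1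
  · simp only [mul_sub]
    rw [Finset.sum_sub_distrib, ← h.eq, ← h'.eq, e, sub_self]

/-- all the rows -/
def KL (B n : ℕ) (c : ℕ → List ℤ) (R : List ℤ) (M : ℕ) : Prop := ∀ i, Kr B n (fun t => nth (c t) i) (nth R i) M

/-- the weight of a combination -/
noncomputable def wt (p : List (ℤ × ℕ)) : ℕ := List.rec 0 (fun q _ ih => Nat.add (ab q.1) ih) p

theorem KL.dot (h : KL B n c R M) (p : List (ℤ × ℕ)) : Kr B n (fun t => dot (c t) p) (dot R p) (Nat.mul (wt p) M) := by
  induction p with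
  | nil => exact Kr.zero
  | cons q p ih => exact ((h q.2).lin q.1 ih).mono (Nat.ble_eq_true_of_le (Nat.add_mul _ _ _).ge)

theorem KL.cons (h : Kr B n f F M) (h' : KL B n c R M) : KL B n (fun t => f t :: c t) (F :: R) M
  | 0 => h
  | i + 1 => h' i

theorem KL.map (h : KL B n c R M) {cs : List (List (ℤ × ℕ))}
    (hc : allL (fun p => Nat.ble (Nat.mul (wt p) M) M') cs = true) :
    KL B n (fun t => cs.map (TAB.Eng.dot (c t))) (cs.map (TAB.Eng.dot R)) M' := by
  induction cs with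
  | nil => exact fun _ => Kr.zero
  | cons p cs ih =>
    have h1 : cond (Nat.ble (Nat.mul (wt p) M) M') (allL (fun p => Nat.ble (Nat.mul (wt p) M) M') cs) false = true := hc
    cases h2 : Nat.ble (Nat.mul (wt p) M) M' with
    | false => rw [h2] at h1; cases h1
    | true => rw [h2] at h1; exact KL.cons ((h.dot p).mono h2) (ih h1)

/-- a short list of small numbers -/
noncomputable def bd (k M : ℕ) (l : List ℤ) : Bool := and (Nat.ble l.length k) (allL (fun x => Nat.ble (ab x) M) l)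

theorem bd_le {k : ℕ} {l : List ℤ} (h : bd k M l = true) (i : ℕ) : |nth l i| ≤ M := by
  have h1 := allL_spec (Bool.and_eq_true_iff.1 h).2
  rw [nth_eq]
  rcases Nat.lt_or_ge i l.length with hi | hi
  · rw [List.getD_eq_getElem _ _ hi, ← ab_eq]
    exact Int.ofNat_le.2 (Nat.le_of_ble_eq_true (h1 _ (List.getElem_mem hi)))
  · rw [List.getD_eq_default _ _ hi, abs_zero]
    exact Int.natCast_nonneg _

theorem kr_hor {l : List ℤ} (h : bd n M l = true) : Kr B n (nth l) (hor B l) M :=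
  ⟨hor_eq _ _ (Nat.le_of_ble_eq_true (Bool.and_eq_true_iff.1 h).1), fun t _ => bd_le h t⟩

/-- the rows of a table -/
noncomputable def rows (B k : ℕ) (c : ℕ → List ℤ) (n : ℕ) : List ℤ :=
  Nat.rec (List.replicate k 0) (fun t ih => frcLZ ih fun V => frc (Nat.pow B t) fun x => axz (Int.ofNat x) V (c t)) n

theorem rows_spec (B k : ℕ) (c : ℕ → List ℤ) (n : ℕ) : (rows B k c n).length = k ∧
    ∀ i < k, nth (rows B k c n) i = ∑ t ∈ Finset.range n, (B : ℤ) ^ t * nth (c t) i := by
  induction n with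
  | zero =>
    refine ⟨List.length_replicate, fun i hi => ?_⟩
    show nth (List.replicate k 0) i = 0
    rw [nth_eq, List.getD_eq_getElem _ _ (by rwa [List.length_replicate]), List.getElem_replicate]
  | succ n ih =>
    have e : rows B k c (n + 1) = axz ((B ^ n : ℕ) : ℤ) (rows B k c n) (c n) :=
      (frcLZ_eq (rows B k c n) fun V => frc (Nat.pow B n) fun x => axz (Int.ofNat x) V (c n)).trans (frc_eq _ _)
    rw [e]
    refine ⟨(length_axz _ _ _).trans ih.1, fun i hi => ?_⟩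
    rw [nth_axz _ _ _ (ih.1.symm ▸ hi), ih.2 i hi, Finset.sum_range_succ, Nat.cast_pow]

theorem kl_rows {k : ℕ} (h : allL (fun t => bd k M (c t)) (List.range n) = true) : KL B n c (rows B k c n) M := fun i => by
  have h1 := fun t ht => allL_spec h t (List.mem_range.2 ht)
  refine ⟨?_, fun t ht => bd_le (h1 t ht) i⟩
  rcases Nat.lt_or_ge i k with hi | hi
  · exact (rows_spec B k c n).2 i hi
  · rw [nth_eq, List.getD_eq_default _ _ ((rows_spec B k c n).1.le.trans hi)]
    refine (Finset.sum_eq_zero fun t ht => ?_).symm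
    rw [nth_eq, List.getD_eq_default _ _
      ((Nat.le_of_ble_eq_true (Bool.and_eq_true_iff.1 (h1 t (Finset.mem_range.1 ht))).1).trans hi), mul_zero]

theorem allL_of {β : Type} {f : β → Bool} {r : List β} (h : ∀ a ∈ r, f a = true) : allL f r = true := by
  induction r with
  | nil => rfl
  | cons b r ih =>
    show cond (f b) (allL f r) false = true
    rw [h b List.mem_cons_self]
    exact ih fun a ha => h a (List.mem_cons_of_mem _ ha)

theorem kr_sum (w : ℕ → ℕ) (h : ∀ t, Kr B n (nth (c t)) (hor B (c t)) M) (ts : List ℕ) :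
    Kr B n (fun j => (ts.map fun t => (w t : ℤ) * nth (c t) j).sum) (ts.map fun t => (w t : ℤ) * hor B (c t)).sum
      (Nat.mul (ts.map w).sum M) := by
  induction ts with
  | nil => exact Kr.zero
  | cons t ts ih => exact ((h t).lin (w t) ih).mono (Nat.ble_eq_true_of_le (Nat.add_mul _ _ _).ge)

/-- the base -/
noncomputable def bs : ℕ := Nat.pow 3 81

/-- the rows -/
noncomputable def RX : List ℤ := rows bs 67 (ntd colsX []) 161

/-- the rows -/
noncomputable def RY : List ℤ := rows bs 67 (ntd colsY []) 161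

/-- the rows -/
noncomputable def RT : List ℤ := rows bs 94 (fun t => ntd colsT [] (proj.getD t 0)) 161

/-- the known generalized characters -/
noncomputable def RG : List ℤ := hor bs sX0 :: dot RT cU :: (rels lvX [] ++ exX).map (dot RX)

private noncomputable def _root_.Cfsg.Agent.KO8ae9c9a.k33 : ((x0 : Prop) → ((@Decidable @x0) → @Bool)) := @(fun (x0 : Prop) (x1 : @Decidable @x0) => @Decidable.rec.{1} @x0 @(fun (x2 : @Decidable @x0) => @Bool) @(fun (x2 : @Not @x0) => @Bool.false) @(fun (x2 : x0) => @Bool.true) @x1)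
private theorem _root_.Cfsg.Agent.KO8ae9c9a.e33 : @Decidable.decide = @_root_.Cfsg.Agent.KO8ae9c9a.k33 := by delta _root_.Cfsg.Agent.KO8ae9c9a.k33; rfl'
private noncomputable def _root_.Cfsg.Agent.KO8ae9c9a.k34 : (by first | exact type_of% @Cfsg.Agent.MK.S7.TY.bd | exact Unit : Sort _) := by first | (refine @Subtype.val _ (fun g => @Cfsg.Agent.MK.S7.TY.bd = @g) (@Subtype.mk _ _ (@(fun (x0 : @Nat) (x1 : @Nat) (x2 : @List.{0} @Int) => @Bool.rec.{1} @(fun (x3 : @Bool) => @Bool) @Bool.false (@Cfsg.Agent.KO8ae9c9a.k17 @Int @(fun (x3 : @Int) => @Nat.ble (@Int.rec.{1} @(fun (x4 : @Int) => @Nat) @(fun (x4 : @Nat) => x4) @(fun (x4 : @Nat) => @Nat.succ @x4) @x3) @x1) @x2) (@Nat.ble (@Cfsg.Agent.KO8ae9c9a.k2.{0} @Int @x2) @x0))) ?_); rewrite [← Cfsg.Agent.KO8ae9c9a.e17, ← Cfsg.Agent.KO8ae9c9a.e2.{0}]; (try delta Cfsg.Agent.MK.S7.TY.bd Cfsg.Agent.MK.S7.TY.ab); (try generalize @Cfsg.Agent.TAB.Eng.allL = g0); rfl') | exact @Cfsg.Agent.MK.S7.TY.bd | exact ()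
private theorem _root_.Cfsg.Agent.KO8ae9c9a.e34 : (by first | exact @Cfsg.Agent.MK.S7.TY.bd = @_root_.Cfsg.Agent.KO8ae9c9a.k34 | exact True : Prop) := by first | (delta _root_.Cfsg.Agent.KO8ae9c9a.k34; exact @Subtype.property _ (fun g => @Cfsg.Agent.MK.S7.TY.bd = @g) _) | rfl | trivial
private noncomputable def _root_.Cfsg.Agent.KO8ae9c9a.k35 : (@Nat → ((@List.{0} @Nat) → @List.{0} @Nat)) := @(fun (x0 : @Nat) (x1 : @List.{0} @Nat) => @Nat.rec.{1} @(fun (x2 : @Nat) => ((@List.{0} @Nat) → @List.{0} @Nat)) @(fun (x2 : @List.{0} @Nat) => x2) @(fun (x2 : @Nat) (x3 : ((@List.{0} @Nat) → @List.{0} @Nat)) (x4 : @List.{0} @Nat) => @x3 (@List.cons.{0} @Nat @x2 @x4)) @x0 @x1)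
private theorem _root_.Cfsg.Agent.KO8ae9c9a.e35 : @List.range.loop = @_root_.Cfsg.Agent.KO8ae9c9a.k35 := by delta _root_.Cfsg.Agent.KO8ae9c9a.k35; funext a0 a1; refine (congrFun (_root_.Cfsg.Agent.KO8ae9c9a.e20 (fun a0 a1 => @List.range.loop a0 a1) ?_ (fun c0 => ?_) a0) a1 :) <;> (rfl')
private noncomputable def _root_.Cfsg.Agent.KO8ae9c9a.k36 : (@Nat → @List.{0} @Nat) := @(fun (x0 : @Nat) => @Cfsg.Agent.KO8ae9c9a.k35 @x0 (@List.nil.{0} @Nat))
private theorem _root_.Cfsg.Agent.KO8ae9c9a.e36 : @List.range = @_root_.Cfsg.Agent.KO8ae9c9a.k36 := by delta _root_.Cfsg.Agent.KO8ae9c9a.k36; rewrite [← Cfsg.Agent.KO8ae9c9a.e35]; rfl'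
private noncomputable def _root_.Cfsg.Agent.KO8ae9c9a.k37 : (by first | exact type_of% @Cfsg.Agent.MK.S7.TY.wt | exact Unit : Sort _) := by first | (refine @Subtype.val _ (fun g => @Cfsg.Agent.MK.S7.TY.wt = @g) (@Subtype.mk _ _ (@(fun (x0 : @List.{0} (@Prod.{0, 0} @Int @Nat)) => @List.rec.{1, 0} (@Prod.{0, 0} @Int @Nat) @(fun (x1 : @List.{0} (@Prod.{0, 0} @Int @Nat)) => @Nat) (nat_lit 0) @(fun (x1 : @Prod.{0, 0} @Int @Nat) (x2 : @List.{0} (@Prod.{0, 0} @Int @Nat)) (x3 : @Nat) => @Nat.add (@Int.rec.{1} @(fun (x4 : @Int) => @Nat) @(fun (x4 : @Nat) => x4) @(fun (x4 : @Nat) => @Nat.succ @x4) (@Prod.fst.{0, 0} @Int @Nat @x1)) @x3) @x0)) ?_); rfl') | exact @Cfsg.Agent.MK.S7.TY.wt | exact ()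
private theorem _root_.Cfsg.Agent.KO8ae9c9a.e37 : (by first | exact @Cfsg.Agent.MK.S7.TY.wt = @_root_.Cfsg.Agent.KO8ae9c9a.k37 | exact True : Prop) := by first | (delta _root_.Cfsg.Agent.KO8ae9c9a.k37; exact @Subtype.property _ (fun g => @Cfsg.Agent.MK.S7.TY.wt = @g) _) | rfl | trivial
private noncomputable def _root_.Cfsg.Agent.KO8ae9c9a.k39.{ku0, ku1, ku2} : ((x0 : Sort (ku0+1)) → ((x1 : Sort (ku1+1)) → ((x2 : Sort (ku2+1)) → ((x0 → (x1 → x2)) → ((@List.{ku0} @x0) → ((@List.{ku1} @x1) → @List.{ku2} @x2)))))) := @(fun (x0 : Sort (ku0+1)) (x1 : Sort (ku1+1)) (x2 : Sort (ku2+1)) (x3 : (x0 → (x1 → x2))) (x4 : @List.{ku0} @x0) (x5 : @List.{ku1} @x1) => @List.rec.{(max (ku1+1) (ku2+1)), ku0} @x0 @(fun (x6 : @List.{ku0} @x0) => ((@List.{ku1} @x1) → @List.{ku2} @x2)) @(fun (x6 : @List.{ku1} @x1) => @List.nil.{ku2} @x2) @(fun (x6 : x0) (x7 : @List.{ku0} @x0) (x8 : ((@List.{ku1} @x1) → @List.{ku2} @x2)) (x9 : @List.{ku1} @x1) => @List.rec.{(ku2+1), ku1} @x1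 @(fun (x10 : @List.{ku1} @x1) => @List.{ku2} @x2) (@List.nil.{ku2} @x2) @(fun (x10 : x1) (x11 : @List.{ku1} @x1) (x12 : @List.{ku2} @x2) => @List.cons.{ku2} @x2 (@x3 @x6 @x10) (@x8 @x11)) @x9) @x4 @x5)
private theorem _root_.Cfsg.Agent.KO8ae9c9a.e39.{ku0, ku1, ku2} : @List.zipWith.{ku0, ku1, ku2} = @_root_.Cfsg.Agent.KO8ae9c9a.k39.{ku0, ku1, ku2} := by delta _root_.Cfsg.Agent.KO8ae9c9a.k39; funext a0 a1 a2 a3 a4 a5; refine (congrFun (_root_.Cfsg.Agent.KO8ae9c9a.e1 (fun a4 a5 => @List.zipWith.{ku0, ku1, ku2} a0 a1 a2 a3 a4 a5) ?_ (fun c0 c1 => ?_) a4) a5 :) <;> [(funext b0; (rfl')); (funext b0; (cases b0 with | @nil  => (rfl') | @cons b0_0 b0_1 => (rfl')))]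
private noncomputable def _root_.Cfsg.Agent.KO8ae9c9a.k40 : (by first | exact type_of% @Cfsg.Agent.TAB.Glue.zc | exact Unit : Sort _) := by first | (refine @Subtype.val _ (fun g => @Cfsg.Agent.TAB.Glue.zc = @g) (@Subtype.mk _ _ (@(fun (x0 : @List.{0} @Nat) (x1 : @List.{0} @Nat) => @Cfsg.Agent.KO8ae9c9a.k39.{0, 0, 0} @Nat @Nat (@Prod.{0, 0} @Int @Nat) @(fun (x2 : @Nat) (x3 : @Nat) => @Prod.mk.{0, 0} @Int @Nat (@Int.ofNat @x2) @x3) @x0 @x1)) ?_); rewrite [← Cfsg.Agent.KO8ae9c9a.e39.{0, 0, 0}]; rfl') | exact @Cfsg.Agent.TAB.Glue.zc | exact ()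
private theorem _root_.Cfsg.Agent.KO8ae9c9a.e40 : (by first | exact @Cfsg.Agent.TAB.Glue.zc = @_root_.Cfsg.Agent.KO8ae9c9a.k40 | exact True : Prop) := by first | (delta _root_.Cfsg.Agent.KO8ae9c9a.k40; exact @Subtype.property _ (fun g => @Cfsg.Agent.TAB.Glue.zc = @g) _) | rfl | trivial
private noncomputable def _root_.Cfsg.Agent.KO8ae9c9a.k41 : (by first | exact type_of% @Cfsg.Agent.TAB.Glue.rels | exact Unit : Sort _) := by first | (refine @Subtype.val _ (fun g => @Cfsg.Agent.TAB.Glue.rels = @g) (@Subtype.mk _ _ (@(fun (x0 : @List.{0} @Cfsg.Agent.TAB.Glue.Lv) => @List.rec.{1, 0} @Cfsg.Agent.TAB.Glue.Lv @(fun (x1 : @List.{0} @Cfsg.Agent.TAB.Glue.Lv) => ((@List.{0} @Nat) → @List.{0} (@List.{0} (@Prod.{0, 0} @Int @Nat)))) @(fun (x1 : @List.{0} @Nat) => @List.nil.{0} (@List.{0} (@Prod.{0, 0} @Int @Nat))) @(fun (x1 : @Cfsg.Agent.TAB.Glue.Lv) (x2 : @List.{0} @Cfsg.Agent.TAB.Glue.Lv) (x3 : ((@List.{0} @Nat) → @List.{0} (@List.{0} (@Prod.{0, 0} @Int @Nat))))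 (x4 : @List.{0} @Nat) => @List.cons.{0} (@List.{0} (@Prod.{0, 0} @Int @Nat)) (@List.cons.{0} (@Prod.{0, 0} @Int @Nat) (@Prod.mk.{0, 0} @Int @Nat (@Int.ofNat (@Cfsg.Agent.TAB.Glue.Lv.d @x1)) (@Cfsg.Agent.TAB.Glue.Lv.j @x1)) (@Cfsg.Agent.KO8ae9c9a.k40 (@Cfsg.Agent.TAB.Glue.Lv.a @x1) @x4)) (@x3 (@Bool.rec.{1} @(fun (x5 : @Bool) => @List.{0} @Nat) (@List.cons.{0} @Nat (@Cfsg.Agent.TAB.Glue.Lv.j @x1) @x4) @x4 (@Nat.beq (@Cfsg.Agent.TAB.Glue.Lv.d @x1) (nat_lit 1))))) @x0)) ?_); rewrite [← Cfsg.Agent.KO8ae9c9a.e40]; (try delta Cfsg.Agent.TAB.Glue.rels); (try generalize @Cfsg.Agent.TAB.Glue.zc = g0); rfl') | exact @Cfsg.Agent.TAB.Glue.rels | exact ()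
private theorem _root_.Cfsg.Agent.KO8ae9c9a.e41 : (by first | exact @Cfsg.Agent.TAB.Glue.rels = @_root_.Cfsg.Agent.KO8ae9c9a.k41 | exact True : Prop) := by first | (delta _root_.Cfsg.Agent.KO8ae9c9a.k41; exact @Subtype.property _ (fun g => @Cfsg.Agent.TAB.Glue.rels = @g) _) | rfl | trivial
private noncomputable def _root_.Cfsg.Agent.KO8ae9c9a.k42 : ((x0 : Prop) → ((x1 : Prop) → ((@Decidable @x0) → ((@Decidable @x1) → @Decidable (@And @x0 @x1))))) := @(fun (x0 : Prop) (x1 : Prop) (x2 : @Decidable @x0) (x3 : @Decidable @x1) => @Decidable.rec.{1} @x0 @(fun (x4 : @Decidable @x0) => @Decidable (@And @x0 @x1)) @(fun (x4 : @Not @x0) => @Decidable.isFalse (@And @x0 @x1) (@instDecidableAnd._proof_2 @x0 @x1 @x4)) @(fun (x4 : x0) => @Decidable.rec.{1} @x1 @(fun (x5 : @Decidable @x1) => @Decidable (@And @x0 @x1)) @(fun (x5 : @Not @x1) => @Decidable.isFalse (@And @x0 @x1) (@instDecidableAnd._proof_1 @x0 @x1 @x5)) @(fun (x5 : x1) => @Decidable.isTrue (@And @x0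 @x1) (@And.intro @x0 @x1 @x4 @x5)) @x3) @x2)
private theorem _root_.Cfsg.Agent.KO8ae9c9a.e42 : @instDecidableAnd = @_root_.Cfsg.Agent.KO8ae9c9a.k42 := by delta _root_.Cfsg.Agent.KO8ae9c9a.k42; rfl'
private noncomputable def _root_.Cfsg.Agent.KO8ae9c9a.k43.{ku0} : ((x0 : Sort ku0) → ((x1 : @Bool) → ((x2 : @Bool) → ((@Eq.{1} @Bool @x1 @x2) → @Bool.noConfusionType.{ku0} @x0 @x1 @x2)))) := @(fun (x0 : Sort ku0) (x1 : @Bool) (x2 : @Bool) (x3 : @Eq.{1} @Bool @x1 @x2) => @Eq.rec.{ku0, 1} @Bool @x1 @(fun (x4 : @Bool) (x5 : @Eq.{1} @Bool @x1 @x4) => @Bool.noConfusionType.{ku0} @x0 @x1 @x4) (@Bool.rec.{ku0} @(fun (x4 : @Bool) => @Bool.noConfusionType.{ku0} @x0 @x4 @x4) @(fun (x4 : x0) => x4) @(fun (x4 : x0) => x4) @x1) @x2 @x3)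
private theorem _root_.Cfsg.Agent.KO8ae9c9a.e43.{ku0} : @Bool.noConfusion.{ku0} = @_root_.Cfsg.Agent.KO8ae9c9a.k43.{ku0} := by delta _root_.Cfsg.Agent.KO8ae9c9a.k43; rfl'
private noncomputable def _root_.Cfsg.Agent.KO8ae9c9a.k44 : ((x0 : @Bool) → ((x1 : @Bool) → @Decidable (@Eq.{1} @Bool @x0 @x1))) := @(fun (x0 : @Bool) (x1 : @Bool) => @Bool.rec.{1} @(fun (x2 : @Bool) => @Decidable (@Eq.{1} @Bool @x2 @x1)) (@Bool.rec.{1} @(fun (x2 : @Bool) => @Decidable (@Eq.{1} @Bool @Bool.false @x2)) (@Decidable.isTrue (@Eq.{1} @Bool @Bool.false @Bool.false) (@rfl.{1} @Bool @Bool.false)) (@Decidable.isFalse (@Eq.{1} @Bool @Bool.false @Bool.true) @(fun (x2 : @Eq.{1} @Bool @Bool.false @Bool.true) => @Cfsg.Agent.KO8ae9c9a.k43.{0} @False @Bool.false @Bool.true @x2)) @x1) (@Bool.rec.{1} @(fun (x2 : @Bool) => @Decidable (@Eq.{1} @Bool @Bool.true @x2)) (@Decidable.isFalse (@Eq.{1} @Bool @Bool.true @Bool.false) @(fun (x2 : @Eq.{1} @Bool @Bool.true @Bool.false) => @Cfsg.Agent.KO8ae9c9a.k43.{0}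 @False @Bool.true @Bool.false @x2)) (@Decidable.isTrue (@Eq.{1} @Bool @Bool.true @Bool.true) (@rfl.{1} @Bool @Bool.true)) @x1) @x0)
private theorem _root_.Cfsg.Agent.KO8ae9c9a.e44 : @Bool.decEq = @_root_.Cfsg.Agent.KO8ae9c9a.k44 := by delta _root_.Cfsg.Agent.KO8ae9c9a.k44; rewrite [← Cfsg.Agent.KO8ae9c9a.e43.{0}]; rfl'
private noncomputable def _root_.Cfsg.Agent.KO8ae9c9a.k45 : @DecidableEq.{1} @Bool := @Cfsg.Agent.KO8ae9c9a.k44
private theorem _root_.Cfsg.Agent.KO8ae9c9a.e45 : @instDecidableEqBool = @_root_.Cfsg.Agent.KO8ae9c9a.k45 := by delta _root_.Cfsg.Agent.KO8ae9c9a.k45; rewrite [← Cfsg.Agent.KO8ae9c9a.e44]; rfl'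

theorem bounds : allL (bd 67 (2 ^ 40)) colsX = true ∧
    allL (fun t => bd 67 (2 ^ 40) (ntd colsY [] t)) (List.range 161) = true ∧ allL (bd 94 (2 ^ 40)) colsT = true ∧
    bd 161 (2 ^ 81) sX0 = true ∧ Nat.ble (Nat.mul (wt cU) (2 ^ 40)) (2 ^ 81) = true ∧
    allL (fun p => Nat.ble (Nat.mul (wt p) (2 ^ 40)) (2 ^ 81)) (rels lvX [] ++ exX) = true := by (first | (refine of_decide_eq_true ?_; rewrite [Cfsg.Agent.KO8ae9c9a.e33, Cfsg.Agent.KO8ae9c9a.e17, Cfsg.Agent.KO8ae9c9a.e34, Cfsg.Agent.KO8ae9c9a.e36, Cfsg.Agent.KO8ae9c9a.e37, Cfsg.Agent.KO8ae9c9a.e41, Cfsg.Agent.KO8ae9c9a.e42, Cfsg.Agent.KO8ae9c9a.e45]; decide +kernel) | decide +kernel)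

theorem bd_ntd {k : ℕ} {C : List (List ℤ)} (h : allL (bd k M) C = true) (t : ℕ) : bd k M (ntd C [] t) = true := by
  rcases ntd_mem C [] t with h1 | h1
  · rw [h1]
    rfl
  · exact allL_spec h _ h1

private noncomputable def _root_.Cfsg.Agent.KO8ae9c9a.k3 : ((@Int) → ((@Int) → @Int)) := @(fun (x0 : @Int) (x1 : @Int) => @Int.rec.{1} @(fun (x2 : @Int) => @Int) @(fun (x2 : @Nat) => @Int.rec.{1} @(fun (x3 : @Int) => @Int) @(fun (x3 : @Nat) => @Int.ofNat (@Nat.mul @x2 @x3)) @(fun (x3 : @Nat) => @Nat.rec.{1} @(fun (x4 : @Nat) => @Int) (@Int.ofNat (nat_lit 0)) @(fun (x4 : @Nat) (x5 : @Int) => @Int.negSucc @x4) (@Nat.mul @x2 (@Nat.succ @x3))) @x1) @(fun (x2 : @Nat) => @Int.rec.{1} @(fun (x3 : @Int) => @Int) @(fun (x3 : @Nat) => @Nat.rec.{1} @(fun (x4 : @Nat) => @Int) (@Int.ofNat (nat_lit 0)) @(fun (x4 : @Nat) (x5 : @Int) => @Int.negSucc @x4) (@Nat.mul (@Nat.succ @x2) @x3)) @(fun (x3 : @Nat) => @Int.ofNat (@Nat.mul (@Nat.succ @x2) (@Nat.succ @x3))) @x1)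 @x0)
private theorem _root_.Cfsg.Agent.KO8ae9c9a.e3 : @Int.mul = @_root_.Cfsg.Agent.KO8ae9c9a.k3 := by delta _root_.Cfsg.Agent.KO8ae9c9a.k3; rfl'
private noncomputable def _root_.Cfsg.Agent.KO8ae9c9a.k4 : (by first | exact type_of% @Cfsg.Agent.TAB.Eng.frcZ | exact Unit : Sort _) := by first | (refine @Subtype.val _ (fun g => @Cfsg.Agent.TAB.Eng.frcZ = @g) (@Subtype.mk _ _ (@(fun (x0 : Type) (x1 : @Int) (x2 : (@Int → x0)) => @Int.rec.{1} @(fun (x3 : @Int) => x0) @(fun (x3 : @Nat) => @Cfsg.Agent.KO8ae9c9a.k0 @x0 @x3 @(fun (x4 : @Nat) => @x2 (@Int.ofNat @x4))) @(fun (x3 : @Nat) => @Cfsg.Agent.KO8ae9c9a.k0 @x0 @x3 @(fun (x4 : @Nat) => @x2 (@Int.negSucc @x4))) @x1)) ?_); rewrite [← Cfsg.Agent.KO8ae9c9a.e0]; (try delta Cfsg.Agent.TAB.Eng.frcZ); (try generalize @Cfsg.Agent.TAB.Eng.frc = g0); rfl') | exact @Cfsg.Agent.TAB.Eng.frcZ | exact ()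
private theorem _root_.Cfsg.Agent.KO8ae9c9a.e4 : (by first | exact @Cfsg.Agent.TAB.Eng.frcZ = @_root_.Cfsg.Agent.KO8ae9c9a.k4 | exact True : Prop) := by first | (delta _root_.Cfsg.Agent.KO8ae9c9a.k4; exact @Subtype.property _ (fun g => @Cfsg.Agent.TAB.Eng.frcZ = @g) _) | rfl | trivial
private noncomputable def _root_.Cfsg.Agent.KO8ae9c9a.k5 : ((@Int) → ((@Int) → @Int)) := @(fun (x0 : @Int) (x1 : @Int) => @Int.rec.{1} @(fun (x2 : @Int) => @Int) @(fun (x2 : @Nat) => @Int.rec.{1} @(fun (x3 : @Int) => @Int) @(fun (x3 : @Nat) => @Int.ofNat (@Nat.add @x2 @x3)) @(fun (x3 : @Nat) => @Nat.rec.{1} @(fun (x4 : @Nat) => @Int) (@Int.ofNat (@Nat.sub @x2 (@Nat.succ @x3))) @(fun (x4 : @Nat) (x5 : @Int) => @Int.negSucc @x4) (@Nat.sub (@Nat.succ @x3) @x2)) @x1) @(fun (x2 : @Nat) => @Int.rec.{1} @(fun (x3 : @Int) => @Int) @(fun (x3 : @Nat) => @Nat.rec.{1} @(fun (x4 : @Nat) => @Int) (@Int.ofNat (@Nat.sub @x3 (@Nat.succ @x2))) @(fun (x4 : @Nat) (x5 : @Int) => @Int.negSucc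 @x4) (@Nat.sub (@Nat.succ @x2) @x3)) @(fun (x3 : @Nat) => @Int.negSucc (@Nat.succ (@Nat.add @x2 @x3))) @x1) @x0)
private theorem _root_.Cfsg.Agent.KO8ae9c9a.e5 : @Int.add = @_root_.Cfsg.Agent.KO8ae9c9a.k5 := by delta _root_.Cfsg.Agent.KO8ae9c9a.k5; rfl'
private noncomputable def _root_.Cfsg.Agent.KO8ae9c9a.k6 : (by first | exact type_of% @Cfsg.Agent.TAB.Eng.hor | exact Unit : Sort _) := by first | (refine @Subtype.val _ (fun g => @Cfsg.Agent.TAB.Eng.hor = @g) (@Subtype.mk _ _ (@(fun (x0 : @Int) (x1 : @List.{0} @Int) => @List.rec.{1, 0} @Int @(fun (x2 : @List.{0} @Int) => @Int) (@Int.ofNat (nat_lit 0)) @(fun (x2 : @Int) (x3 : @List.{0} @Int) (x4 : @Int) => @Cfsg.Agent.KO8ae9c9a.k4 @Int @x4 @(fun (x5 : @Int) => @Cfsg.Agent.KO8ae9c9a.k5 @x2 (@Cfsg.Agent.KO8ae9c9a.k3 @x0 @x5))) @x1)) ?_); rewrite [← Cfsg.Agent.KO8ae9c9a.e4, ← Cfsg.Agent.KO8ae9c9a.e5, ← Cfsg.Agent.KO8ae9c9a.e3]; (try delta Cfsg.Agent.TAB.Eng.hor); (try generalize @Cfsg.Agent.TAB.Eng.frcZ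 = g0); rfl') | exact @Cfsg.Agent.TAB.Eng.hor | exact ()
private theorem _root_.Cfsg.Agent.KO8ae9c9a.e6 : (by first | exact @Cfsg.Agent.TAB.Eng.hor = @_root_.Cfsg.Agent.KO8ae9c9a.k6 | exact True : Prop) := by first | (delta _root_.Cfsg.Agent.KO8ae9c9a.k6; exact @Subtype.property _ (fun g => @Cfsg.Agent.TAB.Eng.hor = @g) _) | rfl | trivial
private noncomputable def _root_.Cfsg.Agent.KO8ae9c9a.k9 : ((x0 : @Int) → ((x1 : @Int) → @Decidable (@Eq.{1} @Int @x0 @x1))) := @(fun (x0 : @Int) (x1 : @Int) => @Int.rec.{1} @(fun (x2 : @Int) => @Decidable (@Eq.{1} @Int @x2 @x1)) @(fun (x2 : @Nat) => @Int.rec.{1} @(fun (x3 : @Int) => @Decidable (@Eq.{1} @Int (@Int.ofNat @x2) @x3)) @(fun (x3 : @Nat) => @Decidable.rec.{1} (@Eq.{1} @Nat @x2 @x3) @(fun (x4 : @Decidable (@Eq.{1} @Nat @x2 @x3)) => @Decidable (@Eq.{1} @Int (@Int.ofNat @x2) (@Int.ofNat @x3))) @(fun (x4 : @Not (@Eq.{1} @Nat @x2 @x3)) => @Decidable.isFalse (@Eq.{1} @Int (@Int.ofNat @x2) (@Int.ofNat @x3)) (@Int.decEq._proof_2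 @x2 @x3 @x4)) @(fun (x4 : @Eq.{1} @Nat @x2 @x3) => @Decidable.isTrue (@Eq.{1} @Int (@Int.ofNat @x2) (@Int.ofNat @x3)) (@Int.decEq._proof_1 @x2 @x3 @x4)) (@Cfsg.Agent.KO8ae9c9a.k8 @x2 @x3)) @(fun (x3 : @Nat) => @Decidable.isFalse (@Eq.{1} @Int (@Int.ofNat @x2) (@Int.negSucc @x3)) (@Int.decEq._proof_3 @x2 @x3)) @x1) @(fun (x2 : @Nat) => @Int.rec.{1} @(fun (x3 : @Int) => @Decidable (@Eq.{1} @Int (@Int.negSucc @x2) @x3)) @(fun (x3 : @Nat) => @Decidable.isFalse (@Eq.{1} @Int (@Int.negSucc @x2) (@Int.ofNat @x3)) (@Int.decEq._proof_4 @x2 @x3)) @(fun (x3 : @Nat) => @Decidable.rec.{1} (@Eq.{1} @Nat @x2 @x3) @(fun (x4 : @Decidable (@Eq.{1} @Nat @x2 @x3)) => @Decidable (@Eq.{1} @Int (@Int.negSucc @x2) (@Int.negSucc @x3))) @(fun (x4 : @Not (@Eq.{1} @Nat @x2 @x3)) => @Decidable.isFalse (@Eq.{1} @Int (@Int.negSucc @x2) (@Int.negSucc @x3)) (@Int.decEq._proof_6 @x2 @x3 @x4)) @(fun (x4 : @Eq.{1} @Nat @x2 @x3) => @Decidable.isTrue (@Eq.{1} @Int (@Int.negSucc @x2) (@Int.negSucc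 @x3)) (@Int.decEq._proof_5 @x2 @x3 @x4)) (@Cfsg.Agent.KO8ae9c9a.k8 @x2 @x3)) @x1) @x0)
private theorem _root_.Cfsg.Agent.KO8ae9c9a.e9 : @Int.decEq = @_root_.Cfsg.Agent.KO8ae9c9a.k9 := by delta _root_.Cfsg.Agent.KO8ae9c9a.k9; rewrite [← Cfsg.Agent.KO8ae9c9a.e8]; rfl'
private noncomputable def _root_.Cfsg.Agent.KO8ae9c9a.k11 : (by first | exact type_of% @Cfsg.Agent.TAB.Eng.frcLZ | exact Unit : Sort _) := by first | (refine @Subtype.val _ (fun g => @Cfsg.Agent.TAB.Eng.frcLZ = @g) (@Subtype.mk _ _ (@(fun (x0 : Type) (x1 : @List.{0} @Int) => @List.rec.{1, 0} @Int @(fun (x2 : @List.{0} @Int) => (((@List.{0} @Int) → x0) → x0)) @(fun (x2 : ((@List.{0} @Int) → x0)) => @x2 (@List.nil.{0} @Int)) @(fun (x2 : @Int) (x3 : @List.{0} @Int) (x4 : (((@List.{0} @Int) → x0) → x0)) (x5 : ((@List.{0} @Int) → x0)) => @Cfsg.Agent.KO8ae9c9a.k4 @x0 @x2 @(fun (x6 : @Int) => @x4 @(fun (x7 : @List.{0} @Int) => @x5 (@List.cons.{0} @Int @x6 @x7)))) @x1)) ?_); rewrite [← Cfsg.Agent.KO8ae9c9a.e4];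 (try delta Cfsg.Agent.TAB.Eng.frcLZ); (try generalize @Cfsg.Agent.TAB.Eng.frcZ = g0); rfl') | exact @Cfsg.Agent.TAB.Eng.frcLZ | exact ()
private theorem _root_.Cfsg.Agent.KO8ae9c9a.e11 : (by first | exact @Cfsg.Agent.TAB.Eng.frcLZ = @_root_.Cfsg.Agent.KO8ae9c9a.k11 | exact True : Prop) := by first | (delta _root_.Cfsg.Agent.KO8ae9c9a.k11; exact @Subtype.property _ (fun g => @Cfsg.Agent.TAB.Eng.frcLZ = @g) _) | rfl | trivial
private noncomputable def _root_.Cfsg.Agent.KO8ae9c9a.k12 : (by first | exact type_of% @Cfsg.Agent.TAB.Eng.axz | exact Unit : Sort _) := by first | (refine @Subtype.val _ (fun g => @Cfsg.Agent.TAB.Eng.axz = @g) (@Subtype.mk _ _ (@(fun (x0 : @Int) (x1 : @List.{0} @Int) => @List.rec.{1, 0} @Int @(fun (x2 : @List.{0} @Int) => ((@List.{0} @Int) → @List.{0} @Int)) @(fun (x2 : @List.{0} @Int) => @List.nil.{0} @Int) @(fun (x2 : @Int) (x3 : @List.{0} @Int) (x4 : ((@List.{0} @Int) → @List.{0} @Int)) (x5 : @List.{0} @Int) => @List.rec.{1,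 0} @Int @(fun (x6 : @List.{0} @Int) => @List.{0} @Int) (@List.cons.{0} @Int @x2 @x3) @(fun (x6 : @Int) (x7 : @List.{0} @Int) (x8 : @List.{0} @Int) => @List.cons.{0} @Int (@Cfsg.Agent.KO8ae9c9a.k5 @x2 (@Cfsg.Agent.KO8ae9c9a.k3 @x0 @x6)) (@x4 @x7)) @x5) @x1)) ?_); rewrite [← Cfsg.Agent.KO8ae9c9a.e5, ← Cfsg.Agent.KO8ae9c9a.e3]; rfl') | exact @Cfsg.Agent.TAB.Eng.axz | exact ()
private theorem _root_.Cfsg.Agent.KO8ae9c9a.e12 : (by first | exact @Cfsg.Agent.TAB.Eng.axz = @_root_.Cfsg.Agent.KO8ae9c9a.k12 | exact True : Prop) := by first | (delta _root_.Cfsg.Agent.KO8ae9c9a.k12; exact @Subtype.property _ (fun g => @Cfsg.Agent.TAB.Eng.axz = @g) _) | rfl | trivial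
private noncomputable def _root_.Cfsg.Agent.KO8ae9c9a.k46.{ku0} : ((x0 : Sort (ku0+1)) → (@Nat → (x0 → @List.{ku0} @x0))) := @(fun (x0 : Sort (ku0+1)) (x1 : @Nat) (x2 : x0) => @Nat.rec.{(ku0+1)} @(fun (x3 : @Nat) => (x0 → @List.{ku0} @x0)) @(fun (x3 : x0) => @List.nil.{ku0} @x0) @(fun (x3 : @Nat) (x4 : (x0 → @List.{ku0} @x0)) (x5 : x0) => @List.cons.{ku0} @x0 @x5 (@x4 @x5)) @x1 @x2)
private theorem _root_.Cfsg.Agent.KO8ae9c9a.e46.{ku0} : @List.replicate.{ku0} = @_root_.Cfsg.Agent.KO8ae9c9a.k46.{ku0} := by delta _root_.Cfsg.Agent.KO8ae9c9a.k46; funext a0 a1 a2; refine (congrFun (_root_.Cfsg.Agent.KO8ae9c9a.e20 (fun a1 a2 => @List.replicate.{ku0} a0 a1 a2) ?_ (fun c0 => ?_) a1) a2 :) <;> (rfl')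
private noncomputable def _root_.Cfsg.Agent.KO8ae9c9a.k47 : (by first | exact type_of% @Cfsg.Agent.MK.S7.TY.rows | exact Unit : Sort _) := by first | (refine @Subtype.val _ (fun g => @Cfsg.Agent.MK.S7.TY.rows = @g) (@Subtype.mk _ _ (@(fun (x0 : @Nat) (x1 : @Nat) (x2 : (@Nat → @List.{0} @Int)) (x3 : @Nat) => @Nat.rec.{1} @(fun (x4 : @Nat) => @List.{0} @Int) (@Cfsg.Agent.KO8ae9c9a.k46.{0} @Int @x1 (@Int.ofNat (nat_lit 0))) @(fun (x4 : @Nat) (x5 : @List.{0} @Int) => @Cfsg.Agent.KO8ae9c9a.k11 (@List.{0} @Int) @x5 @(fun (x6 : @List.{0} @Int) => @Cfsg.Agent.KO8ae9c9a.k0 (@List.{0} @Int) (@Nat.pow @x0 @x4) @(fun (x7 : @Nat) => @Cfsg.Agent.KO8ae9c9a.k12 (@Int.ofNat @x7) @x6 (@x2 @x4)))) @x3)) ?_); rewrite [← Cfsg.Agent.KO8ae9c9a.e46.{0}, ← Cfsg.Agent.KO8ae9c9a.e11, ← Cfsg.Agent.KO8ae9c9a.e0, ← Cfsg.Agent.KO8ae9c9a.e12]; (try delta Cfsg.Agent.MK.S7.TY.rows); (try generalize @Cfsg.Agent.TAB.Eng.frcLZ = g0); (try generalize @Cfsg.Agent.TAB.Eng.frc = g1); (try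 generalize @Cfsg.Agent.TAB.Eng.axz = g2); rfl') | exact @Cfsg.Agent.MK.S7.TY.rows | exact ()
private theorem _root_.Cfsg.Agent.KO8ae9c9a.e47 : (by first | exact @Cfsg.Agent.MK.S7.TY.rows = @_root_.Cfsg.Agent.KO8ae9c9a.k47 | exact True : Prop) := by first | (delta _root_.Cfsg.Agent.KO8ae9c9a.k47; exact @Subtype.property _ (fun g => @Cfsg.Agent.MK.S7.TY.rows = @g) _) | rfl | trivial
private noncomputable def _root_.Cfsg.Agent.KO8ae9c9a.k49.{ku0} : ((x0 : Sort (ku0+1)) → ((@List.{ku0} @x0) → (@Nat → @Option.{ku0} @x0))) := @(fun (x0 : Sort (ku0+1)) (x1 : @List.{ku0} @x0) (x2 : @Nat) => @List.rec.{(ku0+1), ku0} @x0 @(fun (x3 : @List.{ku0} @x0) => (@Nat → @Option.{ku0} @x0)) @(fun (x3 : @Nat) => @Option.none.{ku0} @x0) @(fun (x3 : x0) (x4 : @List.{ku0} @x0) (x5 : (@Nat → @Option.{ku0} @x0)) (x6 : @Nat) => @Nat.rec.{(ku0+1)} @(fun (x7 : @Nat) => @Option.{ku0} @x0) (@Option.some.{ku0} @x0 @x3) @(fun (x7 : @Nat) (x8 : @Option.{ku0} @x0) => @x5 @x7) @x6) @x1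 @x2)
private theorem _root_.Cfsg.Agent.KO8ae9c9a.e49.{ku0} : @List.get?Internal.{ku0} = @_root_.Cfsg.Agent.KO8ae9c9a.k49.{ku0} := by delta _root_.Cfsg.Agent.KO8ae9c9a.k49; funext a0 a1 a2; refine (congrFun (_root_.Cfsg.Agent.KO8ae9c9a.e1 (fun a1 a2 => @List.get?Internal.{ku0} a0 a1 a2) ?_ (fun c0 c1 => ?_) a1) a2 :) <;> [(funext b0; (rfl')); (funext b0; (cases b0 with | @zero  => (rfl') | @succ b0_0 => (rfl')))]
private noncomputable def _root_.Cfsg.Agent.KO8ae9c9a.k50.{ku0} : ((x0 : Sort (ku0+1)) → ((@List.{ku0} @x0) → (@Nat → (x0 → x0)))) := @(fun (x0 : Sort (ku0+1)) (x1 : @List.{ku0} @x0) (x2 : @Nat) (x3 : x0) => @Option.rec.{(ku0+1), ku0} @x0 @(fun (x4 : @Option.{ku0} @x0) => x0) @x3 @(fun (x4 : x0) => x4) (@Cfsg.Agent.KO8ae9c9a.k49.{ku0} @x0 @x1 @x2))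
private theorem _root_.Cfsg.Agent.KO8ae9c9a.e50.{ku0} : @List.getD.{ku0} = @_root_.Cfsg.Agent.KO8ae9c9a.k50.{ku0} := by delta _root_.Cfsg.Agent.KO8ae9c9a.k50; rewrite [← Cfsg.Agent.KO8ae9c9a.e49.{ku0}]; rfl'
private noncomputable def _root_.Cfsg.Agent.KO8ae9c9a.k51 : (by first | exact type_of% @Cfsg.Agent.TAB.Eng.nth | exact Unit : Sort _) := by first | (refine @Subtype.val _ (fun g => @Cfsg.Agent.TAB.Eng.nth = @g) (@Subtype.mk _ _ (@(fun (x0 : @List.{0} @Int) => @List.rec.{1, 0} @Int @(fun (x1 : @List.{0} @Int) => (@Nat → @Int)) @(fun (x1 : @Nat) => @Int.ofNat (nat_lit 0)) @(fun (x1 : @Int) (x2 : @List.{0} @Int) (x3 : (@Nat → @Int)) (x4 : @Nat) => @Nat.rec.{1} @(fun (x5 : @Nat) => @Int) @x1 @(fun (x5 : @Nat) (x6 : @Int) => @x3 @x5) @x4) @x0)) ?_); rfl') | exact @Cfsg.Agent.TAB.Eng.nth | exact ()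
private theorem _root_.Cfsg.Agent.KO8ae9c9a.e51 : (by first | exact @Cfsg.Agent.TAB.Eng.nth = @_root_.Cfsg.Agent.KO8ae9c9a.k51 | exact True : Prop) := by first | (delta _root_.Cfsg.Agent.KO8ae9c9a.k51; exact @Subtype.property _ (fun g => @Cfsg.Agent.TAB.Eng.nth = @g) _) | rfl | trivial
private noncomputable def _root_.Cfsg.Agent.KO8ae9c9a.k52 : (by first | exact type_of% @Cfsg.Agent.TAB.Eng.dot | exact Unit : Sort _) := by first | (refine @Subtype.val _ (fun g => @Cfsg.Agent.TAB.Eng.dot = @g) (@Subtype.mk _ _ (@(fun (x0 : @List.{0} @Int) (x1 : @List.{0} (@Prod.{0, 0} @Int @Nat)) => @List.rec.{1, 0} (@Prod.{0, 0} @Int @Nat) @(fun (x2 : @List.{0} (@Prod.{0, 0} @Int @Nat)) => @Int) (@Int.ofNat (nat_lit 0)) @(fun (x2 : @Prod.{0, 0} @Int @Nat) (x3 : @List.{0} (@Prod.{0, 0} @Int @Nat)) (x4 : @Int) => @Cfsg.Agent.KO8ae9c9a.k5 (@Cfsg.Agent.KO8ae9c9a.k3 (@Prod.fst.{0, 0} @Int @Nat @x2) (@Cfsg.Agent.KO8ae9c9a.k51 @x0 (@Prod.snd.{0, 0} @Int @Nat @x2))) @x4)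 @x1)) ?_); rewrite [← Cfsg.Agent.KO8ae9c9a.e5, ← Cfsg.Agent.KO8ae9c9a.e3, ← Cfsg.Agent.KO8ae9c9a.e51]; (try delta Cfsg.Agent.TAB.Eng.dot); (try generalize @Cfsg.Agent.TAB.Eng.nth = g0); rfl') | exact @Cfsg.Agent.TAB.Eng.dot | exact ()
private theorem _root_.Cfsg.Agent.KO8ae9c9a.e52 : (by first | exact @Cfsg.Agent.TAB.Eng.dot = @_root_.Cfsg.Agent.KO8ae9c9a.k52 | exact True : Prop) := by first | (delta _root_.Cfsg.Agent.KO8ae9c9a.k52; exact @Subtype.property _ (fun g => @Cfsg.Agent.TAB.Eng.dot = @g) _) | rfl | trivial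
private noncomputable def _root_.Cfsg.Agent.KO8ae9c9a.k53 : (@Bool → (@Bool → @Bool)) := @(fun (x0 : @Bool) (x1 : @Bool) => @Bool.rec.{1} @(fun (x2 : @Bool) => @Bool) @Bool.false @x1 @x0)
private theorem _root_.Cfsg.Agent.KO8ae9c9a.e53 : @Bool.and = @_root_.Cfsg.Agent.KO8ae9c9a.k53 := by delta _root_.Cfsg.Agent.KO8ae9c9a.k53; rfl'
private noncomputable def _root_.Cfsg.Agent.KO8ae9c9a.k54 : @DecidableEq.{1} @Int := @Cfsg.Agent.KO8ae9c9a.k9
private theorem _root_.Cfsg.Agent.KO8ae9c9a.e54 : @Int.instDecidableEq = @_root_.Cfsg.Agent.KO8ae9c9a.k54 := by delta _root_.Cfsg.Agent.KO8ae9c9a.k54; rewrite [← Cfsg.Agent.KO8ae9c9a.e9]; rfl'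
private noncomputable def _root_.Cfsg.Agent.KO8ae9c9a.k55.{ku0, ku1} : ((x0 : Sort (ku0+1)) → ((x1 : Sort (ku1+1)) → ((@List.{ku0} @x0) → ((@List.{ku1} @x1) → @List.{(max ku1 ku0)} (@Prod.{ku0, ku1} @x0 @x1))))) := @(fun (x0 : Sort (ku0+1)) (x1 : Sort (ku1+1)) => @Cfsg.Agent.KO8ae9c9a.k39.{ku0, ku1, (max ku0 ku1)} @x0 @x1 (@Prod.{ku0, ku1} @x0 @x1) (@Prod.mk.{ku0, ku1} @x0 @x1))
private theorem _root_.Cfsg.Agent.KO8ae9c9a.e55.{ku0, ku1} : @List.zip.{ku0, ku1} = @_root_.Cfsg.Agent.KO8ae9c9a.k55.{ku0, ku1} := by delta _root_.Cfsg.Agent.KO8ae9c9a.k55; rewrite [← Cfsg.Agent.KO8ae9c9a.e39.{ku0, ku1, (max ku0 ku1)}]; rfl'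
private noncomputable def _root_.Cfsg.Agent.KO8ae9c9a.k56.{ku0} : ((x0 : Sort ku0) → ((x1 : Prop) → ((@Decidable @x1) → (x0 → (x0 → x0))))) := @(fun (x0 : Sort ku0) (x1 : Prop) (x2 : @Decidable @x1) (x3 : x0) (x4 : x0) => @Decidable.rec.{ku0} @x1 @(fun (x5 : @Decidable @x1) => x0) @(fun (x5 : @Not @x1) => x4) @(fun (x5 : x1) => x3) @x2)
private theorem _root_.Cfsg.Agent.KO8ae9c9a.e56.{ku0} : @ite.{ku0} = @_root_.Cfsg.Agent.KO8ae9c9a.k56.{ku0} := by delta _root_.Cfsg.Agent.KO8ae9c9a.k56; rfl'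
private noncomputable def _root_.Cfsg.Agent.KO8ae9c9a.k57 : ((x0 : @Nat) → ((x1 : @Nat) → @Decidable (@LE.le.{0} @Nat @instLENat @x0 @x1))) := @(fun (x0 : @Nat) (x1 : @Nat) => @Decidable.rec.{1} (@Eq.{1} @Bool (@Nat.ble @x0 @x1) @Bool.true) @(fun (x2 : @Decidable (@Eq.{1} @Bool (@Nat.ble @x0 @x1) @Bool.true)) => @Decidable (@LE.le.{0} @Nat @instLENat @x0 @x1)) @(fun (x2 : @Not (@Eq.{1} @Bool (@Nat.ble @x0 @x1) @Bool.true)) => @Decidable.isFalse (@LE.le.{0} @Nat @instLENat @x0 @x1) (@Nat.not_le_of_not_ble_eq_true @x0 @x1 @x2)) @(fun (x2 : @Eq.{1} @Bool (@Nat.ble @x0 @x1) @Bool.true) => @Decidable.isTrue (@LE.le.{0} @Nat @instLENat @x0 @x1) (@Nat.le_of_ble_eq_true @x0 @x1 @x2)) (@Cfsg.Agent.KO8ae9c9a.k44 (@Nat.ble @x0 @x1) @Bool.true))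
private theorem _root_.Cfsg.Agent.KO8ae9c9a.e57 : @Nat.decLe = @_root_.Cfsg.Agent.KO8ae9c9a.k57 := by delta _root_.Cfsg.Agent.KO8ae9c9a.k57; rewrite [← Cfsg.Agent.KO8ae9c9a.e44]; rfl'
private noncomputable def _root_.Cfsg.Agent.KO8ae9c9a.k58 : ((x0 : @Nat) → ((x1 : @Nat) → @Decidable (@LT.lt.{0} @Nat @instLTNat @x0 @x1))) := @(fun (x0 : @Nat) (x1 : @Nat) => @Cfsg.Agent.KO8ae9c9a.k57 (@Nat.succ @x0) @x1)
private theorem _root_.Cfsg.Agent.KO8ae9c9a.e58 : @Nat.decLt = @_root_.Cfsg.Agent.KO8ae9c9a.k58 := by delta _root_.Cfsg.Agent.KO8ae9c9a.k58; rewrite [← Cfsg.Agent.KO8ae9c9a.e57]; rfl'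

theorem main : allL (fun p => and (decide (dot RY p.1 = dot RG p.2))
      (Nat.blt (Nat.add (Nat.mul (wt p.1) (2 ^ 40)) (Nat.mul (wt p.2) (2 ^ 81))) bs)) ((rels lvY []).zip cfY) = true ∧
    allL (fun j => and (decide (nth sgY j * nth RX j + 0 = (if j < 49 then 0 else 1) * nth RY 66 + nth RY j))
      (Nat.blt (Nat.add (ab (nth sgY j) * 2 ^ 40 + 0) (ab (if j < 49 then 0 else 1) * 2 ^ 40 + 2 ^ 40)) bs))
      (List.range 66) = true := by (first | (refine of_decide_eq_true ?_; delta Cfsg.Agent.MK.S7.TY.RY Cfsg.Agent.MK.S7.TY.RG Cfsg.Agent.MK.S7.TY.RT Cfsg.Agent.MK.S7.TY.RX; rewrite [Cfsg.Agent.KO8ae9c9a.e33, Cfsg.Agent.KO8ae9c9a.e17, Cfsg.Agent.KO8ae9c9a.e53, Cfsg.Agent.KO8ae9c9a.e52, Cfsg.Agent.KO8ae9c9a.e47, Cfsg.Agent.KO8ae9c9a.e6, Cfsg.Agent.KO8ae9c9a.e50.{0}, Cfsg.Agent.KO8ae9c9a.e14.{0, 0}, Cfsg.Agent.KO8ae9c9a.e41, Cfsg.Agent.KO8ae9c9a.e54, Cfsg.Agent.KO8ae9c9a.e37, Cfsg.Agent.KO8ae9c9a.e55.{0, 0}, Cfsg.Agent.KO8ae9c9a.e51, Cfsg.Agent.KO8ae9c9a.e56.{1},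 Cfsg.Agent.KO8ae9c9a.e58, Cfsg.Agent.KO8ae9c9a.e36, Cfsg.Agent.KO8ae9c9a.e42, Cfsg.Agent.KO8ae9c9a.e45]; decide +kernel) | decide +kernel)

private noncomputable def _root_.Cfsg.Agent.KO8ae9c9a.k59 : (by first | exact type_of% @Cfsg.Agent.TAB.Eng.frcL | exact Unit : Sort _) := by first | (refine @Subtype.val _ (fun g => @Cfsg.Agent.TAB.Eng.frcL = @g) (@Subtype.mk _ _ (@(fun (x0 : Type) (x1 : @List.{0} @Nat) => @List.rec.{1, 0} @Nat @(fun (x2 : @List.{0} @Nat) => (((@List.{0} @Nat) → x0) → x0)) @(fun (x2 : ((@List.{0} @Nat) → x0)) => @x2 (@List.nil.{0} @Nat)) @(fun (x2 : @Nat) (x3 : @List.{0} @Nat) (x4 : (((@List.{0} @Nat) → x0) → x0)) (x5 : ((@List.{0} @Nat) → x0)) => @Cfsg.Agent.KO8ae9c9a.k0 @x0 @x2 @(fun (x6 : @Nat) => @x4 @(fun (x7 : @List.{0} @Nat) => @x5 (@List.cons.{0} @Nat @x6 @x7)))) @x1)) ?_); rewrite [← Cfsg.Agent.KO8ae9c9a.e0]; (try delta Cfsg.Agent.TAB.Eng.frcL); (try generalize @Cfsg.Agent.TAB.Eng.frc = g0); rfl') | exact @Cfsg.Agent.TAB.Eng.frcL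 | exact ()
private theorem _root_.Cfsg.Agent.KO8ae9c9a.e59 : (by first | exact @Cfsg.Agent.TAB.Eng.frcL = @_root_.Cfsg.Agent.KO8ae9c9a.k59 | exact True : Prop) := by first | (delta _root_.Cfsg.Agent.KO8ae9c9a.k59; exact @Subtype.property _ (fun g => @Cfsg.Agent.TAB.Eng.frcL = @g) _) | rfl | trivial
private noncomputable def _root_.Cfsg.Agent.KO8ae9c9a.k60.{ku0} : ((x0 : Sort (ku0+1)) → ((x0 → @Bool) → ((@List.{ku0} @x0) → @List.{ku0} @x0))) := @(fun (x0 : Sort (ku0+1)) (x1 : (x0 → @Bool)) (x2 : @List.{ku0} @x0) => @List.rec.{(ku0+1), ku0} @x0 @(fun (x3 : @List.{ku0} @x0) => @List.{ku0} @x0) (@List.nil.{ku0} @x0) @(fun (x3 : x0) (x4 : @List.{ku0} @x0) (x5 : @List.{ku0} @x0) => @Bool.rec.{(ku0+1)} @(fun (x6 : @Bool) => @List.{ku0} @x0) @x5 (@List.cons.{ku0} @x0 @x3 @x5) (@x1 @x3)) @x2)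
private theorem _root_.Cfsg.Agent.KO8ae9c9a.e60.{ku0} : @List.filter.{ku0} = @_root_.Cfsg.Agent.KO8ae9c9a.k60.{ku0} := by delta _root_.Cfsg.Agent.KO8ae9c9a.k60; funext a0 a1 a2; refine (_root_.Cfsg.Agent.KO8ae9c9a.e1 (fun a2 => @List.filter.{ku0} a0 a1 a2) ?_ (fun c0 c1 => ?_) a2 :) <;> (rfl')
private noncomputable def _root_.Cfsg.Agent.KO8ae9c9a.k61 : @DecidableEq.{1} @Nat := @Cfsg.Agent.KO8ae9c9a.k8
private theorem _root_.Cfsg.Agent.KO8ae9c9a.e61 : @instDecidableEqNat = @_root_.Cfsg.Agent.KO8ae9c9a.k61 := by delta _root_.Cfsg.Agent.KO8ae9c9a.k61; rewrite [← Cfsg.Agent.KO8ae9c9a.e8]; rfl'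
private noncomputable def _root_.Cfsg.Agent.KO8ae9c9a.k62.{ku0} : ((x0 : Sort (ku0+1)) → ((@Add.{ku0} @x0) → ((@Zero.{ku0} @x0) → ((@List.{ku0} @x0) → x0)))) := @(fun (x0 : Sort (ku0+1)) (x1 : @Add.{ku0} @x0) (x2 : @Zero.{ku0} @x0) => @Cfsg.Agent.KO8ae9c9a.k25.{ku0, ku0} @x0 @x0 @(fun (x3 : x0) (x4 : x0) => @Add.add.{ku0} @x0 @x1 @x3 @x4) (@Zero.zero.{ku0} @x0 @x2))
private theorem _root_.Cfsg.Agent.KO8ae9c9a.e62.{ku0} : @List.sum.{ku0} = @_root_.Cfsg.Agent.KO8ae9c9a.k62.{ku0} := by delta _root_.Cfsg.Agent.KO8ae9c9a.k62; rewrite [← Cfsg.Agent.KO8ae9c9a.e25.{ku0, ku0}]; rfl'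
private noncomputable def _root_.Cfsg.Agent.KO8ae9c9a.k63 : (by first | exact type_of% @Cfsg.Agent.TAB.Eng.Dat.cnt | exact Unit : Sort _) := by first | (refine @Subtype.val _ (fun g => @Cfsg.Agent.TAB.Eng.Dat.cnt = @g) (@Subtype.mk _ _ (@(fun (x0 : @Cfsg.Agent.TAB.Eng.Dat) (x1 : @Nat) => @Option.rec.{1, 0} @Nat @(fun (x2 : @Option.{0} @Nat) => @Nat) (nat_lit 0) @(fun (x2 : @Nat) => x2) (@Cfsg.Agent.KO8ae9c9a.k49.{0} @Nat (@Cfsg.Agent.TAB.Eng.Dat.cntL @x0) @x1))) ?_); rewrite [← Cfsg.Agent.KO8ae9c9a.e49.{0}]; rfl') | exact @Cfsg.Agent.TAB.Eng.Dat.cnt | exact ()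
private theorem _root_.Cfsg.Agent.KO8ae9c9a.e63 : (by first | exact @Cfsg.Agent.TAB.Eng.Dat.cnt = @_root_.Cfsg.Agent.KO8ae9c9a.k63 | exact True : Prop) := by first | (delta _root_.Cfsg.Agent.KO8ae9c9a.k63; exact @Subtype.property _ (fun g => @Cfsg.Agent.TAB.Eng.Dat.cnt = @g) _) | rfl | trivial

theorem fib : allL (fun s => frcL ((List.range 161).filter fun t => proj.getD t 0 == s) fun ts =>
    and (decide ((ts.map fun t => (DX.cnt t : ℤ) * hor bs (ntd colsX [] t)).sum = 0))
      (Nat.blt (Nat.add (Nat.mul (ts.map DX.cnt).sum (2 ^ 40)) 0) bs)) (List.range 94) = true := by (first | (rewrite [Cfsg.Agent.KO8ae9c9a.e17, Cfsg.Agent.KO8ae9c9a.e59, Cfsg.Agent.KO8ae9c9a.e60.{0}, Cfsg.Agent.KO8ae9c9a.e61, Cfsg.Agent.KO8ae9c9a.e50.{0}, Cfsg.Agent.KO8ae9c9a.e36, Cfsg.Agent.KO8ae9c9a.e53, Cfsg.Agent.KO8ae9c9a.e33, Cfsg.Agent.KO8ae9c9a.e62.{0}, Cfsg.Agent.KO8ae9c9a.e14.{0, 0}, Cfsg.Agent.KO8ae9c9a.e63, Cfsg.Agent.KO8ae9c9a.e6, Cfsg.Agent.KO8ae9c9a.e54]; decide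 +kernel) | decide +kernel)

theorem kX : KL bs 161 (ntd colsX []) RX (2 ^ 40) := kl_rows (allL_of fun t _ => bd_ntd bounds.1 t)

theorem kY : KL bs 161 (ntd colsY []) RY (2 ^ 40) := kl_rows bounds.2.1

theorem kT : KL bs 161 (fun t => ntd colsT [] (proj.getD t 0)) RT (2 ^ 40) :=
  kl_rows (allL_of fun t _ => bd_ntd bounds.2.2.1 _)

theorem kG : KL bs 161 gY RG (2 ^ 81) :=
  KL.cons (kr_hor bounds.2.2.2.1) (KL.cons ((kT.dot cU).mono bounds.2.2.2.2.1) (kX.map bounds.2.2.2.2.2))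

end TY

theorem ok_cfY : okL DX.n colsY gY ((rels lvY []).zip cfY) = true := TY.allL_of fun t ht => by
  rw [frcLZ_eq, frcLZ_eq]
  refine TY.allL_of fun p hp => decide_eq_true ?_
  obtain ⟨h1, h2⟩ := Bool.and_eq_true_iff.1 (allL_spec TY.main.1 p hp)
  exact (TY.kY.dot p.1).ext (TY.kG.dot p.2) (of_decide_eq_true h1) h2 t (List.mem_range.1 ht)

theorem lt_cfY : (∀ p ∈ (rels lvY []).zip cfY, ∀ q ∈ p.2, q.2 < 68) ∧ (rels lvY []).length ≤ cfY.length ∧
    (rels lvX [] ++ exX).length = 66 ∧ ∀ p ∈ cU, p.2 < nmT.length := by decide +kernel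

theorem ok_XY : allL (fun t => frcLZ (ntd colsX [] t) fun c => frcLZ (ntd colsY [] t) fun c' =>
    allL (fun j => decide (nth sgY j * nth c j = nth c' j + (if j < 49 then 0 else 1) * nth c' 66)) (List.range 66))
    (List.range 161) = true := TY.allL_of fun t ht => by
  rw [frcLZ_eq, frcLZ_eq]
  refine TY.allL_of fun j hj => decide_eq_true ?_
  obtain ⟨h1, h2⟩ := Bool.and_eq_true_iff.1 (allL_spec TY.main.2 j hj)
  have h3 := ((TY.kX j).lin _ TY.Kr.zero).ext ((TY.kY 66).lin _ (TY.kY j)) (of_decide_eq_true h1) h2 t (List.mem_range.1 ht)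
  exact (add_zero _).symm.trans (h3.trans (add_comm _ _))

theorem ok_fib : allL (fun s => frcL ((List.range 161).filter fun t => proj.getD t 0 == s) fun ts =>
    allL (fun j => decide ((ts.map fun t => (DX.cnt t : ℤ) * rw colsX j t).sum = 0)) (List.range 66))
    (List.range 94) = true := TY.allL_of fun s hs => by
  have h := allL_spec TY.fib s hs
  rw [frcL_eq] at h ⊢
  obtain ⟨h1, h2⟩ := Bool.and_eq_true_iff.1 h
  exact TY.allL_of fun j hj => decide_eq_true ((TY.kr_sum DX.cnt (fun t => TY.kr_hor (TY.bd_ntd TY.bounds.1 t)) _).ext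
    TY.Kr.zero (of_decide_eq_true h1) h2 j (Nat.lt_succ_of_lt (List.mem_range.1 hj)))

end Cfsg.Agent.MK.S7
end

-- part: MK/S7/GX
section
prune_inst 0x7f00000000000000000000000000000000000000000000000000000000000000000000000000000000000000000000000000000000000000000000000000000000000000000000000000000000000000003fffffffffffffffffffffffffffbeffbdffffffff
set_option linter.all false
open scoped Cfsg.Agent.FastGrp

/-!
# MK, `3.Fi₂₄'` : the faithful characters of odd degree (helper16)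
-/

set_option autoImplicit false
set_option maxRecDepth 100000

namespace Cfsg.Agent.MK.S7

open Cfsg Finset Cfsg.Agent.TAB.Eng Cfsg.Agent.TAB.Use Cfsg.Agent.TAB.Glue Cfsg.Agent.TAB.Cov Cfsg.Agent.TAB.F24
open Cfsg.Agent.Characters Cfsg.Agent.Characters.Core Cfsg.Spor

theorem sum_filter_map (l : List ℕ) (p : ℕ → Bool) (f : ℕ → ℤ) :
    ((l.filter p).map f).sum = (l.map fun t => if p t = true then f t else 0).sum := by
  induction l with
  | nil => rfl
  | cons a l ih => cases h : p a <;> simp [h, ih]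

variable {X : Type} [Group X] [Finite X] (S : Sc X)

omit [Finite X] in
theorem z_cube : S.z ^ 3 = 1 := S.ord ▸ pow_orderOf_eq_one S.z

omit [Finite X] in
theorem pi_z : S.pi S.z = 1 := by
  rw [← MonoidHom.mem_ker, S.ker]
  exact Subgroup.mem_zpowers _

/-- **the sums over the fibres** -/
theorem fib_zero (f : ℕ → ℤ) (h : ∀ s < 94, ∑ t ∈ range 161, (if proj.getD t 0 = s then (DX.cnt t : ℤ) * f t else 0) = 0)
    (x : X) : f (S.T.ty x) + f (S.T.ty (S.z * x)) + f (S.T.ty (S.z * (S.z * x))) = 0 := by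
  classical
  have := Fintype.ofFinite X
  have := S.mn.finite
  have hc : ∀ y, S.z * y = y * S.z := fun y => (Subgroup.mem_center_iff.1 S.cen y).symm
  have h3 : ∀ y, S.z * (S.z * (S.z * y)) = y := fun y => by
    rw [← mul_assoc, ← mul_assoc, ← pow_three', z_cube, one_mul]
  obtain ⟨F, hF⟩ : ∃ F : X → ℤ, ∀ y, F y = f (S.T.ty y) + f (S.T.ty (S.z * y)) + f (S.T.ty (S.z * (S.z * y))) :=
    ⟨_, fun _ => rfl⟩
  have F1 : ∀ y, F (S.z * y) = F y := fun y => by
    rw [hF, hF, h3]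
    ring
  have F2 : ∀ y y', S.pi y = S.pi y' → F y = F y' := fun y y' e => by
    have h1 : y * y'⁻¹ ∈ S.pi.ker := by rw [MonoidHom.mem_ker, map_mul, map_inv, e, mul_inv_cancel]
    rw [S.ker, ← mem_powers_iff_mem_zpowers] at h1
    obtain ⟨n, h1⟩ := h1
    obtain rfl : y = S.z ^ n * y' := mul_inv_eq_iff_eq_mul.1 (show S.z ^ n = _ from h1).symm
    clear h1 e
    induction n with
    | zero => rw [pow_zero, one_mul]
    | succ n ih => rw [pow_succ', mul_assoc, F1, ih]
  have F3 : ∀ y c, F (c * y * c⁻¹) = F y := fun y c => by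
    have h1 : ∀ y, S.z * (c * y * c⁻¹) = c * (S.z * y) * c⁻¹ := fun y => by
      rw [← mul_assoc, ← mul_assoc, hc c, mul_assoc c]
    rw [hF, hF, h1, h1, S.T.conj, S.T.conj, S.T.conj]
  have F4 : ∀ y, F (S.al y) = F y := fun y => by
    have h1 : ∀ y, S.z * S.al y = S.al (S.z * (S.z * y)) := fun y => by
      rw [map_mul, map_mul, S.al_z, ← h3 (S.z⁻¹ * _), mul_inv_cancel_left, mul_inv_cancel_left]
    rw [hF, hF, h1, h1, h3, S.rat.1, S.rat.1, S.rat.1]
    ring
  have F5 : ∀ y m, Nat.Coprime m (3 * orderOf (S.pi y)) → F (y ^ m) = F y := fun y m hm => by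
    have h1 : ∀ y', S.pi y' = S.pi y → S.T.ty (y' ^ m) = S.T.ty y' := fun y' e =>
      S.T.pow_coprime (hm.coprime_dvd_right (by
        have h2 : y' ^ orderOf (S.pi y) ∈ S.pi.ker := by rw [MonoidHom.mem_ker, map_pow, e, pow_orderOf_eq_one]
        rw [S.ker, ← mem_powers_iff_mem_zpowers] at h2
        obtain ⟨n, h2⟩ := h2
        rw [orderOf_dvd_iff_pow_eq_one, mul_comm, pow_mul, ← h2, ← pow_mul, mul_comm, pow_mul, z_cube, one_pow]))
    have h2 := h1 (S.z * y) (by rw [map_mul, pi_z, one_mul])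
    have h4 := h1 (S.z * (S.z * y)) (by rw [map_mul, map_mul, pi_z, one_mul, one_mul])
    have h5 : ∀ y, (S.z * y) ^ m = S.z ^ (m % 3) * y ^ m := fun y => by
      rw [(show Commute S.z y from hc y).mul_pow, ← S.ord, pow_mod_orderOf]
    have h7 : ¬ 3 ∣ m := Nat.prime_three.coprime_iff_not_dvd.1 (Nat.Coprime.coprime_mul_right_right hm).symm
    rw [h5, h5] at h4
    rw [h5] at h2
    rw [hF, hF, h1 y rfl]
    rcases (by omega : m % 3 = 1 ∨ m % 3 = 2) with h8 | h8 <;> rw [h8] at h2 h4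
    · rw [pow_one] at h2 h4
      rw [h2, h4]
    · simp only [pow_two, mul_assoc, h3] at h2 h4
      rw [h2, h4]
      ring
  have F6 : ∀ y, S.T'.ty (S.pi x) = S.T'.ty (S.pi y) → F y = F x := fun y e => by
    obtain ⟨k, hk⟩ := S.rat'.2 _ _ e
    have ho : orderOf (S.pi x) = orderOf (S.pi y) := by rw [S.T'.ord, S.T'.ord, e]
    have h1 : Nat.Coprime k (orderOf (S.pi x)) := hk.elim (TAB.ON.coprime_of_conj ho) fun hk => by
      rw [← S.al'.orderOf_eq]
      exact TAB.ON.coprime_of_conj ((S.al'.orderOf_eq _).trans ho) (by rwa [← map_pow])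
    obtain ⟨m, h2, h4⟩ := TAB.F24C.exists_cop h1
    rw [← pow_eq_pow_iff_modEq.2 h4, ← map_pow, ← S.pi_al] at hk
    rw [← F5 x m h2]
    rcases hk with hk | hk <;> obtain ⟨c, hk⟩ := isConj_iff.1 hk <;> obtain ⟨c, rfl⟩ := S.surj c <;>
      rw [← map_inv, ← map_mul, ← map_mul] at hk
    · rw [← F2 _ _ hk, F3]
    · rw [← F2 _ _ hk, F3, F4]
  obtain ⟨u, hu⟩ : ∃ u : X → ℤ, ∀ y, u y = if S.T'.ty (S.pi x) = S.T'.ty (S.pi y) then f (S.T.ty y) else 0 :=
    ⟨_, fun _ => rfl⟩
  have h1 : ∑ y, u y = 0 := by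
    rw [← h _ (S.T'.lt (S.pi x))]
    simp only [hu, S.prj]
    rw [sum_mass S.mass fun t => if proj.getD (S.T.ty x) 0 = proj.getD t 0 then f t else 0]
    exact Finset.sum_congr rfl fun t _ => by simp only [smul_ite, smul_zero, nsmul_eq_mul, eq_comm]
  have h2 : ∑ y, u (S.z * y) = 0 := (Equiv.sum_comp (Equiv.mulLeft S.z) u).trans h1
  have h4 : ∑ y, u (S.z * (S.z * y)) = 0 := (Equiv.sum_comp (Equiv.mulLeft S.z) fun y => u (S.z * y)).trans h2
  have h5 : ∑ y, (if S.T'.ty (S.pi x) = S.T'.ty (S.pi y) then 1 else 0) * F x = 0 := by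
    refine Eq.trans ?_ (show ∑ y, u y + ∑ y, u (S.z * y) + ∑ y, u (S.z * (S.z * y)) = 0 by
      rw [h1, h2, h4, add_zero, add_zero])
    rw [← Finset.sum_add_distrib, ← Finset.sum_add_distrib]
    refine Finset.sum_congr rfl fun y _ => ?_
    simp only [hu, map_mul, pi_z, one_mul]
    split_ifs with e
    · rw [one_mul, ← F6 y e, hF]
    · rw [zero_mul, add_zero, add_zero]
  rw [← Finset.sum_mul, Finset.sum_boole, mul_eq_zero] at h5
  rw [← hF]
  refine h5.resolve_left ?_
  exact Nat.cast_ne_zero.2 (Finset.card_ne_zero.2 ⟨x, Finset.mem_filter.2 ⟨Finset.mem_univ _, rfl⟩⟩)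

theorem fibX {j : ℕ} (hj : j < 66) (x : X) :
    rw colsX j (S.T.ty x) + rw colsX j (S.T.ty (S.z * x)) + rw colsX j (S.T.ty (S.z * (S.z * x))) = 0 :=
  fib_zero S (rw colsX j) (fun s hs => by
    have h1 := allL_spec ok_fib s (List.mem_range.2 hs)
    rw [frcL_eq] at h1
    have h2 := of_decide_eq_true (allL_spec h1 j (List.mem_range.2 hj))
    rw [sum_filter_map, TAB.ON.sum_list] at h2
    simpa only [beq_iff_eq] using h2) x

theorem xy {j : ℕ} (hj : j < 66) {t : ℕ} (ht : t < 161) :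
    nth sgY j * rw colsX j t = rw colsY j t + (if j < 49 then 0 else 1) * rw colsY 66 t := by
  have h1 := allL_spec ok_XY t (List.mem_range.2 ht)
  rw [frcLZ_eq, frcLZ_eq] at h1
  exact of_decide_eq_true (allL_spec h1 j (List.mem_range.2 hj))

theorem xy' {j : ℕ} (hj : j < 49) {t : ℕ} (ht : t < 161) : rw colsY j t = rw colsX j t := by
  have h1 := xy (hj.trans (by decide)) ht
  rw [if_pos hj, (by decide +kernel : ∀ j < 49, nth sgY j = 1) j hj] at h1
  omega

theorem virtX0 : ∀ x ∈ rels lvX [] ++ exX, Virt S.T (cmb colsX x) :=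
  virt_two S.mass.1 okLenX okPLX S.mn.seeds ok_gX ok_bX allX lt_exX

theorem virtG : ∀ i < 68, Virt S.T fun t => nth (gY t) i
  | 0, _ => S.mn.seeds sX0 (by simp [seedsX, sdX])
  | 1, _ => by
    have := S.mn.finite
    refine (virt_infl S.pi S.prj (by decide +kernel) (Virt.cmb fun p hp =>
      virtT S.mass' S.rat' S.mn.al_al' S.mn.vT _ (lt_cfY.2.2.2 p hp))).congr fun t ht => ?_
    have h1 : t < proj.length := ht.trans_eq (by decide +kernel)
    rw [nth_eq, List.getD_eq_getElem _ _ (by rwa [List.length_map]), List.getElem_map, ← List.getD_eq_getElem _ 0 h1]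
    rfl
  | i + 2, hi => by
    have h1 : i < (rels lvX [] ++ exX).length := by rw [lt_cfY.2.2.1]; omega
    refine (virtX0 S _ (List.getElem_mem h1)).congr fun t _ => ?_
    refine Eq.trans ?_ (show nth (cmbs colsX (rels lvX [] ++ exX) t) i = _ from rfl)
    rw [nth_eq, cmbs, List.getD_eq_getElem _ _ (by rwa [List.length_map]), List.getElem_map]
    rfl

theorem virt49 : ∀ j < 49, Virt S.T (rw colsX j) := fun j hj => by
  have := Fintype.ofFinite X
  refine (virt_half S.cen (z_cube S) S.mass (orth_of_chkG okLenX gramY) ok_lvY okJ_lvY (by decide) (fun x hx => ?_)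
    (fun j hj x => ?_) j hj).congr fun t ht => xy' hj ht
  · rw [← List.map_fst_zip lt_cfY.2.1] at hx
    obtain ⟨p, hp, rfl⟩ := List.mem_map.1 hx
    exact virt_okL ok_cfY (virtG S) lt_cfY.1 p hp
  · rw [xy' hj (S.T.lt _), xy' hj (S.T.lt _), xy' hj (S.T.lt _)]
    exact fibX S (hj.trans (by decide)) x

theorem virt66 : ∀ j < 66, Virt S.T (rw colsX j) := fun j hj => by
  have h4 := List.all_eq_true.1 ok_exX j (List.mem_range.2 hj)
  simp only [Bool.or_eq_true, decide_eq_true_eq, List.any_eq_true, Bool.and_eq_true, beq_iff_eq,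
    List.all_eq_true] at h4
  rcases h4 with h4 | ⟨x, h4, h5, h6⟩
  · exact virt49 S j h4
  · cases x with
    | nil => cases h5
    | cons p c =>
      obtain rfl : p = (1, j) := Option.some.inj h5
      refine ((virtX0 S _ (List.mem_append_right _ h4)).add
        ((Virt.cmb (c := c) fun q hq => virt49 S _ (h6 q hq)).smul (-1))).congr fun t _ => ?_
      rw [cmb_cons]
      ring

/-- half the norm -/
def mW (j : ℕ) : ℕ := if j < 49 then nmY.getD j 0 / 2 else 2

/-- the star -/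
def sW (j : ℕ) : ℕ := if j < 49 then 0 else 1

theorem shapeW : Shape 66 1 mW sW := ⟨by decide +kernel, by decide +kernel, by decide +kernel, by decide +kernel⟩

private noncomputable def _root_.Cfsg.Agent.LsF.f2c626c_0 : {f // @Cfsg.Agent.TAB.Eng.gam = f} := ⟨_, by first | (delta Cfsg.Agent.TAB.Eng.gam; rewrite [Cfsg.Agent.LsF.icast_pat, Cfsg.Agent.LsF.instDecEq_eq, Cfsg.Agent.LsF.dAnd_eq, Cfsg.Agent.LsF.dNot_eq, Cfsg.Agent.LsF.ite_eq]; exact rfl) | exact rfl⟩
private noncomputable def _root_.Cfsg.Agent.LsF.f2c626c_1 : {f // @Cfsg.Agent.MK.S7.mW = f} := ⟨_, by first | (delta Cfsg.Agent.MK.S7.mW; rewrite [Cfsg.Agent.LsF.ndiv_pat, Cfsg.Agent.LsF.decLt_eq, Cfsg.Agent.LsF.getD_eq, Cfsg.Agent.LsF.ite_eq]; exact rfl) | exact rfl⟩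
private noncomputable def _root_.Cfsg.Agent.LsF.f2c626c_2 : {f // @Cfsg.Agent.MK.S7.sW = f} := ⟨_, by first | (delta Cfsg.Agent.MK.S7.sW; rewrite [Cfsg.Agent.LsF.decLt_eq, Cfsg.Agent.LsF.ite_eq]; exact rfl) | exact rfl⟩
theorem gamW : ∀ i < 66, ∀ j < 66, (if i = j then ((ntd nmY 0 i : ℕ) : ℤ) else 0) +
    (if i < 49 then 0 else 1) * (if j < 49 then 0 else 1) * (ntd nmY 0 66 : ℕ) = 2 * gam mW sW i j := by (refine of_decide_eq_true ?_; (try (rewrite [Cfsg.Agent.LsF.f2c626c_0.2, Cfsg.Agent.LsF.f2c626c_1.2, Cfsg.Agent.LsF.f2c626c_2.2, Cfsg.Agent.LsF.iadd_pat, Cfsg.Agent.LsF.imul_pat, Cfsg.Agent.LsF.icast_pat, Cfsg.Agent.LsF.instDecEq_eq, Cfsg.Agent.LsF.decLt_eq, Cfsg.Agent.LsF.instIDecEq_eq, Cfsg.Agent.LsF.dBallLT_eq, Cfsg.Agent.LsF.ite_eq, Cfsg.Agent.LsF.decide_eq])); decide +kernel)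

private noncomputable def _root_.Cfsg.Agent.LsF.f2c626c_3 : {f // @Cfsg.Agent.TAB.Eng.Dat.cnt = f} := ⟨_, by first | (delta Cfsg.Agent.TAB.Eng.Dat.cnt; rewrite [Cfsg.Agent.LsF.getD_eq]; exact rfl) | exact rfl⟩
set_option synthInstance.maxSize 2000 in
theorem sepW : ∀ j < 66, ∀ i < j, sW j = 0 → mW j = 2 → mW i = 2 → sW i = 0 →
    (∃ t < 161, 0 < DX.cnt t ∧ (nth sgY j * rw colsX j t + nth sgY i * rw colsX i t) % 2 ≠ 0) ∨
      (¬ nth sgY j * rw colsX j 0 + 1 * (nth sgY i * rw colsX i 0) ∣ 4 * (DX.N : ℤ) ∧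
        ¬ nth sgY j * rw colsX j 0 + -1 * (nth sgY i * rw colsX i 0) ∣ 4 * (DX.N : ℤ)) := by (refine of_decide_eq_true ?_; (try (rewrite [Cfsg.Agent.LsF.f2c626c_2.2, Cfsg.Agent.LsF.f2c626c_1.2, Cfsg.Agent.LsF.f2c626c_3.2, Cfsg.Agent.LsF.iadd_pat, Cfsg.Agent.LsF.imul_pat, Cfsg.Agent.LsF.imod_pat, Cfsg.Agent.LsF.ineg_pat, Cfsg.Agent.LsF.icast_pat, Cfsg.Agent.LsF.instDecEq_eq, Cfsg.Agent.LsF.decLt_eq, Cfsg.Agent.LsF.instIDecEq_eq, Cfsg.Agent.LsF.dAnd_eq, Cfsg.Agent.LsF.dOr_eq, Cfsg.Agent.LsF.dNot_eq, Cfsg.Agent.LsF.dBallLT_eq, Cfsg.Agent.LsF.dExistsLT_eq, Cfsg.Agent.LsF.dAllP_eq, Cfsg.Agent.LsF.idDvd_eq, Cfsg.Agent.LsF.decide_eq])); decide +kernel)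

theorem cntW : ∑ y ∈ range (66 + 1), (if sdeg 66 sW (fun j => nth sgY j * nth regX j) y % 2 = 1 then mlt 66 mW sW y
    else 0) = 32 := by decide +kernel

/-- the count for the cover of the scene -/
theorem card_sc {ω : ℂ} (hω : ω ^ 2 + ω + 1 = 0) : Nat.card {χ : X → ℂ // OI X χ ∧ χ S.z = ω * χ 1} = 32 := by
  classical
  have := Fintype.ofFinite X
  have := S.mn.finite
  have hO := orth_of_chkG okLenX gramY
  have h0 := TD.ty_eq_zero S.mass (by decide) (by decide +kernel) (by decide +kernel)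
  have h0' := TD.ty_eq_zero S.mass' (by decide) (by decide +kernel) (by decide +kernel)
  have hF := finX
  simp only [okF, Bool.and_eq_true] at hF
  have hb : ∀ x, ∑ j ∈ range 66, nth sgY j * nth regX j * (nth sgY j * rw colsX j (S.T.ty x)) =
      (if x = 1 then (DX.N : ℤ) else 0) - if S.pi x = 1 then (DT.N : ℤ) else 0 := fun x => by
    have h1 := of_decide_eq_true (allL_spec hF.2 _ (List.mem_range.2 (S.T.lt x)))
    rw [dotL_eq regX _ (k := 66) (by decide +kernel)] at h1
    simp only [h0, ← S.prj, h0'] at h1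
    refine Eq.trans (Finset.sum_congr rfl fun j hj => ?_) h1
    have h2 := (by decide +kernel : ∀ j < 66, nth sgY j * nth sgY j = 1) j (Finset.mem_range.1 hj)
    change _ = _ * rw colsX j _
    linear_combination nth regX j * rw colsX j (S.T.ty x) * h2
  refine (card_cov S.cen (z_cube S) hω shapeW (by decide +kernel) (fun j x => nth sgY j * rw colsX j (S.T.ty x))
    (fun j hj => (virt66 S j hj).smul _) (fun j hj x => ?_) (fun i hi j hj => ?_) (fun j hj i hi a b c d => ?_) _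
    (g := fun x => if S.pi x = 1 then (DT.N : ℤ) else 0) (fun x => ?_) ?_ fun x hx => ?_).trans cntW
  · rw [← mul_add, ← mul_add, fibX S hj, mul_zero]
  · refine inner_of_ipF S.mass (f := fun t => nth sgY i * rw colsX i t) (g := fun t => nth sgY j * rw colsX j t) ?_
    have h1 : ∀ i < 67, ∀ j < 67, ipF DX (rw colsY i) (rw colsY j) = if i = j then (DX.N : ℤ) * ntd nmY 0 i else 0 :=
      fun i hi j hj => by
        have h2 := hO i (by rwa [List.length_map, List.length_range]) j (by rwa [List.length_map, List.length_range])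
        rwa [rj, rj, ntd_rwL colsY (k := nmY.length) hi, ntd_rwL colsY (k := nmY.length) hj] at h2
    have h2 := h1 i (by omega) j (by omega)
    have h3 := h1 i (by omega) 66 (by omega)
    have h4 := h1 66 (by omega) j (by omega)
    have h5 := h1 66 (by omega) 66 (by omega)
    rw [if_neg (by omega)] at h3 h4
    rw [if_pos rfl] at h5
    have h6 : ipF DX (fun t => nth sgY i * rw colsX i t) (fun t => nth sgY j * rw colsX j t) =
        ipF DX (rw colsY i) (rw colsY j) + (if j < 49 then 0 else 1) * ipF DX (rw colsY i) (rw colsY 66) +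
          (if i < 49 then 0 else 1) * ipF DX (rw colsY 66) (rw colsY j) +
          (if i < 49 then 0 else 1) * (if j < 49 then 0 else 1) * ipF DX (rw colsY 66) (rw colsY 66) := by
      simp only [ipF, Finset.mul_sum, ← Finset.sum_add_distrib]
      refine Finset.sum_congr rfl fun t ht => ?_
      rw [xy hi (Finset.mem_range.1 ht), xy hj (Finset.mem_range.1 ht)]
      ring
    rw [h6, h2, h3, h4, h5, ← gamW i hi j hj]
    split_ifs <;> ring
  · rw [(h0 1).2 rfl, S.mass.1]
    refine (sepW j hj i hi a b c d).imp_left ?_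
    rintro ⟨t, ht, h1, h2⟩
    rw [← S.mass.2 t ht] at h1
    obtain ⟨⟨x, rfl⟩⟩ := (Nat.card_pos_iff.1 h1).1
    exact ⟨x, h2⟩
  · rw [map_mul, pi_z, one_mul]
  · rw [hb, if_pos rfl, S.mass.1]
  · rw [hb, if_neg hx, zero_sub]

omit S in
/-- **the faithful characters of odd degree of a triple cover** -/
theorem card_cov24 (φ : X →* Fi24') (h1 : Function.Surjective φ) (h2 : φ.ker ≤ Subgroup.center X)
    (h3 : Nat.card φ.ker = 3) (h4 : commutator X = ⊤) {z : X} (hz : z ∈ φ.ker) (hz1 : z ≠ 1) {ω : ℂ}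
    (hω : ω ^ 2 + ω + 1 = 0) : Nat.card {χ : X → ℂ // OI X χ ∧ χ z = ω * χ 1} = 32 := by
  obtain ⟨Y, _, _, ⟨S⟩⟩ := TAB.F24C.inF24
  have k1 : S.pi.ker ≤ Subgroup.center Y := S.ker ▸ Subgroup.zpowers_le_of_mem S.cen
  have k2 : Nat.card S.pi.ker = 3 := by rw [S.ker, Nat.card_zpowers, S.ord]
  rcases H133.FibPce.dichotomy (π := φ) (ρ := S.pi) ⟨h1, h2, h4⟩ ⟨S.surj, k1, S.perf⟩ (k2 ▸ Nat.prime_three)
    (h3.trans k2.symm) with h5 | ⟨e, he⟩
  · have h6 := H95.StemCover.card_ker_dvd_cyclic S2055.result h5 _ (H133.FibPce.pj_surj h1 S.surj)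
      (H133.FibPce.pj_ker h2 k1)
    rw [Nat.card_congr (H133.FibPce.kerFib φ S.pi).toEquiv, Nat.card_prod, h3, k2] at h6
    exact absurd h6 (by decide)
  have h5 : e z ∈ Subgroup.zpowers S.z := by rwa [← S.ker, MonoidHom.mem_ker, he]
  classical
  obtain ⟨n, h6, h7⟩ := Finset.mem_image.1 (mem_zpowers_iff_mem_range_orderOf.1 h5)
  rw [S.ord, Finset.mem_range] at h6
  obtain ⟨β, hβ⟩ : ∃ β : X ≃* Y, β z = S.z := by
    interval_cases n
    · exact absurd (e.map_eq_one_iff.1 (h7.symm.trans (pow_zero _))) hz1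
    · exact ⟨e, h7.symm.trans (pow_one _)⟩
    · refine ⟨e.trans S.al, ?_⟩
      rw [MulEquiv.trans_apply, ← h7, map_pow, S.al_z, inv_pow, inv_eq_iff_mul_eq_one, ← pow_succ, z_cube]
  rw [← card_sc S hω]
  exact T.card_congr β fun χ _ => by simp only [hβ, map_one]

omit S in
/-- **the count in the form of the interface** -/
theorem kk_cov (φ : X →* Fi24') (h1 : Function.Surjective φ) (h2 : φ.ker = Subgroup.center X)
    (h3 : Nat.card (Subgroup.center X) = 3) (h4 : commutator X = ⊤) {l : X → ℂ} (hl : Fa (Subgroup.center X) l)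
    (h0 : l 1 = 1) (hm : ∀ a ∈ Subgroup.center X, ∀ b ∈ Subgroup.center X, l (a * b) = l a * l b) :
    kk ⊤ (Subgroup.center X) l = 32 := by
  have : Fact (Nat.Prime 3) := ⟨Nat.prime_three⟩
  obtain ⟨z, hz, hz1⟩ := ((Subgroup.center X).bot_or_exists_ne_one).resolve_left fun h => by
    rw [h, Subgroup.card_bot] at h3
    cases h3
  have h5 : ∀ n : ℕ, l (z ^ n) = l z ^ n := fun n => by
    induction n with
    | zero => rw [pow_zero, pow_zero, h0]
    | succ n ih => rw [pow_succ, hm _ (pow_mem hz n) _ hz, ih, pow_succ]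
  have h6 : z ^ 3 = 1 := congrArg Subtype.val (h3 ▸ pow_card_eq_one' (x := (⟨z, hz⟩ : Subgroup.center X)))
  have h7 : l z ^ 2 + l z + 1 = 0 := mul_left_cancel₀ (sub_ne_zero.2 (mt (hl z hz) hz1)) (by
    have h7 := h5 3
    rw [h6, h0] at h7
    linear_combination -h7)
  rw [kk_top, ← card_cov24 φ h1 h2.le (h2 ▸ h3) h4 (h2 ▸ hz) hz1 h7]
  refine Nat.card_congr (Equiv.subtypeEquivRight fun χ => and_congr_right fun hχ => ⟨fun h => h z hz, fun h w hw => ?_⟩)
  obtain ⟨c, hc, -⟩ := ODD.Red.exists_central hχ.1 hz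
  obtain rfl : c = l z := mul_right_cancel₀ (isIrr_apply_one_ne_zero hχ.1) (by rw [← hc, mul_one, h])
  have h8 := mem_powers_of_prime_card h3 (g := (⟨z, hz⟩ : Subgroup.center X)) (g' := ⟨w, hw⟩)
    fun e => hz1 (congrArg Subtype.val e)
  obtain ⟨n, h8⟩ := h8
  obtain rfl : z ^ n = w := congrArg Subtype.val h8
  rw [h5]
  clear h8 hw
  induction n with
  | zero => rw [pow_zero, pow_zero, one_mul]
  | succ n ih => rw [pow_succ', hc, ih, pow_succ', mul_assoc]

end Cfsg.Agent.MK.S7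

private theorem dce_37cf8d622dc4 : _root_.True := by
  try have : _root_.True := by simp only [_root_.Cfsg.Agent.TAB.F24.sdX.eq_1]
  try have : _root_.True := by simp only [_root_.Cfsg.Agent.TAB.F24.seedsX.eq_1]
  exact _root_.True.intro
end
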